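import Mathlib.AlgebraicGeometry.Morphisms.Etale
import Mathlib.AlgebraicGeometry.Morphisms.UniversallyOpen
import Mathlib.AlgebraicGeometry.Morphisms.Flat
import Mathlib.AlgebraicGeometry.Morphisms.UnderlyingMap

/-!
# Affine refinement of an open surjection of schemes near a point
-/

set_option autoImplicit false
universe u
open CategoryTheory CategoryTheory.Limits AlgebraicGeometry

namespace K637.EtCover

theorem isPullback_id_of_mono {W Y X : Scheme.{u}} (δ : W ⟶ Y) (ψ : Y ⟶ X) [Mono ψ] :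
    IsPullback (𝟙 W) δ (δ ≫ ψ) ψ :=
  ⟨⟨by simp⟩, ⟨PullbackCone.IsLimit.mk _ (fun s => s.fst) (fun s => by simp)
    (fun s => by rw [← cancel_mono ψ, Category.assoc, s.condition])
    (fun s m h1 _ => by simpa using h1)⟩⟩

/-- A property stable under base change passes from `δ ≫ ψ` to `δ` for a monomorphism `ψ`. -/
theorem of_comp_mono {P : MorphismProperty Scheme.{u}} [P.IsStableUnderBaseChange] {W Y X : Scheme.{u}}
    {δ : W ⟶ Y} {ψ : Y ⟶ X} [Mono ψ] (h : P (δ ≫ ψ)) : P δ :=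
  MorphismProperty.of_isPullback (isPullback_id_of_mono δ ψ) h

/-- Near a point `v` hit by an open map `g : T ⟶ V`, the map `g` is refined by a surjection of affine schemes
`T₀ ⟶ V₀` with `V₀` an affine open neighbourhood of `v` and `T₀` an affine open of `T` containing a given point
over `v`. -/
theorem exists_local {T V : Scheme.{u}} (g : T ⟶ V) (hg : IsOpenMap g) (t₀ : T) :
    ∃ (V₀ T₀ : Scheme.{u}) (j : V₀ ⟶ V) (t : T₀ ⟶ T) (g₀ : T₀ ⟶ V₀), IsOpenImmersion j ∧ IsOpenImmersion t ∧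
      IsAffine V₀ ∧ IsAffine T₀ ∧ Surjective g₀ ∧ t₀ ∈ Set.range t ∧ g t₀ ∈ Set.range j ∧ t ≫ g = g₀ ≫ j := by
  obtain ⟨V₁, hV₁, hv, -⟩ := exists_isAffineOpen_mem_and_subset (x := g t₀) (U := ⊤) trivial
  obtain ⟨T₁, hT₁, ht, hle⟩ := exists_isAffineOpen_mem_and_subset (x := t₀) (U := g ⁻¹ᵁ V₁) hv
  have e : T₁ ≤ g ⁻¹ᵁ V₁ := hle
  let O : V.Opens := ⟨g '' T₁, hg _ T₁.2⟩
  obtain ⟨f, hf, hfv⟩ := hV₁.exists_basicOpen_le (V := O) ⟨g t₀, ⟨t₀, ht, rfl⟩⟩ hv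
  have hT₀ : IsAffineOpen (T₁ ⊓ g ⁻¹ᵁ V.basicOpen f) := by
    rw [← Scheme.basicOpen_appLE g T₁ V₁ e f]
    exact hT₁.basicOpen _
  have hV₀ : IsAffineOpen (V.basicOpen f) := hV₁.basicOpen f
  refine ⟨(V.basicOpen f).toScheme, (T₁ ⊓ g ⁻¹ᵁ V.basicOpen f).toScheme, Scheme.Opens.ι _, Scheme.Opens.ι _,
    g.resLE (V.basicOpen f) (T₁ ⊓ g ⁻¹ᵁ V.basicOpen f) inf_le_right, inferInstance, inferInstance, hV₀, hT₀,
    ⟨?_⟩, ?_, ?_, (Scheme.Hom.resLE_comp_ι _ _).symm⟩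
  · rintro ⟨y, hy⟩
    obtain ⟨x, hx, rfl⟩ := hf hy
    refine ⟨⟨x, hx, hy⟩, ?_⟩
    apply (V.basicOpen f).ι.isOpenEmbedding.injective
    rw [← Scheme.Hom.comp_apply, Scheme.Hom.resLE_comp_ι]
    rfl
  · rw [Scheme.Opens.range_ι]; exact ⟨ht, hfv⟩
  · rw [Scheme.Opens.range_ι]; exact hfv

end K637.EtCover
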