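import Groth.Agent.AlgSp.K597.LocP
import Groth.Agent.AlgSp.K629.Basic
import Groth.Agent.AlgSp.K637.EtCover
import Groth.Prelude.Def_AlgSpCov
import Mathlib.AlgebraicGeometry.Limits
import Mathlib.AlgebraicGeometry.Morphisms.Flat

/-!
# `LocP P` is fpqc local on the base, for `P` stable under FLAT base change only

* `FpqcLoc P`: `P` is etale local on the source and target, Zariski local on the target, stable under flat base
  change and descends along flat surjective quasi-compact morphisms (no stability under base change, no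
  stability under composition).
* `of_family`: descent along a family of flat maps `T j ⟶ V` refined by finitely many quasi-compact ones.
* `isLocalOnBase`: for such `P`, `LocP P` is fpqc local on the base in the sense of `AlgSp.IsLocalOnBase`.
-/

set_option autoImplicit false
set_option backward.isDefEq.respectTransparency false
set_option backward.isDefEq.respectTransparency.types false
universe u
open CategoryTheory CategoryTheory.Limits AlgebraicGeometry
open AlgSp

namespace K637.FpqcLocal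

/-- Hypotheses for fpqc locality on the base. -/
structure FpqcLoc (P : MorphismProperty Scheme.{u}) : Prop where
  etLoc : K597.EtLoc P
  target : IsZariskiLocalAtTarget P
  bc : ∀ {X Y X' Y' : Scheme.{u}} {f : X ⟶ Y} {g : Y' ⟶ Y} {f' : X' ⟶ Y'} {g' : X' ⟶ X},
    IsPullback g' f' f g → Flat g → P f → P f'
  desc : ∀ {X Y X' Y' : Scheme.{u}} {f : X ⟶ Y} {g : Y' ⟶ Y} {f' : X' ⟶ Y'} {g' : X' ⟶ X},
    IsPullback g' f' f g → Flat g → Surjective g → QuasiCompact g → P f' → P f

variable {P : MorphismProperty Scheme.{u}}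

/-- Descent along finitely many flat maps `T j ⟶ V` to an affine scheme, such that locally for an open surjection
`W' j ⟶ W j` jointly surjective maps `W j ⟶ V` from quasi-compact schemes factor through the `T j`. -/
theorem of_family (hP : FpqcLoc P) {U V : Scheme.{u}} [IsAffine V] (h : U ⟶ V) {m : ℕ} (T : Fin m → Scheme.{u})
    (c : ∀ j, T j ⟶ V) (hc : ∀ j, Flat (c j))
    (H : ∀ j, ∃ (Q : Scheme.{u}) (p : Q ⟶ U) (q : Q ⟶ T j), IsPullback p q h (c j) ∧ P q)
    (W W' : Fin m → Scheme.{u}) (hW : ∀ j, CompactSpace (W j)) (e : ∀ j, W' j ⟶ W j) (he : ∀ j, IsOpenMap (e j))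
    (hes : ∀ j, Surjective (e j)) (d : ∀ j, W j ⟶ V) (w : ∀ j, W' j ⟶ T j) (hw : ∀ j, e j ≫ d j = w j ≫ c j)
    (hs : ∀ v : V, ∃ j, v ∈ Set.range (d j)) : P h := by
  have haff : ∀ j (t : T j), ∃ O : (T j).Opens, IsAffineOpen O ∧ t ∈ O := fun j t => by
    obtain ⟨O, hO, ht, -⟩ := exists_isAffineOpen_mem_and_subset (x := t) (U := ⊤) trivial
    exact ⟨O, hO, ht⟩
  choose O hO hOt using haff
  have hfin : ∀ j, ∃ F : Finset (T j), ∀ x : W j, ∃ t ∈ F, ∃ x' : W' j, e j x' = x ∧ w j x' ∈ O j t := by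
    intro j
    have := hW j
    obtain ⟨F, hF⟩ := (isCompact_univ : IsCompact (Set.univ : Set (W j))).elim_finite_subcover
      (fun t => e j '' ((w j) ⁻¹' (O j t))) (fun t => he j _ ((O j t).2.preimage (w j).continuous)) (by
        intro x _
        obtain ⟨x', rfl⟩ := (hes j).surj x
        exact Set.mem_iUnion.2 ⟨w j x', x', hOt _ _, rfl⟩)
    refine ⟨F, fun x => ?_⟩
    obtain ⟨t, ht, x', hx', hx⟩ : ∃ t ∈ F, ∃ x' : W' j, w j x' ∈ O j t ∧ e j x' = x := by
      have := hF (Set.mem_univ x)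
      simpa using this
    exact ⟨t, ht, x', hx, hx'⟩
  choose F hF using hfin
  let K : Type u := Σ j : Fin m, {t : T j // t ∈ F j}
  let A : K → Scheme.{u} := fun k => (O k.1 k.2).toScheme
  have hA : ∀ k, IsAffine (A k) := fun k => hO _ _
  let a : ∀ k, A k ⟶ V := fun k => (O k.1 k.2).ι ≫ c k.1
  have ha : ∀ k, Flat (a k) := fun k => by
    have := hc k.1
    change Flat ((O k.1 k.2).ι ≫ c k.1)
    infer_instance
  let g : (∐ A) ⟶ V := Sigma.desc a
  have hg : Flat g := inferInstanceAs (Flat (Sigma.desc a))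
  have hgs : Surjective g := by
    refine ⟨fun v => ?_⟩
    obtain ⟨j, x, rfl⟩ := hs v
    obtain ⟨t, ht, x', rfl, hx'⟩ := hF j x
    refine ⟨Sigma.ι A ⟨j, t, ht⟩ ⟨w j x', hx'⟩, ?_⟩
    rw [← Scheme.Hom.comp_apply, Sigma.ι_desc, ← Scheme.Hom.comp_apply, hw, Scheme.Hom.comp_apply,
      Scheme.Hom.comp_apply]
    rfl
  have hgq : QuasiCompact g := inferInstance
  have sq := IsPullback.of_hasPullback h g
  refine hP.desc sq hg hgs hgq ?_
  have := hP.target
  refine IsZariskiLocalAtTarget.of_openCover (𝒰 := sigmaOpenCover A) (fun k => ?_)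
  change P (pullback.snd (pullback.snd h g) (Sigma.ι A k))
  obtain ⟨Q, p, q, sqQ, hq⟩ := H k.1
  have sq3 := (IsPullback.of_hasPullback (pullback.snd h g) (Sigma.ι A k)).paste_horiz sq
  have hk : Sigma.ι A k ≫ g = (O k.1 k.2).ι ≫ c k.1 := Sigma.ι_desc _ _
  rw [hk] at sq3
  have sq4 : IsPullback (sqQ.lift (pullback.fst (pullback.snd h g) (Sigma.ι A k) ≫ pullback.fst h g)
      (pullback.snd (pullback.snd h g) (Sigma.ι A k) ≫ (O k.1 k.2).ι) (by rw [sq3.w, Category.assoc]))
      (pullback.snd (pullback.snd h g) (Sigma.ι A k)) q (O k.1 k.2).ι := by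
    refine IsPullback.of_right (h₁₂ := p) (t := sqQ) ?_ (sqQ.lift_snd _ _ _)
    rw [sqQ.lift_fst]
    exact sq3
  exact hP.bc sq4 inferInstance hq

variable {S : Scheme.{u}}

/-- Flat base change of `LocP P`. -/
theorem locP_bc_flat (hP : FpqcLoc P) {F G F' G' : Sp S} {f : F ⟶ G} {g : G' ⟶ G}
    {g' : F' ⟶ F} {f' : F' ⟶ G'} (sq : IsPullback g' f' f g) (hF : K597.HasAtlas F) (hG : K597.HasAtlas G)
    (hG' : K597.HasAtlas G') (hg : LocP @Flat g) (h : LocP P f) : LocP P f' := by
  obtain ⟨U₀, a₀, ha, has⟩ := hF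
  obtain ⟨V, b, hb, hbs⟩ := hG
  obtain ⟨V₁, c₁, hc₁, hcs₁⟩ := hG'
  obtain ⟨V', c, k, hc, hcs, hk⟩ := K597.exists_chart_over g c₁ hc₁ hcs₁ b hb hbs
  obtain ⟨U, s, t, sqU, ht⟩ := K597.exists_sq2 hb (a₀ ≫ f)
  have hs : P s.left := h ((yon S).map t ≫ a₀) b s (K597.etale_comp (K597.etale_map t ht) ha) hb (by
    rw [Category.assoc, sqU.w])
  have sq1 : IsPullback ((yon S).map (pullback.fst s k ≫ t)) ((yon S).map (pullback.snd s k)) (a₀ ≫ f)
      (c ≫ g) := by
    rw [hk, Functor.map_comp]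
    exact IsPullback.paste_horiz ((IsPullback.of_hasPullback s k).map (yon S)) sqU.flip
  obtain ⟨α, h1, h2, h3, h4⟩ := K597.exists_chart_bc' sq sq1 ha has hc hcs
  refine K597.locP_of_chart hP.etLoc f' α c (pullback.snd s k) h1 h2 hc h4 ?_
  exact hP.bc ((IsPullback.of_hasPullback s k).map (Over.forget S)) (hg c b k hc hb hk) hs

theorem key (hP : FpqcLoc P) {ι : Type u} {Y : Sp S} (Yi : ι → Sp S) (g : ∀ i, Yi i ⟶ Y)
    (hYi : ∀ i, IsAlgSpace (Yi i)) (hg : IsFpqcCover Yi g) {X : Sp S} (f : X ⟶ Y)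
    (Xi : ι → Sp S) (p : ∀ i, Xi i ⟶ Yi i) (q : ∀ i, Xi i ⟶ X)
    (sq : ∀ i, IsPullback (q i) (p i) f (g i)) (hp : ∀ i, LocP P (p i)) {U V : Over S}
    (a : (yon S).obj U ⟶ X) (b : (yon S).obj V ⟶ Y) (h : U ⟶ V) (hV : IsAffine V.left)
    (ha : RepWith @Etale a) (hb : RepWith @Etale b) (comm : a ≫ f = (yon S).map h ≫ b) : P h.left := by
  obtain ⟨m, W, c, hW, hc, hs, hl⟩ := hg.2 V hV b
  choose i l hl using hl
  choose T y hy hys using fun j => (hYi (i j)).atlas
  choose T' c' t' sqT ht' using fun j => K629.Basic.exists_pb_yon hb (y j ≫ g (i j))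
  choose W' w' e sqW he using fun j => K629.Basic.exists_pb_yon (hy j) (l j)
  have hw0 : ∀ j, (yon S).map (e j ≫ c j) ≫ b = (yon S).map (w' j) ≫ y j ≫ g (i j) := fun j => by
    rw [Functor.map_comp, Category.assoc, ← hl, ← Category.assoc, ← (sqW j).w, Category.assoc]
  choose w hw using fun j => (yon S).map_surjective ((sqT j).lift _ _ (hw0 j))
  have hw1 : ∀ j, w j ≫ c' j = e j ≫ c j := fun j => by
    apply (yon S).map_injective
    rw [Functor.map_comp, hw]
    exact (sqT j).lift_fst _ _ _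
  refine of_family hP h.left (fun j => (T' j).left) (fun j => (c' j).left) (fun j => ?_) (fun j => ?_)
    (fun j => (W j).left) (fun j => (W' j).left) (fun j => ?_) (fun j => (e j).left) (fun j => ?_) (fun j => ?_)
    (fun j => (c j).left) (fun j => (w j).left) (fun j => ?_) hs
  · exact hg.1 (i j) ((yon S).map (t' j) ≫ y j) b (c' j) (K629.Basic.repWith_etale_yon_comp (ht' j) (hy j)) hb (by
      rw [Category.assoc]; exact (sqT j).w.symm)
  · have sqU : IsPullback (pullback.fst h (c' j)) (pullback.snd h (c' j)) h (c' j) := IsPullback.of_hasPullback _ _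
    refine ⟨_, _, _, sqU.map (Over.forget S), ?_⟩
    have sq' := (sqU.map (yon S)).paste_vert (sqT j)
    rw [← comm, ← Functor.map_comp] at sq'
    have := K597.etale_comp_stable.{u}
    obtain ⟨α, hα, h1, h2⟩ := K597.exists_chart_bc @Etale (sq (i j)) sq' ha (hy j)
    have h3 := hp (i j) α (y j) (pullback.snd h (c' j) ≫ t' j) hα (hy j) h2
    rw [Over.comp_left] at h3
    exact hP.etLoc.cancel _ _ (ht' j) h3
  · have := hW j
    infer_instance
  · have : Etale (e j).left := he j
    exact (e j).left.isOpenMap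
  · exact (hys j).2 _ _ _ (sqW j)
  · rw [← Over.comp_left, ← Over.comp_left, hw1]

/-- `LocP P` is fpqc local on the base. -/
theorem isLocalOnBase (hP : FpqcLoc P) : IsLocalOnBase (IsFpqcCover (S := S)) (LocP P) := by
  intro ι Y Yi g hY hYi hg X f hX Xi p q hXi sq
  constructor
  · intro hf i
    exact locP_bc_flat hP (sq i) hX.hasAtlas hY.hasAtlas (hYi i).hasAtlas (hg.1 i) hf
  · intro hp U V a b h ha hb comm
    have haff : ∀ v : V.left, ∃ O : V.left.Opens, IsAffineOpen O ∧ v ∈ O := fun v => by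
      obtain ⟨O, hO, ht, -⟩ := exists_isAffineOpen_mem_and_subset (x := v) (U := ⊤) trivial
      exact ⟨O, hO, ht⟩
    choose O hO hOv using haff
    have := hP.target
    refine IsZariskiLocalAtTarget.of_iSup_eq_top O ?_ (fun v => ?_)
    · rw [eq_top_iff]
      intro v _
      exact TopologicalSpace.Opens.mem_iSup.2 ⟨v, hOv v⟩
    · let V₁ : Over S := Over.mk ((O v).ι ≫ V.hom)
      let U₁ : Over S := Over.mk ((h.left ⁻¹ᵁ O v).ι ≫ U.hom)
      let jV : V₁ ⟶ V := Over.homMk (O v).ι rfl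
      let jU : U₁ ⟶ U := Over.homMk (h.left ⁻¹ᵁ O v).ι rfl
      let h₁ : U₁ ⟶ V₁ := Over.homMk (h.left ∣_ (O v)) (by
        change (h.left ∣_ (O v)) ≫ (O v).ι ≫ V.hom = (h.left ⁻¹ᵁ O v).ι ≫ U.hom
        rw [← Category.assoc, morphismRestrict_ι, Category.assoc, Over.w])
      have hjV : Etale jV.left := inferInstanceAs (Etale (O v).ι)
      have hjU : Etale jU.left := inferInstanceAs (Etale (h.left ⁻¹ᵁ O v).ι)
      refine key hP Yi g hYi hg f Xi p q sq hp ((yon S).map jU ≫ a) ((yon S).map jV ≫ b) h₁ (hO v)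
        (K629.Basic.repWith_etale_yon_comp hjU ha) (K629.Basic.repWith_etale_yon_comp hjV hb) ?_
      have e1 : h₁ ≫ jV = jU ≫ h := by
        ext1
        exact morphismRestrict_ι _ _
      rw [Category.assoc, comm, ← Category.assoc, ← Functor.map_comp, ← e1, Functor.map_comp, Category.assoc]

end K637.FpqcLocal
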