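import Groth.Agent.AlgSp.K637.Core2
import Mathlib.AlgebraicGeometry.AffineSpace
import Mathlib.AlgebraicGeometry.Morphisms.FiniteType

/-!
# Closed immersions into `𝔸^n × Y`

* `exists_closed_affineSpace`: `Y` an algebraic space with affine étale chart `Y' ⟶ Y`, `g : h_W ⟶ Y` with `W` affine,
  such that `E = W ×_Y Y'` is affine of finite type over `Y'` with `Γ(E)` generated by the functions of `W` and `Y'`.
  Then there is a closed immersion `h_W ⟶ h_{𝔸^n_S} ⨯ Y` over `Y`.
-/

set_option autoImplicit false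
universe u
open CategoryTheory CategoryTheory.Limits AlgebraicGeometry Opposite AlgSp

namespace K637.AffEmb

theorem fin_gen {A B C : Type u} [CommRing A] [CommRing B] [CommRing C] (φ : A →+* C) (ψ : B →+* C)
    (hφ : φ.FiniteType) (h : Subring.closure (Set.range φ ∪ Set.range ψ) = ⊤) :
    ∃ (n : ℕ) (b : ULift.{u} (Fin n) → B), Subring.closure (Set.range φ ∪ Set.range (ψ ∘ b)) = ⊤ := by
  classical
  algebraize [φ]
  -- every element lies in a subring generated by finitely many
  have key : ∀ c : C, ∃ s : Finset B, c ∈ Subring.closure (Set.range φ ∪ ψ '' s) := by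
    intro c
    have hc : c ∈ Subring.closure (Set.range φ ∪ Set.range ψ) := by rw [h]; trivial
    induction hc using Subring.closure_induction with
    | mem x hx =>
      rcases hx with hx | ⟨b, rfl⟩
      · exact ⟨∅, Subring.subset_closure (Or.inl hx)⟩
      · exact ⟨{b}, Subring.subset_closure (Or.inr ⟨b, by simp, rfl⟩)⟩
    | zero => exact ⟨∅, zero_mem _⟩
    | one => exact ⟨∅, one_mem _⟩
    | add x y _ _ hx hy =>
      obtain ⟨s, hs⟩ := hx
      obtain ⟨t, ht⟩ := hy
      refine ⟨s ∪ t, add_mem (Subring.closure_mono ?_ hs) (Subring.closure_mono ?_ ht)⟩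
      · exact Set.union_subset_union_right _ (Set.image_mono (by simp))
      · exact Set.union_subset_union_right _ (Set.image_mono (by simp))
    | neg x _ hx =>
      obtain ⟨s, hs⟩ := hx
      exact ⟨s, neg_mem hs⟩
    | mul x y _ _ hx hy =>
      obtain ⟨s, hs⟩ := hx
      obtain ⟨t, ht⟩ := hy
      refine ⟨s ∪ t, mul_mem (Subring.closure_mono ?_ hs) (Subring.closure_mono ?_ ht)⟩
      · exact Set.union_subset_union_right _ (Set.image_mono (by simp))
      · exact Set.union_subset_union_right _ (Set.image_mono (by simp))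
  choose s hs using key
  obtain ⟨t, ht⟩ := (inferInstance : Algebra.FiniteType A C).out
  let G : Finset B := t.biUnion s
  let e := G.equivFin
  refine ⟨G.card, fun i => (e.symm i.down).1, ?_⟩
  have hr : ψ '' (G : Set B) ⊆ Set.range (ψ ∘ fun i : ULift.{u} (Fin G.card) => (e.symm i.down).1) := by
    rintro _ ⟨b, hb, rfl⟩
    exact ⟨⟨e ⟨b, hb⟩⟩, by simp⟩
  set R := Subring.closure (Set.range φ ∪ Set.range (ψ ∘ fun i : ULift.{u} (Fin G.card) => (e.symm i.down).1)) with hR
  let R' : Subalgebra A C := { R with algebraMap_mem' := fun a => Subring.subset_closure (Or.inl ⟨a, rfl⟩) }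
  have h1 : R' = ⊤ := by
    rw [← top_le_iff, ← ht, Algebra.adjoin_le_iff]
    intro c hc
    refine Subring.closure_mono ?_ (hs c)
    refine Set.union_subset_union_right _ (subset_trans (Set.image_mono ?_) hr)
    intro b hb
    exact Finset.mem_biUnion.2 ⟨c, hc, hb⟩
  rw [eq_top_iff]
  intro c _
  have : c ∈ R' := by rw [h1]; trivial
  exact this

/-- A morphism `E ⟶ 𝔸(n; Y)` of affine schemes is a closed immersion when the functions generate. -/
theorem isClosedImmersion_homOfVector {E Y : Scheme.{u}} [IsAffine E] [IsAffine Y] (b : E ⟶ Y) {n : Type u}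
    [Finite n]
    (v : n → Γ(E, ⊤)) (h : Subring.closure (Set.range b.appTop.hom ∪ Set.range v) = ⊤) :
    IsClosedImmersion (AffineSpace.homOfVector b v) := by
  refine IsClosedImmersion.of_surjective_of_isAffine _ ?_
  have h1 : (AffineSpace.homOfVector b v).appTop.hom.range = ⊤ := by
    rw [← top_le_iff, ← h, Subring.closure_le]
    rintro _ (⟨y, rfl⟩ | ⟨i, rfl⟩)
    · refine ⟨(𝔸(n; Y) ↘ Y).appTop y, ?_⟩
      have h2 := congrArg (fun k => k.appTop y) (AffineSpace.homOfVector_over b v)
      exact h2
    · exact ⟨AffineSpace.coord Y i, AffineSpace.homOfVector_appTop_coord b v i⟩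
  exact RingHom.range_eq_top.1 h1

/-- Morphisms to an affine scheme given by ring homomorphisms through a subring. -/
theorem exists_factor_subring {E W : Scheme.{u}} [IsAffine E] [IsAffine W] (R : Subring Γ(E, ⊤)) (a : E ⟶ W)
    (h : Set.range a.appTop.hom ⊆ R) :
    ∃ a' : Spec (CommRingCat.of R) ⟶ W,
      (E.isoSpec.hom ≫ Spec.map (CommRingCat.ofHom R.subtype)) ≫ a' = a := by
  let φ : Γ(W, ⊤) ⟶ CommRingCat.of R := CommRingCat.ofHom (a.appTop.hom.codRestrict R fun x => h ⟨x, rfl⟩)
  have hφ : φ ≫ CommRingCat.ofHom R.subtype = a.appTop := by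
    ext x
    rfl
  refine ⟨Spec.map φ ≫ W.isoSpec.inv, ?_⟩
  rw [Category.assoc, ← Category.assoc (Spec.map _), ← Spec.map_comp, hφ, ← Category.assoc,
    Scheme.isoSpec_hom_naturality, Category.assoc, Iso.hom_inv_id, Category.comp_id]

theorem surjective_of_isClosedImmersion {R R' : CommRingCat.{u}} (φ : R ⟶ R') (h : IsClosedImmersion (Spec.map φ)) :
    Function.Surjective φ.hom := by
  obtain ⟨-, h1⟩ := IsClosedImmersion.isAffine_surjective_of_isAffine (Spec.map φ)
  intro s
  obtain ⟨y, hy⟩ := h1 ((Scheme.ΓSpecIso R').inv s)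
  refine ⟨(Scheme.ΓSpecIso R).hom y, ?_⟩
  have h2 := congrArg (fun k => k y) (Scheme.ΓSpecIso_naturality φ)
  have h3 : (Scheme.ΓSpecIso R').hom ((Spec.map φ).appTop y) = φ.hom ((Scheme.ΓSpecIso R).hom y) := h2
  rw [← h3, hy]
  exact congrArg (fun k => k s) (Scheme.ΓSpecIso R').inv_hom_id

/-- If `E ⟶ W × Y` is a closed immersion (absolute product of affine schemes), then `Γ(E)` is generated by the
functions from `W` and `Y`. -/
theorem closure_eq_top {E W Y : Scheme.{u}} [IsAffine E] [IsAffine W] [IsAffine Y]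
    (a : E ⟶ W) (b : E ⟶ Y) (h : IsClosedImmersion (pullback.lift (f := terminal.from W) (g := terminal.from Y) a b
      (Subsingleton.elim _ _))) :
    Subring.closure (Set.range b.appTop.hom ∪ Set.range a.appTop.hom) = ⊤ := by
  set R := Subring.closure (Set.range b.appTop.hom ∪ Set.range a.appTop.hom) with hR
  obtain ⟨a', ha'⟩ := exists_factor_subring R a (fun x hx => Subring.subset_closure (Or.inr hx))
  obtain ⟨b', hb'⟩ := exists_factor_subring R b (fun x hx => Subring.subset_closure (Or.inl hx))
  set k := E.isoSpec.hom ≫ Spec.map (CommRingCat.ofHom R.subtype) with hk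
  have h1 : k ≫ pullback.lift (f := terminal.from W) (g := terminal.from Y) a' b' (Subsingleton.elim _ _) =
      pullback.lift (f := terminal.from W) (g := terminal.from Y) a b (Subsingleton.elim _ _) := by
    apply pullback.hom_ext
    · rw [Category.assoc, pullback.lift_fst, pullback.lift_fst, ha']
    · rw [Category.assoc, pullback.lift_snd, pullback.lift_snd, hb']
  have h2 : IsClosedImmersion (k ≫ pullback.lift (f := terminal.from W) (g := terminal.from Y) a' b'
      (Subsingleton.elim _ _)) := by rw [h1]; exact h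
  have h3 : IsClosedImmersion k := IsClosedImmersion.of_comp k
    (pullback.lift (f := terminal.from W) (g := terminal.from Y) a' b' (Subsingleton.elim _ _))
  have h4 : IsClosedImmersion (Spec.map (CommRingCat.ofHom R.subtype)) := by
    have : Spec.map (CommRingCat.ofHom R.subtype) = E.isoSpec.inv ≫ k := by rw [hk, Iso.inv_hom_id_assoc]
    rw [this]
    infer_instance
  have h5 : Function.Surjective R.subtype := surjective_of_isClosedImmersion _ h4
  rw [eq_top_iff]
  intro c _
  obtain ⟨r, rfl⟩ := h5 c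
  exact r.2

variable {S : Scheme.{u}}

/-- Affine space over a scheme `T` over `S`, as a scheme over `S`. -/
noncomputable abbrev AA (n : Type u) (T : Over S) : Over S := Over.mk ((𝔸(n; T.left) ↘ T.left) ≫ T.hom)

/-- Affine space over `S`, as a scheme over `S`. -/
noncomputable abbrev AS (S : Scheme.{u}) (n : Type u) : Over S := Over.mk (𝔸(n; S) ↘ S)

noncomputable abbrev AAbase (n : Type u) (T : Over S) : AA n T ⟶ T := Over.homMk (𝔸(n; T.left) ↘ T.left) rfl

noncomputable abbrev AAmap (n : Type u) (T : Over S) : AA n T ⟶ AS S n :=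
  Over.homMk (AffineSpace.map n T.hom) (AffineSpace.map_over T.hom)

theorem isPullback_AA (n : Type u) {Y : Sp S} {Y' : Over S} (y₀ : (yon S).obj Y' ⟶ Y) :
    IsPullback (prod.lift ((yon S).map (AAmap n Y')) ((yon S).map (AAbase n Y') ≫ y₀)) ((yon S).map (AAbase n Y'))
      (prod.snd : (yon S).obj (AS S n) ⨯ Y ⟶ Y) y₀ := by
  refine K598.RepKit.isPullback_of_yon_test (prod.lift_snd _ _) fun T x y hxy => ?_
  obtain ⟨y, rfl⟩ := (yon S).map_surjective y
  obtain ⟨x₁, hx₁⟩ := (yon S).map_surjective (x ≫ prod.fst)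
  have h1 : x₁.left ≫ (𝔸(n; S) ↘ S) = y.left ≫ Y'.hom := by
    rw [Over.w y]
    exact Over.w x₁
  have sq := AffineSpace.isPullback_map (n := n) Y'.hom
  let c : T ⟶ AA n Y' := Over.homMk (sq.lift x₁.left y.left h1) (by
    change sq.lift x₁.left y.left h1 ≫ (𝔸(n; Y'.left) ↘ Y'.left) ≫ Y'.hom = T.hom
    rw [← Category.assoc, sq.lift_snd, Over.w])
  have hc1 : c ≫ AAmap n Y' = x₁ := Over.OverMorphism.ext (sq.lift_fst _ _ _)
  have hc2 : c ≫ AAbase n Y' = y := Over.OverMorphism.ext (sq.lift_snd _ _ _)
  refine ⟨(yon S).map c, ⟨?_, by rw [← Functor.map_comp, hc2]⟩, ?_⟩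
  · apply prod.hom_ext
    · rw [Category.assoc, prod.lift_fst, ← Functor.map_comp, hc1, hx₁]
    · rw [Category.assoc, prod.lift_snd, ← Category.assoc, ← Functor.map_comp, hc2, hxy]
  · rintro c' ⟨h2, h3⟩
    obtain ⟨c', rfl⟩ := (yon S).map_surjective c'
    congr 1
    apply Over.OverMorphism.ext
    apply sq.hom_ext
    · have h4 : c' ≫ AAmap n Y' = x₁ := (yon S).map_injective (by
        rw [hx₁, ← h2, Category.assoc, prod.lift_fst, Functor.map_comp])
      exact (congrArg CommaMorphism.left h4).trans (congrArg CommaMorphism.left hc1).symm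
    · have h4 : c' ≫ AAbase n Y' = y := (yon S).map_injective (by rw [Functor.map_comp, h3])
      exact (congrArg CommaMorphism.left h4).trans (congrArg CommaMorphism.left hc2).symm

/-- **Closed immersion in `𝔸^n × Y`.** -/
theorem exists_closed_affineSpace {Y : Sp S} {Y' : Over S} (hY' : IsAffine Y'.left) {y₀ : (yon S).obj Y' ⟶ Y}
    (hy : RepWith @Etale y₀) (hys : RepWith @Surjective y₀) {W E : Over S} {g : (yon S).obj W ⟶ Y} {a : E ⟶ W}
    {b : E ⟶ Y'} (sq : IsPullback ((yon S).map a) ((yon S).map b) g y₀) (hE : IsAffine E.left)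
    (hb : LocallyOfFiniteType b.left)
    (hgen : Subring.closure (Set.range b.left.appTop.hom ∪ Set.range a.left.appTop.hom) = ⊤) :
    ∃ (n : ℕ) (v : W ⟶ AS S (ULift.{u} (Fin n))), RepWith @IsClosedImmersion (prod.lift ((yon S).map v) g) := by
  obtain ⟨n, f, hf⟩ := fin_gen b.left.appTop.hom a.left.appTop.hom
    (HasRingHomProperty.appTop (P := @LocallyOfFiniteType) b.left hb) hgen
  let v : W ⟶ AS S (ULift.{u} (Fin n)) := Over.homMk (AffineSpace.homOfVector W.hom f)
    (AffineSpace.homOfVector_over _ _)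
  let ε : E ⟶ AA (ULift.{u} (Fin n)) Y' := Over.homMk (AffineSpace.homOfVector b.left (a.left.appTop ∘ f)) (by
    change AffineSpace.homOfVector b.left (a.left.appTop ∘ f) ≫ (𝔸(_; Y'.left) ↘ Y'.left) ≫ Y'.hom = E.hom
    rw [← Category.assoc, AffineSpace.homOfVector_over, Over.w])
  have hε : IsClosedImmersion ε.left := isClosedImmersion_homOfVector b.left _ hf
  have hεb : ε ≫ AAbase _ Y' = b := Over.OverMorphism.ext (AffineSpace.homOfVector_over _ _)
  have hεa : ε ≫ AAmap _ Y' = a ≫ v := by
    apply Over.OverMorphism.ext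
    change AffineSpace.homOfVector b.left (a.left.appTop ∘ f) ≫ AffineSpace.map _ Y'.hom =
      a.left ≫ AffineSpace.homOfVector W.hom f
    apply AffineSpace.hom_ext
    · rw [Category.assoc, AffineSpace.map_over, ← Category.assoc, AffineSpace.homOfVector_over, Category.assoc,
        AffineSpace.homOfVector_over, Over.w, Over.w]
    · intro i
      have h1 := AffineSpace.homOfVector_appTop_coord b.left (a.left.appTop ∘ f) i
      have h2 := AffineSpace.homOfVector_appTop_coord W.hom f i
      have h3 := AffineSpace.map_appTop_coord (n := ULift.{u} (Fin n)) Y'.hom i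
      rw [Scheme.Hom.comp_appTop, Scheme.Hom.comp_appTop, CommRingCat.comp_apply, CommRingCat.comp_apply, h2]
      erw [h3]
      exact h1
  refine ⟨n, v, ?_⟩
  have sqγ := isPullback_AA (ULift.{u} (Fin n)) y₀
  have sq' : IsPullback ((yon S).map a) ((yon S).map ε) (prod.lift ((yon S).map v) g)
      (prod.lift ((yon S).map (AAmap (ULift.{u} (Fin n)) Y')) ((yon S).map (AAbase (ULift.{u} (Fin n)) Y') ≫ y₀)) := by
    refine IsPullback.of_bot ?_ ?_ sqγ
    · rw [prod.lift_snd, ← Functor.map_comp, hεb]
      exact sq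
    · apply prod.hom_ext
      · rw [Category.assoc, prod.lift_fst, Category.assoc, prod.lift_fst, ← Functor.map_comp, ← Functor.map_comp,
          hεa]
      · rw [Category.assoc, prod.lift_snd, Category.assoc, prod.lift_snd, ← Category.assoc, ← Functor.map_comp,
          hεb, sq.w]
  have hγ := K598.RepKit.repWith_of_isPullback sqγ.flip hy
  have hγs := K598.RepKit.repWith_of_isPullback sqγ.flip hys
  have := K595.DescInst.isClosedImmersion.{u}
  exact K617.FinLoc.repWith_of_family @IsClosedImmersion
    (fun _ _ g (hg : IsClosedImmersion g) => (inferInstance : IsAffineHom g))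
    (ι := Unit) (fun _ => hγ) (fun x => ⟨(), K609.Points.surjective_map_of_repWith_surjective hγs x⟩) (fun _ => sq')
    (fun _ => (repWith_yon_map_iff _ _).2 hε)

end K637.AffEmb
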