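import Groth.Agent.AlgSp.K637.RelChow
import Groth.Agent.AlgSp.K637.AffEmb
import Groth.Agent.AlgSp.K625.Prod

/-!
# Chow's lemma over a separated algebraic space (projective version)
-/

set_option autoImplicit false
universe u
open CategoryTheory CategoryTheory.Limits AlgebraicGeometry Opposite AlgSp

namespace K637.ProjChow

open CohB1

variable {S : Scheme.{u}}

theorem closure_of_productMap {A B C : Type u} [CommRing A] [CommRing B] [CommRing C] (φ : A →+* C) (ψ : B →+* C)
    (h : Function.Surjective (Algebra.TensorProduct.productMap φ.toIntAlgHom ψ.toIntAlgHom)) :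
    Subring.closure (Set.range ψ ∪ Set.range φ) = ⊤ := by
  rw [eq_top_iff]
  intro c _
  obtain ⟨x, rfl⟩ := h c
  induction x using TensorProduct.induction_on with
  | zero => rw [map_zero]; exact zero_mem _
  | tmul a b =>
    rw [Algebra.TensorProduct.productMap_apply_tmul]
    exact mul_mem (Subring.subset_closure (Or.inr ⟨a, rfl⟩)) (Subring.subset_closure (Or.inl ⟨b, rfl⟩))
  | add x y hx hy => rw [map_add]; exact add_mem (hx trivial) (hy trivial)

/-- Morphisms from affine schemes to separated algebraic spaces over a separated scheme are affine. -/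
theorem repWith_affine [S.IsSeparated] {Y : Sp S} (hY : IsAlgSpace Y) (hYs : IsSeparatedSp Y) {W : Over S}
    (hW : IsAffine W.left) (g : (yon S).obj W ⟶ Y) : RepWith @IsAffineHom g := by
  rw [← K597.Affine.isAffineMor_iff]
  intro Z hZ z
  obtain ⟨E, a, b, sq⟩ := K609.Sep.exists_isPullback_yon hY.diag g z
  exact ⟨E, b, (yon S).map a, sq, (K609.Sep.affine_pullback hYs sq).1⟩

/-- `W ⟶ Y` of finite type with `W` affine, `Y` separated, factors through a closed immersion in `𝔸^n × Y`. -/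
theorem exists_closed [S.IsSeparated] {Y : Sp S} (hYq : IsQuasiCompactSp Y) (hY : IsAlgSpace Y)
    (hYs : IsSeparatedSp Y) {W : Over S} (hW : IsAffine W.left) (g : (yon S).obj W ⟶ Y)
    (hg : LocP @LocallyOfFiniteType g) :
    ∃ (n : ℕ) (v : W ⟶ AffEmb.AS S (ULift.{u} (Fin n))), RepWith @IsClosedImmersion (prod.lift ((yon S).map v) g) := by
  obtain ⟨Y', y₀, hY', hy, hys⟩ := K609.QC.isQuasiCompactSp_iff_exists_affine_chart.1 hYq
  obtain ⟨E, a, b, sq⟩ := K609.Sep.exists_isPullback_yon hY.diag g y₀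
  obtain ⟨hE, hsurj⟩ := K609.Sep.affine_pullback hYs sq
  have ha : RepWith @Etale ((yon S).map a) := K598.RepKit.repWith_of_isPullback sq.flip hy
  exact AffEmb.exists_closed_affineSpace hY' hy hys sq hE (hg _ _ b ha hy sq.w)
    (closure_of_productMap _ _ hsurj)

/-- Projective space over `S`, as a scheme over `S`. -/
noncomputable abbrev PS (S : Scheme.{u}) (n : ℕ) : Over S := Over.mk (ProjSpaceOver.toBase n S)

theorem isAlgSpace_prod {X Y : Sp S} (hX : IsAlgSpace X) (hY : IsAlgSpace Y) : IsAlgSpace (X ⨯ Y) :=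
  K613.Chart.isAlgSpace_of_isPullback (IsAlgSpace.yon_obj _).diag hX hY (K625.Prod.isPullback_prod X Y)

/-- `A × Y ⟶ Y` has the properties of `A ⟶ S`. -/
theorem repWith_snd {P : MorphismProperty Scheme.{u}} [P.IsStableUnderBaseChange] {A : Over S} (Y : Sp S)
    (h : P A.hom) : RepWith P (prod.snd : (yon S).obj A ⨯ Y ⟶ Y) := by
  refine K598.RepKit.repWith_of_isPullback (K625.Prod.isPullback_prod _ Y) ?_
  rw [K625.Prod.from_eq, repWith_yon_map_iff]
  exact h

/-- **Chow's lemma**, the projective version over a quasi-compact separated algebraic space. -/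
theorem chow [S.IsSeparated] {X Y : Sp S} (hX : IsAlgSpace X) (hY : IsAlgSpace Y) (f : X ⟶ Y)
    (hY1 : IsQuasiCompactSp Y) (hY2 : IsSeparatedSp Y) (hf1 : IsSeparatedMor f) (hf2 : IsFiniteTypeMor f) :
    ∃ (n : ℕ) (Z : Sp S) (a : Z ⟶ X) (b : Z ⟶ (yon S).obj (PS S n) ⨯ Y), IsAlgSpace Z ∧ b ≫ prod.snd = a ≫ f ∧
      IsProperMor a ∧ IsSurjectiveMor a ∧ RepWith @IsImmersion b := by
  have hXq : IsQuasiCompactSp X := hf2.2 hY hY1 (𝟙 _) (𝟙 _) f (IsPullback.of_horiz_isIso ⟨by simp⟩)
  obtain ⟨W, p, hW, hp, hps⟩ := K609.QC.isQuasiCompactSp_iff_exists_affine_chart.1 hXq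
  have hga : RepWith @IsAffineHom (p ≫ f) := repWith_affine hY hY2 hW _
  have hpq : RepWith @QuasiCompact p := by
    refine K613.Diag.repWith_of_comp (g := f) ?_ ?_
    · exact K597.repWith_mono (fun _ _ g (hg : IsAffineHom g) => (inferInstance : QuasiCompact g)) hga
    · exact K597.repWith_mono (fun _ _ g (hg : IsClosedImmersion g) => (inferInstance : QuasiCompact g)) hf1
  have hg : LocP @LocallyOfFiniteType (p ≫ f) := fun U V a b h ha hb w => hf2.1 (a ≫ p) b h
    (MorphismProperty.comp_mem _ _ _ ha hp) hb (by rw [Category.assoc, w])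
  obtain ⟨N, v, hv⟩ := exists_closed hY1 hY hY2 hW (p ≫ f) hg
  obtain ⟨k₀, hk₀, hk₀'⟩ := Groth.Agent.CohqA.ChowAff.exists_immersion N S
  let k : AffEmb.AS S (ULift.{u} (Fin N)) ⟶ PS S N := Over.homMk k₀ hk₀'
  have hk₀q : QuasiCompact k₀ := by
    have : QuasiCompact (k₀ ≫ ProjSpaceOver.toBase N S) := by rw [hk₀']; infer_instance
    exact QuasiCompact.of_comp k₀ (ProjSpaceOver.toBase N S)
  let j₀ : (yon S).obj W ⟶ (yon S).obj (PS S N) ⨯ Y := prod.lift ((yon S).map v) (p ≫ f) ≫ prod.map ((yon S).map k) (𝟙 Y)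
  have hkm : RepWith @IsImmersion (prod.map ((yon S).map k) (𝟙 Y)) :=
    K598.RepKit.repWith_of_isPullback (K625.Prod.isPullback_map_left Y ((yon S).map k))
      ((repWith_yon_map_iff _ _).2 hk₀)
  have hkmq : RepWith @QuasiCompact (prod.map ((yon S).map k) (𝟙 Y)) :=
    K598.RepKit.repWith_of_isPullback (K625.Prod.isPullback_map_left Y ((yon S).map k))
      ((repWith_yon_map_iff _ _).2 hk₀q)
  have hj₀ : RepWith @IsImmersion j₀ := MorphismProperty.comp_mem _ _ _
    (K610.OpenImm.repWith_isImmersion_of_closed hv) hkm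
  have hj₀q : RepWith @QuasiCompact j₀ := MorphismProperty.comp_mem _ _ _
    (K597.repWith_mono (fun _ _ g (hg : IsClosedImmersion g) => (inferInstance : QuasiCompact g)) hv) hkmq
  have hP₀ : IsAlgSpace ((yon S).obj (PS S N) ⨯ Y) := isAlgSpace_prod (IsAlgSpace.yon_obj _) hY
  have hπ : IsSeparatedMor (prod.snd : (yon S).obj (PS S N) ⨯ Y ⟶ Y) := by
    have h1 : RepWith @IsSeparated (prod.snd : (yon S).obj (PS S N) ⨯ Y ⟶ Y) :=
      repWith_snd Y (inferInstance : IsSeparated (ProjSpaceOver.toBase N S))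
    exact (K595.DiagBasic.isSeparatedMor_iff_repWith h1.1).2 h1
  obtain ⟨n, hn⟩ := Core2.main' hX hY hP₀ hf1 hπ hW hp hps hpq hj₀ hj₀q (by
    rw [Category.assoc, prod.map_snd, Category.comp_id, prod.lift_snd])
  obtain ⟨M, Q₀, c, q, hc, hq, hu⟩ := RelChow.exists_product S N (n + 1)
  let Q : Over S := Over.mk (c ≫ ProjSpaceOver.toBase M S)
  let q' : Fin (n + 1) → (Q ⟶ PS S N) := fun k => Over.homMk (q k) (hq k)
  let c' : Q ⟶ PS S M := Over.homMk c rfl
  have hQ : IsAlgSpace ((yon S).obj Q ⨯ Y) := isAlgSpace_prod (IsAlgSpace.yon_obj _) hY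
  obtain ⟨Z, a, b, hZ, hZr, hab, has, hap, hb⟩ := hn ((yon S).obj Q ⨯ Y) hQ prod.snd
    (fun k => prod.map ((yon S).map (q' k)) (𝟙 Y)) (fun k => by rw [prod.map_snd, Category.comp_id])
    (fun T y τ hτ => by
      choose τ' hτ' using fun k => (yon S).map_surjective (τ k ≫ prod.fst)
      obtain ⟨φ, hφ1, hφ2⟩ := hu T.hom (fun k => (τ' k).left) fun k => Over.w (τ' k)
      let φ' : T ⟶ Q := Over.homMk φ hφ1
      refine ⟨prod.lift ((yon S).map φ') y, fun k => ?_, prod.lift_snd _ _⟩
      apply prod.hom_ext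
      · rw [Category.assoc, prod.map_fst, ← Category.assoc, prod.lift_fst, ← hτ', ← Functor.map_comp]
        exact congrArg _ (Over.OverMorphism.ext (hφ2 k))
      · rw [Category.assoc, prod.map_snd, Category.comp_id, prod.lift_snd, hτ])
  have hr : IsProperMor (prod.snd : (yon S).obj Q ⨯ Y ⟶ Y) := by
    have h1 : RepWith @IsProper (prod.snd : (yon S).obj Q ⨯ Y ⟶ Y) :=
      repWith_snd Y (inferInstance : IsProper (c ≫ ProjSpaceOver.toBase M S))
    exact (K597.Proper.isProperMor_iff_repWith hY h1.1).2 h1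
  have hcm : RepWith @IsImmersion (prod.map ((yon S).map c') (𝟙 Y)) :=
    K598.RepKit.repWith_of_isPullback (K625.Prod.isPullback_map_left Y ((yon S).map c'))
      ((repWith_yon_map_iff _ _).2 (inferInstance : IsImmersion c))
  refine ⟨M, Z, a, b ≫ prod.map ((yon S).map c') (𝟙 Y), hZ, ?_, hap hr, has, MorphismProperty.comp_mem _ _ _ hb hcm⟩
  rw [Category.assoc, prod.map_snd, Category.comp_id, hab]

end K637.ProjChow
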