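import Groth.Agent.AlgSp.K637.Core
import Groth.Agent.AlgSp.K597.ProperSub
import Groth.Agent.S9964
import Groth.Agent.S9971

/-!
# The closure of an exhausting cover: proper version, for an immersion of the chart

* `exists_cover'`: variant of `UltraCov.exists_cover` for a quasi-compact chart, no hypothesis on the base.
* `exists_closure`: a quasi-compact immersion is an open immersion into a closed subspace.
* `main'`: `X ⟶ Y` separated, `p : h_W ⟶ X` étale surjective quasi-compact with `W` affine, `j₀ : h_W ⟶ P₀` a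
  quasi-compact immersion over `Y`, `P₀ ⟶ Y` separated; for weakly universal `q_k : Q ⟶ P₀` over `Y` there is a reduced
  `Z` with `a : Z ⟶ X` surjective, proper when `Q ⟶ Y` is, and an immersion `Z ⟶ Q` over `Y`.
-/

set_option autoImplicit false
universe u
open CategoryTheory CategoryTheory.Limits AlgebraicGeometry Opposite AlgSp

namespace K637.Core2

open K598.RepKit (repWith_of_isPullback)

variable {S : Scheme.{u}}

theorem exists_cover' {X : Sp S} {W : Over S} (hW : IsAffine W.left) (p : (yon S).obj W ⟶ X)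
    (hp : RepWith @Etale p) (hpq : RepWith @QuasiCompact p) :
    ∃ (T : Over S) (t : T ⟶ W), IsAffine T.left ∧ IsReduced T.left ∧ Surjective t.left ∧
      ∃ (n : ℕ) (σ : Fin (n + 1) → (T ⟶ W)), (∀ k, (yon S).map (σ k) ≫ p = (yon S).map t ≫ p) ∧
        ∀ (E : Over S) (a : E ⟶ T) (b : E ⟶ W),
          IsPullback ((yon S).map a) ((yon S).map b) ((yon S).map t ≫ p) p →
            ∀ e : ↥E.left, ∃ (k : Fin (n + 1)) (s : T ⟶ E) (x : ↥T.left), s ≫ a = 𝟙 _ ∧ s ≫ b = σ k ∧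
              s.left x = e := by
  obtain ⟨T₀, t₀, hT1, hT2, hT3, hT4⟩ := UltraCov.exists_scheme W.left
  let T : Over S := Over.mk (t₀ ≫ W.hom)
  let t : T ⟶ W := Over.homMk t₀ rfl
  have hTa : IsAffine T.left := hT1
  -- the base change of the chart
  obtain ⟨E, a, b, sq⟩ : ∃ (E : Over S) (a : E ⟶ T) (b : E ⟶ W),
      IsPullback ((yon S).map a) ((yon S).map b) ((yon S).map t ≫ p) p := by
    obtain ⟨V, v, fst, sq⟩ := hp.1 ((yon S).map t ≫ p)
    obtain ⟨b, rfl⟩ := (yon S).map_surjective fst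
    exact ⟨V, v, b, sq.flip⟩
  have haq : QuasiCompact a.left := hpq.2 _ _ _ sq.flip
  have hEc : CompactSpace ↥E.left := QuasiCompact.compactSpace_of_compactSpace a.left
  have ha : Etale a.left := hp.2 _ _ _ sq.flip
  -- the diagonal section
  obtain ⟨s₀, hs₀⟩ := (yon S).map_surjective (sq.lift (𝟙 _) ((yon S).map t) (by rw [Category.id_comp]))
  have hs₀a : s₀ ≫ a = 𝟙 _ := (yon S).map_injective (by
    rw [Functor.map_comp, hs₀, sq.lift_fst, (yon S).map_id])
  have has : Surjective a.left := ⟨fun x => ⟨s₀.left x, by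
    rw [← Scheme.Hom.comp_apply, ← Over.comp_left, hs₀a]; rfl⟩⟩
  obtain ⟨E', g, hE'1, hg1, hg2⟩ := K634.Desc.exists_affine_refinement (𝟙 E.left) IsOpenMap.id
  rw [Category.comp_id] at hg2
  have h3 : Etale (g ≫ a.left) := inferInstance
  have h4 : Surjective (g ≫ a.left) := inferInstance
  obtain ⟨n, s, hs1, hs2⟩ := hT4 (g ≫ a.left)
  let s' : Fin n → (T ⟶ E) := fun k => Over.homMk (s k ≫ g) (by
    rw [Category.assoc, ← Over.w a, ← Category.assoc g, ← Category.assoc, hs1]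
    exact Category.id_comp _)
  have hs'a : ∀ k, s' k ≫ a = 𝟙 _ := fun k => Over.OverMorphism.ext (by
    change (s k ≫ g) ≫ a.left = 𝟙 _
    rw [Category.assoc, hs1])
  refine ⟨T, t, hT1, hT2, hT3, n, Fin.cons t fun k => s' k ≫ b, fun k => ?_, fun E₁ a₁ b₁ sq₁ e => ?_⟩
  · refine Fin.cases ?_ (fun k => ?_) k
    · rw [Fin.cons_zero]
    · rw [Fin.cons_succ, Functor.map_comp, Category.assoc, ← sq.w, ← Category.assoc, ← Functor.map_comp, hs'a,
        (yon S).map_id, Category.id_comp]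
  · obtain ⟨u, hu⟩ := (yon S).map_surjective (sq.lift _ _ sq₁.w)
    obtain ⟨v, hv⟩ := (yon S).map_surjective (sq₁.lift _ _ sq.w)
    have hua : u ≫ a = a₁ := (yon S).map_injective (by rw [Functor.map_comp, hu, sq.lift_fst])
    have hub : u ≫ b = b₁ := (yon S).map_injective (by rw [Functor.map_comp, hu, sq.lift_snd])
    have hva : v ≫ a₁ = a := (yon S).map_injective (by rw [Functor.map_comp, hv, sq₁.lift_fst])
    have hvb : v ≫ b₁ = b := (yon S).map_injective (by rw [Functor.map_comp, hv, sq₁.lift_snd])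
    have huv : u ≫ v = 𝟙 _ := (yon S).map_injective (sq₁.hom_ext
      (by rw [← Functor.map_comp, Category.assoc, hva, hua]; simp)
      (by rw [← Functor.map_comp, Category.assoc, hvb, hub]; simp))
    obtain ⟨e', he'⟩ := hg2.surj (u.left e)
    obtain ⟨k, x, hx⟩ := hs2 e'
    refine ⟨k.succ, s' k ≫ v, x, by rw [Category.assoc, hva, hs'a], by
      rw [Category.assoc, hvb, Fin.cons_succ], ?_⟩
    rw [Over.comp_left, Scheme.Hom.comp_apply]
    change v.left ((s k ≫ g) x) = e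
    rw [Scheme.Hom.comp_apply, hx, he', ← Scheme.Hom.comp_apply, ← Over.comp_left, huv]
    rfl

/-- A quasi-compact immersion of a scheme is an open immersion into a closed subspace. -/
theorem exists_closure {W P₀ : Sp S} (hW : IsAlgSpace W) (hP₀ : IsAlgSpace P₀) (j₀ : W ⟶ P₀)
    (hj : RepWith @IsImmersion j₀) (hq : RepWith @QuasiCompact j₀) :
    ∃ (P : Sp S) (c : P ⟶ P₀) (j : W ⟶ P), IsAlgSpace P ∧ RepWith @IsClosedImmersion c ∧
      RepWith @IsOpenImmersion j ∧ j ≫ c = j₀ := by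
  let h : (⟨W, hW⟩ : Space S) ⟶ ⟨P₀, hP₀⟩ := ⟨j₀⟩
  obtain ⟨P, c, hc⟩ := Groth.Agent.S9964.result h
  obtain ⟨j, hjc⟩ := hc.2.1
  exact ⟨P.obj, c.hom, j, P.property, hc.1,
    (Groth.Agent.S9971.result h hj (Or.inl (K596.QC.isQuasiCompactMor_of_repWith hq)) c hc ⟨j⟩
      (ObjectProperty.hom_ext _ hjc)).1, hjc⟩

/-- Finitely many closed subspaces have an intersection. -/
theorem exists_inter {n : ℕ} {Q : Sp S} : ∀ {R : Fin n → Sp S} (m : ∀ k, R k ⟶ Q)
    (_ : ∀ k, RepWith @IsClosedImmersion (m k)),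
    ∃ (Q' : Sp S) (m' : Q' ⟶ Q) (l : ∀ k, Q' ⟶ R k), RepWith @IsClosedImmersion m' ∧ (∀ k, l k ≫ m k = m') ∧
      ∀ {T : Sp S} (c : T ⟶ Q), (∀ k, ∃ c', c' ≫ m k = c) → ∃ c', c' ≫ m' = c := by
  induction n with
  | zero =>
    intro R m hm
    exact ⟨Q, 𝟙 Q, fun k => k.elim0, K598.Dens.repWith_closed_id Q, fun k => k.elim0,
      fun c _ => ⟨c, Category.comp_id _⟩⟩
  | succ n ih =>
    intro R m hm
    obtain ⟨Q', m', l, h1, h2, h3⟩ := ih (fun k => m k.succ) (fun k => hm k.succ)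
    have sq : IsPullback (pullback.fst m' (m 0)) (pullback.snd m' (m 0)) m' (m 0) := IsPullback.of_hasPullback _ _
    refine ⟨_, pullback.fst m' (m 0) ≫ m', Fin.cons (pullback.snd m' (m 0)) fun k => pullback.fst m' (m 0) ≫ l k,
      MorphismProperty.comp_mem _ _ _ (repWith_of_isPullback sq.flip (hm 0)) h1, fun k => ?_, fun {T} c hc => ?_⟩
    · refine Fin.cases ?_ (fun k => ?_) k
      · rw [Fin.cons_zero, sq.w]
      · rw [Fin.cons_succ, Category.assoc, h2]
    · obtain ⟨c₁, hc₁⟩ := h3 c fun k => hc k.succ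
      obtain ⟨c₂, hc₂⟩ := hc 0
      exact ⟨sq.lift c₁ c₂ (by rw [hc₁, hc₂]), by rw [← Category.assoc, sq.lift_fst, hc₁]⟩

/-- **Theorem.** Let `f : X ⟶ Y` and `π₀ : P₀ ⟶ Y` be separated, `p : h_W ⟶ X` an étale surjective quasi-compact morphism
from an affine scheme, `j₀ : h_W ⟶ P₀` a quasi-compact immersion over `Y`. For some `n` and every `r : Q ⟶ Y` with
`n + 1` morphisms `q_k : Q ⟶ P₀` over `Y` which is weakly universal on schemes, there are a reduced algebraic space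
`Z`, a surjective `a : Z ⟶ X`, proper if `r` is, and an immersion `b : Z ⟶ Q` over `Y`. -/
theorem main' {X Y P₀ : Sp S} (hX : IsAlgSpace X) (hY : IsAlgSpace Y) (hP₀ : IsAlgSpace P₀)
    {f : X ⟶ Y} {π₀ : P₀ ⟶ Y} (hf : IsSeparatedMor f) (hπ₀ : IsSeparatedMor π₀)
    {W : Over S} (hW : IsAffine W.left) {p : (yon S).obj W ⟶ X} {j₀ : (yon S).obj W ⟶ P₀} (hp : RepWith @Etale p)
    (hps : RepWith @Surjective p) (hpq : RepWith @QuasiCompact p) (hj₀ : RepWith @IsImmersion j₀)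
    (hj₀q : RepWith @QuasiCompact j₀) (w : p ≫ f = j₀ ≫ π₀) :
    ∃ n : ℕ, ∀ (Q : Sp S) (_ : IsAlgSpace Q) (r : Q ⟶ Y) (q : Fin (n + 1) → (Q ⟶ P₀)) (_ : ∀ k, q k ≫ π₀ = r)
      (_ : ∀ (T : Over S) (y : (yon S).obj T ⟶ Y) (τ : Fin (n + 1) → ((yon S).obj T ⟶ P₀)), (∀ k, τ k ≫ π₀ = y) →
        ∃ τ' : (yon S).obj T ⟶ Q, (∀ k, τ' ≫ q k = τ k) ∧ τ' ≫ r = y),
      ∃ (Z : Sp S) (a : Z ⟶ X) (b : Z ⟶ Q), IsAlgSpace Z ∧ IsReducedSp Z ∧ a ≫ f = b ≫ r ∧
        Function.Surjective (Points.map a) ∧ (IsProperMor r → IsProperMor a) ∧ RepWith @IsImmersion b := by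
  obtain ⟨T, t, hT1, hT2, hT3, n, σ, hσ, hE⟩ := exists_cover' hW p hp hpq
  refine ⟨n, fun Q hQ r q hq huniv => ?_⟩
  obtain ⟨P, c, j, hP, hc, hj, hjc⟩ := exists_closure (IsAlgSpace.yon_obj W) hP₀ j₀ hj₀ hj₀q
  -- the closed subspace of `Q`
  obtain ⟨Q₁, m, l, hm, hl, hfac⟩ := exists_inter (fun k => pullback.fst (q k) c) (fun k =>
    repWith_of_isPullback (IsPullback.of_hasPullback (q k) c).flip hc)
  have hmm : Mono m := K610.Factor.mono_of_isClosedImmersion hm
  have hcm : Mono c := K610.Factor.mono_of_isClosedImmersion hc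
  have hQ₁ : IsAlgSpace Q₁ := K598.RepKit.isAlgSpace_of_repWith_isClosedImmersion hm hQ
  let q₁ : Fin (n + 1) → (Q₁ ⟶ P) := fun k => l k ≫ pullback.snd (q k) c
  have hq₁ : ∀ k, q₁ k ≫ c = m ≫ q k := fun k => by
    rw [Category.assoc, ← pullback.condition, ← Category.assoc, hl]
  obtain ⟨τ₀, hτ₀, hτ₀r⟩ := huniv T ((yon S).map t ≫ p ≫ f) (fun k => (yon S).map (σ k) ≫ j₀) fun k => by
    rw [Category.assoc, ← w, ← Category.assoc, hσ, Category.assoc]
  obtain ⟨τ, hτ⟩ := hfac τ₀ fun k => ⟨pullback.lift τ₀ ((yon S).map (σ k) ≫ j) (by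
    rw [hτ₀, Category.assoc, hjc]), pullback.lift_fst _ _ _⟩
  have hcπ : IsSeparatedMor (c ≫ π₀) :=
    MorphismProperty.comp_mem (W := @IsSeparatedMor S) _ _ (K597.ProperSub.isSeparatedMor_of_closed hc) hπ₀
  let D : Core.Dat S :=
    { X := X, Y := Y, Q := Q₁, P := P, G := pullback f (m ≫ r), hX := hX, hY := hY, hQ := hQ₁, hP := hP
      f := f, r := m ≫ r, π := c ≫ π₀, hf := hf, hπ := hcπ, g₁ := pullback.fst f (m ≫ r)
      g₂ := pullback.snd f (m ≫ r)
      sq := IsPullback.of_hasPullback _ _, W := W, T := T, p := p, j := j, hp := hp, hps := hps, hj := hj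
      w := by rw [← Category.assoc, hjc, w]
      t := t, hT := hT2, n := n + 1, σ := σ, hσ := hσ, hE := hE, q := q₁
      hq := fun k => by rw [← Category.assoc, hq₁, Category.assoc, hq]
      τ := τ
      hτ := fun k => by
        rw [← cancel_mono c, Category.assoc, hq₁, ← Category.assoc, hτ, hτ₀, Category.assoc, hjc]
      hτr := by rw [← Category.assoc, hτ, hτ₀r] }
  obtain ⟨Z, i, hZ, hi⟩ := K598.Red.exists_isRedInduced D.hG (closure (Set.range (Points.map D.g))) isClosed_closure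
  obtain ⟨Q', u, e, hu, he, hue, -⟩ := D.exists_factor hi
  refine ⟨Z, i ≫ D.g₁, (i ≫ D.g₂) ≫ m, hZ, hi.2.2, ?_, D.surjective hi hT3, fun hr => ?_, ?_⟩
  · have h1 : D.g₁ ≫ f = D.g₂ ≫ m ≫ r := D.sq.w
    rw [Category.assoc, h1, Category.assoc, Category.assoc]
  · have h1 : IsProperMor (m ≫ r) :=
      K597.ProperSub.isProperMor_comp hQ₁ hQ hY (K597.ProperSub.isProperMor_of_closed hQ hm) hr
    have h2 : IsProperMor D.g₁ := K597.Proper.isProperMor_of_isPullback hQ₁ hY hX D.sq.flip h1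
    exact K597.ProperSub.isProperMor_comp hZ D.hG hX (K597.ProperSub.isProperMor_of_closed D.hG hi.1) h2
  · rw [← hue]
    exact MorphismProperty.comp_mem _ _ _ (MorphismProperty.comp_mem _ _ _
      (K610.OpenImm.repWith_isImmersion_of_closed he) (K610.OpenImm.repWith_isImmersion_of_open hu))
      (K610.OpenImm.repWith_isImmersion_of_closed hm)

end K637.Core2
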