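import Groth.Agent.AlgSp.K637.Core2
import Groth.Agent.AlgSp.K642.Model
import Groth.Agent.AlgSp.K609.QC
import Groth.Agent.AlgSp.K613.Diag
import Groth.Prelude.Def_RelProj

/-!
# The weak Chow lemma, relative form

* `exists_product`: finite products of a projective space over `S` are closed in a projective space (universal form).
* `exists_relChow`: `V` affine over an arbitrary base `S`, `f : X ⟶ h_V` separated of finite type: there are a reduced
  scheme `T` over `S`, an H-quasi-projective `t : T ⟶ V` and `g : h_T ⟶ X` over `h_V`, proper and surjective.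
-/

set_option autoImplicit false
universe u
open CategoryTheory CategoryTheory.Limits AlgebraicGeometry Opposite AlgSp

namespace K637.RelChow

open CohB1

/-- Finite products of projective spaces. -/
theorem exists_product (B : Scheme.{u}) (N n : ℕ) :
    ∃ (M : ℕ) (P : Scheme.{u}) (c : P ⟶ ProjSpaceOver M B) (p : Fin n → (P ⟶ ProjSpaceOver N B)),
      IsClosedImmersion c ∧ (∀ i, p i ≫ ProjSpaceOver.toBase N B = c ≫ ProjSpaceOver.toBase M B) ∧
      ∀ {T : Scheme.{u}} (b : T ⟶ B) (t : Fin n → (T ⟶ ProjSpaceOver N B)),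
        (∀ i, t i ≫ ProjSpaceOver.toBase N B = b) →
        ∃ φ : T ⟶ P, φ ≫ c ≫ ProjSpaceOver.toBase M B = b ∧ ∀ i, φ ≫ p i = t i := by
  induction n with
  | zero =>
    obtain ⟨s, hs⟩ := Groth.Agent.CohqA.ChowProd.exists_section B
    refine ⟨0, ProjSpaceOver 0 B, 𝟙 _, fun i => i.elim0, inferInstance, fun i => i.elim0, fun b t _ =>
      ⟨b ≫ s, ?_, fun i => i.elim0⟩⟩
    rw [Category.id_comp, Category.assoc, hs, Category.comp_id]
  | succ m ih =>
    obtain ⟨N', P', c', p', hc', hp', hu⟩ := ih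
    obtain ⟨s, hs, hs'⟩ := Groth.Agent.S1616.result B N N'
    refine ⟨N * N' + N + N',
      pullback (pullback.snd (ProjSpaceOver.toBase N B) (ProjSpaceOver.toBase N' B)) c',
      pullback.fst _ _ ≫ s,
      Fin.cases (pullback.fst _ _ ≫ pullback.fst _ _) (fun i => pullback.snd _ _ ≫ p' i), inferInstance, ?_, ?_⟩
    · intro i
      refine Fin.cases ?_ (fun i => ?_) i
      · simp only [Fin.cases_zero, Category.assoc]
        rw [hs']
      · simp only [Fin.cases_succ, Category.assoc]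
        rw [hs', hp', ← pullback.condition_assoc, pullback.condition]
    · intro T b t ht
      obtain ⟨φ', hφ', hφp'⟩ := hu b (fun i => t i.succ) (fun i => ht i.succ)
      obtain ⟨φ₁, h1, h2⟩ : ∃ φ₁ : T ⟶ pullback (ProjSpaceOver.toBase N B) (ProjSpaceOver.toBase N' B),
          φ₁ ≫ pullback.fst _ _ = t 0 ∧ φ₁ ≫ pullback.snd _ _ = φ' ≫ c' :=
        ⟨pullback.lift (t 0) (φ' ≫ c') (by rw [ht, Category.assoc, hφ']), pullback.lift_fst _ _ _,
          pullback.lift_snd _ _ _⟩
      obtain ⟨φ₂, h3, h4⟩ : ∃ φ₂ : T ⟶ pullback (pullback.snd (ProjSpaceOver.toBase N B) (ProjSpaceOver.toBase N' B)) c',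
          φ₂ ≫ pullback.fst _ _ = φ₁ ∧ φ₂ ≫ pullback.snd _ _ = φ' :=
        ⟨pullback.lift φ₁ φ' h2, pullback.lift_fst _ _ _, pullback.lift_snd _ _ _⟩
      refine ⟨φ₂, ?_, fun i => ?_⟩
      · rw [Category.assoc, hs', reassoc_of% h3, reassoc_of% h1, ht]
      · refine Fin.cases ?_ (fun i => ?_) i
        · simp only [Fin.cases_zero]
          rw [reassoc_of% h3, h1]
        · simp only [Fin.cases_succ]
          rw [reassoc_of% h4, hφp']

variable {S : Scheme.{u}}

/-- A sheaf with an immersion into `h_U` is represented by a scheme. -/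
theorem exists_iso {Z : Sp S} {U : Over S} {P : MorphismProperty Scheme.{u}} (b : Z ⟶ (yon S).obj U)
    (hb : RepWith P b) : ∃ (T : Over S) (i : T ⟶ U) (e : (yon S).obj T ⟶ Z), P i.left ∧ IsIso e ∧
      e ≫ b = (yon S).map i := by
  obtain ⟨T, i, e, sq⟩ := hb.1 (𝟙 _)
  refine ⟨T, i, e, hb.2 _ _ _ sq, ?_, by rw [sq.w, Category.comp_id]⟩
  exact sq.flip.isIso_snd_of_isIso

/-- **The weak Chow lemma, relative form.** -/
theorem exists_relChow {V : Over S} (hV : IsAffine V.left) {X : Sp S} (hX : IsAlgSpace X)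
    (f : X ⟶ (yon S).obj V) (hf : IsSeparatedMor f) (hft : IsFiniteTypeMor f) :
    ∃ (T : Over S) (t : T ⟶ V) (g : (yon S).obj T ⟶ X), g ≫ f = (yon S).map t ∧
      RelProj.IsHQuasiProjective t.left ∧ IsReduced T.left ∧ IsProperMor g ∧ IsSurjectiveMor g := by
  have hXq : IsQuasiCompactSp X := hft.2 (IsAlgSpace.yon_obj V) (K596.QC.isQuasiCompactSp_yon V) (𝟙 _) (𝟙 _) f
      (IsPullback.of_horiz_isIso ⟨by simp⟩)
  obtain ⟨W, p, hW, hp, hps⟩ := K609.QC.isQuasiCompactSp_iff_exists_affine_chart.1 hXq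
  obtain ⟨h, hh⟩ := (yon S).map_surjective (p ≫ f)
  have hhl : LocallyOfFiniteType h.left :=
    hft.1 p (𝟙 _) h hp (repWith_id _ _) (by rw [Category.comp_id, hh])
  have hpq : RepWith @QuasiCompact p := by
    refine K613.Diag.repWith_of_comp (g := f) ?_ ?_
    · rw [← hh, repWith_yon_map_iff]
      infer_instance
    · exact K597.repWith_mono (fun _ _ g (hg : IsClosedImmersion g) => (inferInstance : QuasiCompact g)) hf
  obtain ⟨N, i, hi, hi'⟩ := K642.Model.exists_immersion h.left
  have hiq : QuasiCompact i := by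
    have : QuasiCompact (i ≫ CohB1.ProjSpaceOver.toBase N V.left) := by rw [hi']; infer_instance
    exact QuasiCompact.of_comp i (CohB1.ProjSpaceOver.toBase N V.left)
  let P₀ : Over S := Over.mk (ProjSpaceOver.toBase N V.left ≫ V.hom)
  let π₀ : P₀ ⟶ V := Over.homMk (ProjSpaceOver.toBase N V.left) rfl
  let j₀ : W ⟶ P₀ := Over.homMk i (by
    change i ≫ ProjSpaceOver.toBase N V.left ≫ V.hom = W.hom
    rw [← Category.assoc, hi', Over.w])
  have hj₀π : j₀ ≫ π₀ = h := Over.OverMorphism.ext hi'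
  have hπ₀ : IsSeparatedMor ((yon S).map π₀) := by
    rw [K595.DiagBasic.isSeparatedMor_iff_repWith (representable_yon_map _), repWith_yon_map_iff]
    exact (inferInstance : IsSeparated (ProjSpaceOver.toBase N V.left))
  obtain ⟨n, hn⟩ := Core2.main' hX (IsAlgSpace.yon_obj V) (IsAlgSpace.yon_obj P₀) hf hπ₀ hW hp hps hpq
    (j₀ := (yon S).map j₀) ((repWith_yon_map_iff _ _).2 hi) ((repWith_yon_map_iff _ _).2 hiq)
    (by rw [← Functor.map_comp, hj₀π, hh])
  obtain ⟨M, Q₀, c, q, hc, hq, hu⟩ := exists_product V.left N (n + 1)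
  let Q : Over S := Over.mk ((c ≫ ProjSpaceOver.toBase M V.left) ≫ V.hom)
  let r : Q ⟶ V := Over.homMk (c ≫ ProjSpaceOver.toBase M V.left) rfl
  let q' : Fin (n + 1) → (Q ⟶ P₀) := fun k => Over.homMk (q k) (by
    change q k ≫ ProjSpaceOver.toBase N V.left ≫ V.hom = (c ≫ ProjSpaceOver.toBase M V.left) ≫ V.hom
    rw [← Category.assoc, hq])
  obtain ⟨Z, a, b, hZ, hZr, hab, has, hap, hb⟩ := hn ((yon S).obj Q) (IsAlgSpace.yon_obj Q) ((yon S).map r)
    (fun k => (yon S).map (q' k)) (fun k => by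
      rw [← Functor.map_comp]
      exact congrArg _ (Over.OverMorphism.ext (hq k))) (fun T y τ hτ => by
      obtain ⟨y, rfl⟩ := (yon S).map_surjective y
      choose τ' hτ' using fun k => (yon S).map_surjective (τ k)
      have h1 : ∀ k, τ' k ≫ π₀ = y := fun k => (yon S).map_injective (by rw [Functor.map_comp, hτ', hτ])
      obtain ⟨φ, hφ1, hφ2⟩ := hu y.left (fun k => (τ' k).left) fun k => by
        have := congrArg CommaMorphism.left (h1 k)
        exact this
      let φ' : T ⟶ Q := Over.homMk φ (by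
        change φ ≫ (c ≫ ProjSpaceOver.toBase M V.left) ≫ V.hom = T.hom
        rw [← Category.assoc, hφ1, Over.w])
      refine ⟨(yon S).map φ', fun k => ?_, ?_⟩
      · rw [← hτ', ← Functor.map_comp]
        exact congrArg _ (Over.OverMorphism.ext (hφ2 k))
      · rw [← Functor.map_comp]
        exact congrArg _ (Over.OverMorphism.ext hφ1))
  have hr : IsProperMor ((yon S).map r) := by
    rw [K597.Proper.isProperMor_iff_repWith (IsAlgSpace.yon_obj V) (representable_yon_map _), repWith_yon_map_iff]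
    exact (inferInstance : IsProper (c ≫ ProjSpaceOver.toBase M V.left))
  obtain ⟨T, i', e, hi'', he, hei⟩ := exists_iso b hb
  have hg : IsProperMor (e ≫ a) := K597.ProperSub.isProperMor_comp (IsAlgSpace.yon_obj T) hZ hX
    (K597.ProperSub.isProperMor_of_closed hZ (K598.RepKit.repWith_of_isIso _))
    (hap hr)
  have hTc : CompactSpace ↥T.left := K596.QC.compactSpace_of_isQuasiCompactSp
    (hg.2.1.2 hX hXq (𝟙 _) (𝟙 _) (e ≫ a) (IsPullback.of_horiz_isIso ⟨by simp⟩))
  have hTr : IsReduced T.left :=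
    K612.Reduced.isReduced_of_isReducedSp hZr e (K598.RepKit.repWith_of_isIso _)
  refine ⟨T, i' ≫ r, e ≫ a, ?_, ⟨M, i'.left ≫ c, ?_, ?_, ?_⟩, hTr, hg, ?_⟩
  · rw [Category.assoc, hab, ← Category.assoc, hei, Functor.map_comp]
  · have := hi''
    infer_instance
  · have h1 : QuasiCompact ((i'.left ≫ c) ≫ ProjSpaceOver.toBase M V.left) := inferInstance
    exact QuasiCompact.of_comp _ (ProjSpaceOver.toBase M V.left)
  · rw [Category.assoc]
    rfl
  · intro x
    obtain ⟨z, rfl⟩ := has x
    refine ⟨Points.map (inv e) z, ?_⟩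
    rw [← Points.map_comp, IsIso.inv_hom_id_assoc]

end K637.RelChow
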