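import Groth.Agent.AlgSp.K637.OpenRestr
import Groth.Agent.AlgSp.K637.EtCover
import Groth.Agent.AlgSp.K595.DescInst
import Groth.Agent.AlgSp.K613.Mono
import Groth.Agent.AlgSp.K597.EtLoc
import Groth.Agent.AlgSp.K598.ClFam
import Mathlib.AlgebraicGeometry.Morphisms.SchemeTheoreticallyDominant

/-!
# A flat separated morphism which is an isomorphism over a schematically dense qc open is a monomorphism
-/

set_option autoImplicit false
set_option backward.isDefEq.respectTransparency false
set_option backward.isDefEq.respectTransparency.types false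
universe u
open CategoryTheory CategoryTheory.Limits AlgebraicGeometry
open AlgSp

namespace K637.MonoDense

open K637.OpenRestr

variable {S : Scheme.{u}}

theorem dominant_preimage {T Y : Scheme.{u}} (q : T ⟶ Y) [Flat q] (W : Y.Opens) [QuasiCompact W.ι]
    [IsSchemeTheoreticallyDominant W.ι] : IsSchemeTheoreticallyDominant (q ⁻¹ᵁ W).ι := by
  have e2 : (isPullback_morphismRestrict q W).isoPullback.hom ≫ pullback.snd W.ι q = (q ⁻¹ᵁ W).ι :=
    (isPullback_morphismRestrict q W).isoPullback_hom_snd
  rw [← e2]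
  infer_instance

/-- A flat separated morphism of algebraic spaces which is an isomorphism over an open subspace whose inverse image
`W` in an etale chart is quasi-compact and scheme-theoretically dense is a monomorphism. -/
theorem mono {X Y V P : Sp S} (hX : IsAlgSpace X) (hY : IsAlgSpace Y) {f : X ⟶ Y} {j : V ⟶ Y} {fst : P ⟶ X}
    {snd : P ⟶ V} (hP : IsPullback fst snd f j) (hsep : IsSeparatedMor f) (hf : LocP @Flat f)
    {Y₀ : Over S} {φ : (yon S).obj Y₀ ⟶ Y} (hφ : RepWith @Etale φ) (hφs : RepWith @Surjective φ)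
    {W : Y₀.left.Opens} {w : (yon S).obj (opV W) ⟶ V}
    (sqW : IsPullback w ((yon S).map (opι W)) j φ) [QuasiCompact W.ι] [IsSchemeTheoreticallyDominant W.ι]
    (hV : CategoryTheory.Mono snd) : CategoryTheory.Mono f := by
  obtain ⟨U₀, a₀, ha₀, has₀⟩ := hX.atlas
  obtain ⟨U, a, h, ha, has, hh⟩ := K597.exists_chart_over f a₀ ha₀ has₀ φ hφ hφs
  have hrep : Representable (a ≫ f) := hY.representable_from_yon _
  have hflat : RepWith @Flat (a ≫ f) :=
    K597.repWith_of_locP K597.etLoc_flat hY.hasAtlas hrep (K597.locP_precomp ha hf)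
  -- `T = U ×_Y U`
  obtain ⟨T, p₁, p₂, sqT, hp₂⟩ := K629.Basic.exists_pb_yon hflat (a ≫ f)
  have hp₁ : Flat p₁.left := hflat.2 _ _ _ sqT.flip
  have hhf : Flat h.left := hf a φ h ha hφ hh
  obtain ⟨α, hα, hαs, hα1, hα2⟩ := K597.exists_chart_bc' (IsPullback.of_hasPullback f f) sqT ha has ha has
  obtain ⟨E, x, e, sqE, he⟩ := K629.Basic.exists_pb hsep α
  let q : T ⟶ Y₀ := p₁ ≫ h
  have hq : Flat q.left := by
    change Flat (p₁.left ≫ h.left)
    infer_instance
  let O : T.left.Opens := q.left ⁻¹ᵁ W
  have hO : IsSchemeTheoreticallyDominant O.ι := dominant_preimage q.left W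
  -- the two maps to `X` agree on `O`
  let oι : opV O ⟶ T := opι O
  have hy : (yon S).map oι ≫ (yon S).map p₁ ≫ a ≫ f = ((yon S).map (oph q W) ≫ w) ≫ j := by
    have h1 : oι ≫ q = oph q W ≫ opι W := (isPullback_oph q W).w
    rw [hh, Category.assoc, sqW.w, ← Category.assoc ((yon S).map (oph q W)), ← Functor.map_comp, ← h1,
      Functor.map_comp, Category.assoc]
    simp [q]
  have hy2 : (yon S).map oι ≫ (yon S).map p₂ ≫ a ≫ f = ((yon S).map (oph q W) ≫ w) ≫ j := by
    rw [← hy, sqT.w]
  have hagree : (yon S).map oι ≫ (yon S).map p₁ ≫ a = (yon S).map oι ≫ (yon S).map p₂ ≫ a := by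
    have e1 := hP.lift_fst ((yon S).map oι ≫ (yon S).map p₁ ≫ a) ((yon S).map (oph q W) ≫ w) (by
      simpa only [Category.assoc] using hy)
    have e2 := hP.lift_fst ((yon S).map oι ≫ (yon S).map p₂ ≫ a) ((yon S).map (oph q W) ≫ w) (by
      simpa only [Category.assoc] using hy2)
    rw [← e1, ← e2]
    congr 1
    rw [← cancel_mono snd, hP.lift_snd, hP.lift_snd]
  have hlift : ((yon S).map oι ≫ (yon S).map p₁ ≫ a) ≫ pullback.diagonal f = (yon S).map oι ≫ α := by
    apply pullback.hom_ext
    · rw [Category.assoc, pullback.diagonal_fst, Category.comp_id, Category.assoc]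
      rw [hα1]
    · rw [Category.assoc, pullback.diagonal_snd, Category.comp_id, Category.assoc, hα2, hagree]
  obtain ⟨e', he'⟩ := (yon S).map_surjective (sqE.lift _ _ hlift)
  have he'2 : e' ≫ e = oι := by
    apply (yon S).map_injective
    rw [Functor.map_comp, he']
    exact sqE.lift_snd _ _ _
  have hker : e.left.ker = ⊥ := by
    rw [eq_bot_iff]
    refine (Scheme.Hom.le_ker_comp e'.left e.left).trans ?_
    rw [← Over.comp_left, he'2]
    exact hO.ker_eq_bot.le
  have heC : IsClosedImmersion e.left := he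
  have hei : IsIso e.left := K598.ClFam.isIso_of_ker_eq_bot e.left hker
  refine K613.Mono.mono_of_repWith_diagonal ?_
  have := K595.DescInst.isomorphisms.{u}
  exact K595.RepDesc.repWith_of_isPullback (Q := K595.RepDesc.Fppf) sqE hsep.1 (K595.RepDesc.repWith_fppf hα hαs)
    ((repWith_yon_map_iff _ _).2 hei)

end K637.MonoDense

namespace K637.MonoDense

variable {S : Scheme.{u}}

/-- A flat morphism of schemes locally of finite presentation is etale if its base change along itself is. -/
theorem etale_of_self {U V : Scheme.{u}} (h : U ⟶ V) [Flat h] [LocallyOfFinitePresentation h]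
    {R : Scheme.{u}} {p₁ p₂ : R ⟶ U} (sq : IsPullback p₁ p₂ h h) (hp : Etale p₂) : Etale h := by
  let O : V.Opens := ⟨Set.range h, h.isOpenMap.isOpen_range⟩
  let h₀ : U ⟶ O.toScheme := IsOpenImmersion.lift O.ι h (by simp [O])
  have hh₀ : h₀ ≫ O.ι = h := IsOpenImmersion.lift_fac _ _ _
  have sq₀ : IsPullback p₁ p₂ h₀ h₀ := by
    refine ⟨⟨?_⟩, ⟨PullbackCone.IsLimit.mk _ (fun s => sq.lift s.fst s.snd ?_) (fun s => sq.lift_fst _ _ _)
      (fun s => sq.lift_snd _ _ _) (fun s m h1 h2 => sq.hom_ext (by rw [h1, sq.lift_fst]) (by rw [h2, sq.lift_snd]))⟩⟩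
    · rw [← cancel_mono O.ι, Category.assoc, Category.assoc, hh₀, sq.w]
    · rw [← hh₀, ← Category.assoc, s.condition, Category.assoc]
  have hf : Flat h₀ := K637.EtCover.of_comp_mono (P := @Flat) (ψ := O.ι) (by rw [hh₀]; infer_instance)
  have hl : LocallyOfFinitePresentation h₀ :=
    K637.EtCover.of_comp_mono (P := @LocallyOfFinitePresentation) (ψ := O.ι) (by rw [hh₀]; infer_instance)
  have hs : Surjective h₀ := by
    constructor
    rintro ⟨_, x, rfl⟩
    refine ⟨x, O.ι.isOpenEmbedding.injective ?_⟩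
    rw [← Scheme.Hom.comp_apply, hh₀]
    rfl
  have hu : FormallyUnramified h₀ := by
    have := K595.DescInst.formallyUnramified.{u}
    exact MorphismProperty.of_isPullback_of_descendsAlong (P := @FormallyUnramified) (Q := K595.RepDesc.Fppf)
      sq₀.flip ⟨⟨hs, hf⟩, hl⟩ (inferInstance : FormallyUnramified p₂)
  have : Etale h₀ := Etale.of_formallyUnramified_of_flat h₀
  rw [← hh₀]
  infer_instance

/-- A flat morphism of algebraic spaces, locally of finite presentation, which is a monomorphism is a representable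
open immersion. -/
theorem isOpenImmersion_of_flat_mono {X Y : Sp S} (hX : IsAlgSpace X) (hY : IsAlgSpace Y) (f : X ⟶ Y)
    [CategoryTheory.Mono f] (hf : LocP @Flat f) (hf' : LocP @LocallyOfFinitePresentation f) :
    RepWith @IsOpenImmersion f := by
  refine K613.Mono.repWith_isOpenImmersion_of_mono hX ?_ fun T g => inferInstance
  refine K597.isEtaleMor_of_locP_etale K597.etLoc_etale hY ?_
  obtain ⟨Y₀, φ, hφ, hφs⟩ := hY.atlas
  obtain ⟨U₀, a₀, ha₀, has₀⟩ := hX.atlas
  -- `X₀ = X ×_Y Y₀`
  have sqX := IsPullback.of_hasPullback f φ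
  have hx1 : RepWith @Etale (pullback.fst f φ) := MorphismProperty.of_isPullback (P := RepWith @Etale) sqX.flip hφ
  have hx1s : RepWith @Surjective (pullback.fst f φ) :=
    MorphismProperty.of_isPullback (P := RepWith @Surjective) sqX.flip hφs
  obtain ⟨U, t, s, sqU, hs⟩ := K629.Basic.exists_pb hx1 a₀
  have ht : RepWith @Etale t := MorphismProperty.of_isPullback (P := RepWith @Etale) sqU.flip ha₀
  have hts : RepWith @Surjective t := MorphismProperty.of_isPullback (P := RepWith @Surjective) sqU.flip has₀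
  obtain ⟨h, hh⟩ := (yon S).map_surjective (t ≫ pullback.snd f φ)
  have hcomm : (t ≫ pullback.fst f φ) ≫ f = (yon S).map h ≫ φ := by
    rw [hh, Category.assoc, Category.assoc, sqX.w]
  have ha : RepWith @Etale (t ≫ pullback.fst f φ) := K597.etale_comp ht hx1
  have has : RepWith @Surjective (t ≫ pullback.fst f φ) := K597.surjective_comp hts hx1s
  refine K597.locP_of_chart K597.etLoc_etale f _ φ h ha has hφ hcomm ?_
  have h1 : Flat h.left := hf _ φ h ha hφ hcomm
  have h2 : LocallyOfFinitePresentation h.left := hf' _ φ h ha hφ hcomm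
  have sqR : IsPullback (pullback.fst h h) (pullback.snd h h) h h := IsPullback.of_hasPullback h h
  have sqR' := sqR.map (yon S)
  rw [hh] at sqR'
  have sqt : IsPullback ((yon S).map (pullback.fst h h)) ((yon S).map (pullback.snd h h)) t t := by
    refine ⟨⟨?_⟩, ⟨PullbackCone.IsLimit.mk _ (fun s => sqR'.lift s.fst s.snd ?_) (fun s => sqR'.lift_fst _ _ _)
      (fun s => sqR'.lift_snd _ _ _) (fun s m h1 h2 => sqR'.hom_ext (by rw [h1, sqR'.lift_fst])
        (by rw [h2, sqR'.lift_snd]))⟩⟩
    · rw [← cancel_mono (pullback.snd f φ), Category.assoc, Category.assoc, sqR'.w]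
    · rw [← Category.assoc, s.condition, Category.assoc]
  exact etale_of_self h.left (sqR.map (Over.forget S)) (ht.2 _ _ _ sqt)

end K637.MonoDense
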