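import Groth.Agent.AlgSp.K597.LocP
import Groth.Agent.AlgSp.K629.Basic
import Groth.Prelude.Def_AlgSpMor6

/-!
# Restriction of chart diagrams over an open subspace of the target
-/

set_option autoImplicit false
set_option backward.isDefEq.respectTransparency false
set_option backward.isDefEq.respectTransparency.types false
universe u
open CategoryTheory CategoryTheory.Limits AlgebraicGeometry
open AlgSp

namespace K637.OpenRestr

variable {S : Scheme.{u}}

/-- The open subscheme of the source of `h : U ⟶ V` over the open `W` of `V`, over `S`. -/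
noncomputable abbrev opU {U V : Over S} (h : U ⟶ V) (W : V.left.Opens) : Over S := Over.mk ((h.left ⁻¹ᵁ W).ι ≫ U.hom)

noncomputable abbrev opV {V : Over S} (W : V.left.Opens) : Over S := Over.mk (W.ι ≫ V.hom)

noncomputable abbrev opι {V : Over S} (W : V.left.Opens) : opV W ⟶ V := Over.homMk W.ι rfl

noncomputable abbrev oph {U V : Over S} (h : U ⟶ V) (W : V.left.Opens) : opU h W ⟶ opV W :=
  Over.homMk (h.left ∣_ W) (by
    change (h.left ∣_ W) ≫ W.ι ≫ V.hom = (h.left ⁻¹ᵁ W).ι ≫ U.hom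
    rw [← Category.assoc, morphismRestrict_ι, Category.assoc, Over.w])

theorem etale_opι {V : Over S} (W : V.left.Opens) : Etale (opι W).left := inferInstanceAs (Etale W.ι)

theorem isPullback_oph {U V : Over S} (h : U ⟶ V) (W : V.left.Opens) :
    IsPullback (opι (V := U) (h.left ⁻¹ᵁ W)) (oph h W) h (opι W) := by
  have h1 : IsPullback ((Over.forget S).map (opι (V := U) (h.left ⁻¹ᵁ W))) ((Over.forget S).map (oph h W))
      ((Over.forget S).map h) ((Over.forget S).map (opι W)) := (isPullback_morphismRestrict h.left W).flip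
  refine IsPullback.of_map (Over.forget S) ?_ h1
  ext1
  exact h1.w

/-- Let `P = X ×_Y V`, and `h : U ⟶ Y₀` a chart diagram of `f : X ⟶ Y` whose target chart meets `V` in the open `W`
of `Y₀`. Then the restriction of `h` over `W` is a chart diagram of `P ⟶ V`, and `h_{U_W}` is `h_U ×_X P`. -/
theorem exists_restr {X Y V P : Sp S} {f : X ⟶ Y} {j : V ⟶ Y} {fst : P ⟶ X} {snd : P ⟶ V}
    (hP : IsPullback fst snd f j) {U Y₀ : Over S} {a : (yon S).obj U ⟶ X} {φ : (yon S).obj Y₀ ⟶ Y} {h : U ⟶ Y₀}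
    (hh : a ≫ f = (yon S).map h ≫ φ) {W : Y₀.left.Opens} {w : (yon S).obj (opV W) ⟶ V}
    (sqW : IsPullback w ((yon S).map (opι W)) j φ) :
    ∃ α : (yon S).obj (opU h W) ⟶ P, IsPullback ((yon S).map (opι (V := U) (h.left ⁻¹ᵁ W))) α a fst ∧
      α ≫ snd = (yon S).map (oph h W) ≫ w := by
  have sq1 := ((isPullback_oph h W).map (yon S)).paste_vert sqW.flip
  rw [← hh] at sq1
  have hw : ((yon S).map (opι (V := U) (h.left ⁻¹ᵁ W)) ≫ a) ≫ f = ((yon S).map (oph h W) ≫ w) ≫ j := by
    rw [Category.assoc]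
    exact sq1.w
  refine ⟨hP.lift _ _ hw, ?_, hP.lift_snd _ _ _⟩
  refine IsPullback.of_bot (v₂₁ := snd) (v₂₂ := f) (h₃₁ := j) ?_ (hP.lift_fst _ _ _).symm hP
  rw [hP.lift_snd]
  exact sq1

/-- The restricted chart diagram has the property `P` of the base change. -/
theorem restrict_of_locP {Q : MorphismProperty Scheme.{u}} {X Y V P : Sp S} {f : X ⟶ Y} {j : V ⟶ Y} {fst : P ⟶ X}
    {snd : P ⟶ V} (hP : IsPullback fst snd f j) {U Y₀ : Over S} {a : (yon S).obj U ⟶ X}
    {φ : (yon S).obj Y₀ ⟶ Y} {h : U ⟶ Y₀} (ha : RepWith @Etale a) (hφ : RepWith @Etale φ)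
    (hh : a ≫ f = (yon S).map h ≫ φ) {W : Y₀.left.Opens} {w : (yon S).obj (opV W) ⟶ V}
    (sqW : IsPullback w ((yon S).map (opι W)) j φ) (hQ : LocP Q snd) : Q (h.left ∣_ W) := by
  obtain ⟨α, hα, hα2⟩ := exists_restr hP hh sqW
  exact hQ α w (oph h W) (MorphismProperty.of_isPullback (P := RepWith @Etale) hα ha)
    (MorphismProperty.of_isPullback (P := RepWith @Etale) sqW.flip hφ) hα2

end K637.OpenRestr
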