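import Groth.Agent.AlgSp.K637.UltraCov
import Groth.Agent.AlgSp.K598.Red
import Groth.Agent.AlgSp.K598.SchImg2
import Groth.Agent.AlgSp.K610.OpenImm
import Groth.Agent.AlgSp.K610.Sub
import Groth.Agent.AlgSp.K617.FinLoc
import Groth.Agent.AlgSp.K613.Chart

/-!
# The closure of an exhausting cover

Let `f : X ⟶ Y`, `r : Q ⟶ Y`, `π : P ⟶ Y` with `f`, `π` separated, `p : h_W ⟶ X` étale surjective, `j : h_W ⟶ P` an open
immersion over `Y`, `q_k : Q ⟶ P` finitely many morphisms over `Y`, `t : T ⟶ W` surjective with `T` reduced and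
`σ_k : T ⟶ W` finitely many lifts of `T ⟶ X` exhausting `T ×_X W`, `τ : h_T ⟶ Q` with `τ ≫ q_k = σ_k ≫ j`.
Let `Z ⊆ G = X ×_Y Q` be the closure of the image of `T` with its reduced structure. Then

* `exists_mem` : every point of `Z` lies in the open `q_k⁻¹(W)` for some `k`.
* `agree` : on `Z_k = Z ∩ q_k⁻¹(W)` the projection to `X` is `Z_k ⟶ W ⟶ X`.
* `closed_piece` : `Z_k ⟶ q_k⁻¹(W) ⊆ Q` is a closed immersion.
* `exists_factor` : `Z ⟶ Q` is a closed immersion into an open subspace of `Q`.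
-/

set_option autoImplicit false
universe u
open CategoryTheory CategoryTheory.Limits AlgebraicGeometry Opposite AlgSp

namespace K637.Core

open K598.RepKit (repWith_of_isPullback)

variable {S : Scheme.{u}}

/-- The locus where two morphisms to a separated space over `Y` agree is a closed subspace. -/
theorem exists_agree {U P Y : Sp S} {π : P ⟶ Y} (hπ : IsSeparatedMor π) (a b : U ⟶ P) (h : a ≫ π = b ≫ π) :
    ∃ (E : Sp S) (m : E ⟶ U), RepWith @IsClosedImmersion m ∧ m ≫ a = m ≫ b ∧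
      ∀ {V : Sp S} (c : V ⟶ U), c ≫ a = c ≫ b → ∃ c' : V ⟶ E, c' ≫ m = c := by
  have sq : IsPullback (pullback.fst (pullback.diagonal π) (pullback.lift a b h))
    (pullback.snd (pullback.diagonal π) (pullback.lift a b h)) (pullback.diagonal π) (pullback.lift a b h) :=
    IsPullback.of_hasPullback _ _
  refine ⟨_, _, repWith_of_isPullback sq hπ, ?_, fun {V} c hc => ?_⟩
  · have h1 := congrArg (· ≫ pullback.fst π π) sq.w
    have h2 := congrArg (· ≫ pullback.snd π π) sq.w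
    simp only [Category.assoc, pullback.diagonal_fst, pullback.diagonal_snd, Category.comp_id,
      pullback.lift_fst, pullback.lift_snd] at h1 h2
    rw [← h1, ← h2]
  · refine ⟨sq.lift (c ≫ a) c ?_, sq.lift_snd _ _ _⟩
    apply pullback.hom_ext
    · rw [Category.assoc, pullback.diagonal_fst, Category.comp_id, Category.assoc, pullback.lift_fst]
    · rw [Category.assoc, pullback.diagonal_snd, Category.comp_id, Category.assoc, pullback.lift_snd, hc]

/-- The data. -/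
structure Dat (S : Scheme.{u}) where
  (X Y Q P G : Sp S)
  hX : IsAlgSpace X
  hY : IsAlgSpace Y
  hQ : IsAlgSpace Q
  hP : IsAlgSpace P
  f : X ⟶ Y
  r : Q ⟶ Y
  π : P ⟶ Y
  hf : IsSeparatedMor f
  hπ : IsSeparatedMor π
  /-- the fibre product -/
  g₁ : G ⟶ X
  g₂ : G ⟶ Q
  sq : IsPullback g₁ g₂ f r
  W : Over S
  T : Over S
  p : (yon S).obj W ⟶ X
  j : (yon S).obj W ⟶ P
  hp : RepWith @Etale p
  hps : RepWith @Surjective p
  hj : RepWith @IsOpenImmersion j
  w : p ≫ f = j ≫ π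
  t : T ⟶ W
  hT : IsReduced T.left
  n : ℕ
  σ : Fin n → (T ⟶ W)
  hσ : ∀ k, (yon S).map (σ k) ≫ p = (yon S).map t ≫ p
  hE : ∀ (E : Over S) (a : E ⟶ T) (b : E ⟶ W),
          IsPullback ((yon S).map a) ((yon S).map b) ((yon S).map t ≫ p) p →
            ∀ e : ↥E.left, ∃ (k : Fin n) (s : T ⟶ E) (x : ↥T.left), s ≫ a = 𝟙 _ ∧ s ≫ b = σ k ∧ s.left x = e
  q : Fin n → (Q ⟶ P)
  hq : ∀ k, q k ≫ π = r
  τ : (yon S).obj T ⟶ Q
  hτ : ∀ k, τ ≫ q k = (yon S).map (σ k) ≫ j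
  hτr : τ ≫ r = (yon S).map t ≫ p ≫ f

namespace Dat

variable (D : Dat S)

theorem hG : IsAlgSpace D.G := K613.Chart.isAlgSpace_of_isPullback D.hY.diag D.hX D.hQ D.sq

/-- The map `T ⟶ G = X ×_Y Q`. -/
noncomputable def g : (yon S).obj D.T ⟶ D.G :=
  D.sq.lift ((yon S).map D.t ≫ D.p) D.τ (by rw [D.hτr, Category.assoc])

@[reassoc (attr := simp)]
theorem g_fst : D.g ≫ D.g₁ = (yon S).map D.t ≫ D.p := D.sq.lift_fst _ _ _

@[reassoc (attr := simp)]
theorem g_snd : D.g ≫ D.g₂ = D.τ := D.sq.lift_snd _ _ _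

/-- Points of `G ×_X W` over the image of `T` lie on the graph of some `σ_k`. -/
theorem exhaust {GW : Sp S} {a : GW ⟶ D.G} {b : GW ⟶ (yon S).obj D.W} (h : IsPullback a b D.g₁ D.p)
    (gk : Fin D.n → ((yon S).obj D.T ⟶ GW)) (hgk1 : ∀ k, gk k ≫ a = D.g)
    (hgk2 : ∀ k, gk k ≫ b = (yon S).map (D.σ k)) (y : Points GW)
    (hy : Points.map a y ∈ Set.range (Points.map D.g)) : ∃ k, y ∈ Set.range (Points.map (gk k)) := by
  obtain ⟨x, hx⟩ := hy
  obtain ⟨E, e₁, e₂, sqE⟩ : ∃ (E : Over S) (e₁ : E ⟶ D.T) (e₂ : E ⟶ D.W),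
      IsPullback ((yon S).map e₁) ((yon S).map e₂) ((yon S).map D.t ≫ D.p) D.p := by
    obtain ⟨V, v, fst, sq⟩ := D.hp.1 ((yon S).map D.t ≫ D.p)
    obtain ⟨b, rfl⟩ := (yon S).map_surjective fst
    exact ⟨V, v, b, sq.flip⟩
  have hw : ((yon S).map e₁ ≫ D.g) ≫ D.g₁ = (yon S).map e₂ ≫ D.p := by
    rw [Category.assoc, D.g_fst, sqE.w]
  have sqc : IsPullback ((yon S).map e₁) (h.lift _ _ hw) D.g a :=
    (IsPullback.of_right (by rw [h.lift_snd, D.g_fst]; exact sqE.flip) (h.lift_fst _ _ _) h.flip).flip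
  obtain ⟨e, he1, he2⟩ := K609.Points.exists_of_isPullback sqc x y hx
  obtain ⟨e₀, rfl⟩ := K609.Points.ofScheme_surjective E e
  obtain ⟨k, s, x', hs1, hs2, hs3⟩ := D.hE E e₁ e₂ sqE e₀
  refine ⟨k, Points.ofScheme D.T x', ?_⟩
  rw [← he2, ← hs3, ← K609.Points.map_yon_map_ofScheme, ← Points.map_comp]
  congr 1
  apply h.hom_ext
  · rw [hgk1, Category.assoc, h.lift_fst, ← Category.assoc, ← Functor.map_comp, hs1, (yon S).map_id, Category.id_comp]
  · rw [hgk2, Category.assoc, h.lift_snd, ← Functor.map_comp, hs2]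

/-- Every point in the closure of the image of `T` lies over `W` for one of the maps `G ⟶ Q ⟶ P`. -/
theorem exists_mem (z : Points D.G) (hz : z ∈ closure (Set.range (Points.map D.g))) :
    ∃ k, Points.map (D.g₂ ≫ D.q k) z ∈ Set.range (Points.map D.j) := by
  obtain ⟨GW, a, b, h⟩ : ∃ (GW : Sp S) (a : GW ⟶ D.G) (b : GW ⟶ (yon S).obj D.W), IsPullback a b D.g₁ D.p :=
    ⟨_, _, _, IsPullback.of_hasPullback _ _⟩
  have ha : RepWith @Etale a := repWith_of_isPullback h.flip D.hp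
  have has : Function.Surjective (Points.map a) :=
    K609.Points.surjective_map_of_isPullback h (K609.Points.surjective_map_of_repWith_surjective D.hps)
  have hao : IsOpenMap (Points.map a) :=
    K609.Points.isOpenMap_map (K609.Points.repWith_universallyOpen_of_etale ha)
  let gk : Fin D.n → ((yon S).obj D.T ⟶ GW) := fun k => h.lift D.g ((yon S).map (D.σ k)) (by rw [D.g_fst, D.hσ])
  have hgk1 : ∀ k, gk k ≫ a = D.g := fun k => h.lift_fst _ _ _
  have hgk2 : ∀ k, gk k ≫ b = (yon S).map (D.σ k) := fun k => h.lift_snd _ _ _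
  obtain ⟨z', rfl⟩ := has z
  have h1 : z' ∈ closure (⋃ k, Set.range (Points.map (gk k))) := by
    have h2 : z' ∈ Points.map a ⁻¹' closure (Set.range (Points.map D.g)) := hz
    rw [hao.preimage_closure_eq_closure_preimage (Points.continuous_map a)] at h2
    refine closure_mono ?_ h2
    intro y hy
    obtain ⟨k, hk⟩ := D.exhaust h gk hgk1 hgk2 y hy
    exact Set.mem_iUnion.2 ⟨k, hk⟩
  rw [closure_iUnion_of_finite, Set.mem_iUnion] at h1
  obtain ⟨k, hk⟩ := h1
  refine ⟨k, ?_⟩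
  obtain ⟨E, m, hm, hmm, hfac⟩ := exists_agree D.hπ (a ≫ D.g₂ ≫ D.q k) (b ≫ D.j) (by
    rw [Category.assoc, Category.assoc, D.hq, ← D.sq.w, Category.assoc, ← D.w, h.w_assoc])
  obtain ⟨c, hc⟩ := hfac (gk k) (by
    rw [← Category.assoc, hgk1, ← Category.assoc, D.g_snd, D.hτ, ← Category.assoc, hgk2])
  have h3 : closure (Set.range (Points.map (gk k))) ⊆ Set.range (Points.map m) := by
    refine closure_minimal ?_ (K598.Red.isClosed_range hm)
    rintro _ ⟨x, rfl⟩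
    exact ⟨Points.map c x, by rw [← Points.map_comp, hc]⟩
  obtain ⟨y, rfl⟩ := h3 hk
  refine ⟨Points.map (m ≫ b) y, ?_⟩
  rw [← Points.map_comp, ← Points.map_comp, ← Points.map_comp, Category.assoc, ← hmm]

variable {Z : Sp S} {i : Z ⟶ D.G} 

/-- On `Z_k = Z ∩ q_k⁻¹(W)` the projection to `X` is the composition `Z_k ⟶ W ⟶ X`. -/
theorem agree (hi : IsRedInduced (closure (Set.range (Points.map D.g))) i)
    {Zk : Sp S} {k : Fin D.n} {z : Zk ⟶ Z} {w : Zk ⟶ (yon S).obj D.W}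
    (h : IsPullback z w (i ≫ D.g₂ ≫ D.q k) D.j) : z ≫ i ≫ D.g₁ = w ≫ D.p := by
  -- the open subspace of `G`
  obtain ⟨U, o, u, hU⟩ : ∃ (U : Sp S) (o : U ⟶ D.G) (u : U ⟶ (yon S).obj D.W),
    IsPullback o u (D.g₂ ≫ D.q k) D.j := ⟨_, _, _, IsPullback.of_hasPullback _ _⟩
  have ho : RepWith @IsOpenImmersion o := repWith_of_isPullback hU.flip D.hj
  have hz : RepWith @IsOpenImmersion z := repWith_of_isPullback h.flip D.hj
  have hoo : IsOpenMap (Points.map o) := (K610.OpenImm.isOpenEmbedding_points D.hG ho).isOpenMap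
  have hoi : Function.Injective (Points.map o) := (K610.OpenImm.isOpenEmbedding_points D.hG ho).injective
  let ik : Zk ⟶ U := hU.lift (z ≫ i) w (by rw [Category.assoc, h.w])
  have hik1 : ik ≫ o = z ≫ i := hU.lift_fst _ _ _
  have hik2 : ik ≫ u = w := hU.lift_snd _ _ _
  let hk : (yon S).obj D.T ⟶ U := hU.lift D.g ((yon S).map (D.σ k)) (by
    rw [← Category.assoc, D.g_snd, D.hτ])
  have hhk1 : hk ≫ o = D.g := hU.lift_fst _ _ _
  have hhk2 : hk ≫ u = (yon S).map (D.σ k) := hU.lift_snd _ _ _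
  obtain ⟨E, m, hm, hmm, hfac⟩ := exists_agree D.hf (o ≫ D.g₁) (u ≫ D.p) (by
    rw [Category.assoc, D.sq.w, Category.assoc, D.w, ← hU.w_assoc, Category.assoc, D.hq])
  have hred : IsReducedSp Zk := by
    obtain ⟨V, a, ha1, ha2, ha3⟩ := hi.2.2
    obtain ⟨V', v, fst, sqV⟩ := hz.1 a
    have hv : IsOpenImmersion v.left := hz.2 _ _ _ sqV
    refine ⟨V', fst, repWith_of_isPullback sqV.flip ha1, repWith_of_isPullback sqV.flip ha2, ?_⟩
    exact isReduced_of_isOpenImmersion v.left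
  obtain ⟨l, hl⟩ : ∃ l : Zk ⟶ E, l ≫ m = ik := by
    refine (K610.Factor.factors_closed_iff hm hred ik).2 ?_
    rintro _ ⟨y, rfl⟩
    have h1 : Points.map ik y ∈ Points.map o ⁻¹' closure (Set.range (Points.map D.g)) := by
      rw [← hi.2.1, Set.mem_preimage, ← Points.map_comp, hik1, Points.map_comp]
      exact ⟨_, rfl⟩
    rw [hoo.preimage_closure_eq_closure_preimage (Points.continuous_map o)] at h1
    refine closure_minimal ?_ (K598.Red.isClosed_range hm) h1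
    rintro y' ⟨x, hx⟩
    obtain ⟨c, hc⟩ := hfac hk (by
      rw [← Category.assoc, hhk1, D.g_fst, ← Category.assoc, hhk2, D.hσ])
    refine ⟨Points.map c x, hoi ?_⟩
    rw [← Points.map_comp, ← Points.map_comp, ← Category.assoc, hc, hhk1, hx]
  rw [← Category.assoc, ← hik1, Category.assoc, ← hik2, ← hl, Category.assoc, Category.assoc, hmm,
    ← Category.assoc, Category.assoc]

/-- `Z_k ⟶ q_k⁻¹(W) ⊆ Q` is a closed immersion. -/
theorem closed_piece (hi : IsRedInduced (closure (Set.range (Points.map D.g))) i)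
    {k : Fin D.n} {Qk : Sp S} {v : Qk ⟶ D.Q} {w : Qk ⟶ (yon S).obj D.W} (hQ : IsPullback v w (D.q k) D.j)
    {Zk : Sp S} {z : Zk ⟶ Z} {e : Zk ⟶ Qk} (h : IsPullback z e (i ≫ D.g₂) v) :
    RepWith @IsClosedImmersion e := by
  obtain ⟨U, o, c, hU⟩ : ∃ (U : Sp S) (o : U ⟶ D.G) (c : U ⟶ Qk), IsPullback o c D.g₂ v :=
    ⟨_, _, _, IsPullback.of_hasPullback _ _⟩
  have hag := D.agree hi (k := k) (z := z) (w := e ≫ w) (by
    rw [← Category.assoc]; exact h.paste_vert hQ)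
  let ik : Zk ⟶ U := hU.lift (z ≫ i) e (by rw [Category.assoc, h.w])
  have hik1 : ik ≫ o = z ≫ i := hU.lift_fst _ _ _
  have hik2 : ik ≫ c = e := hU.lift_snd _ _ _
  have hsq : IsPullback z ik i o := by
    refine IsPullback.of_bot ?_ hik1.symm hU
    rw [hik2]
    exact h
  have hikc : RepWith @IsClosedImmersion ik := repWith_of_isPullback hsq hi.1
  let γ₀ : Qk ⟶ D.G := D.sq.lift (w ≫ D.p) v (by
    rw [Category.assoc, D.w, ← hQ.w_assoc, D.hq])
  let γ : Qk ⟶ U := hU.lift γ₀ (𝟙 _) (by rw [D.sq.lift_snd, Category.id_comp])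
  have hγ1 : γ ≫ o = γ₀ := hU.lift_fst _ _ _
  have hγ2 : γ ≫ c = 𝟙 _ := hU.lift_snd _ _ _
  have hγ : e ≫ γ = ik := by
    apply hU.hom_ext
    · rw [Category.assoc, hγ1, hik1]
      apply D.sq.hom_ext
      · rw [Category.assoc, D.sq.lift_fst, Category.assoc, hag, Category.assoc]
      · rw [Category.assoc, D.sq.lift_snd, Category.assoc, h.w]
    · rw [Category.assoc, hγ2, Category.comp_id, hik2]
  have : IsSplitMono γ := ⟨⟨⟨c, hγ2⟩⟩⟩
  exact K610.OpenImm.repWith_of_comp_mono (j := γ) (by rw [hγ]; exact hikc)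

/-- The union of the opens `q_k⁻¹(W)`. -/
def opens : Set (Points D.Q) := ⋃ k, Points.map (D.q k) ⁻¹' Set.range (Points.map D.j)

theorem isOpen_opens : IsOpen D.opens := isOpen_iUnion fun _ =>
  (K610.OpenImm.isOpenEmbedding_points D.hP D.hj).isOpen_range.preimage (Points.continuous_map _)

omit D in
/-- A pullback square followed by a monomorphism. -/
theorem isPullback_comp_mono {A B C Q' Q : Sp S} {z : A ⟶ B} {e' : A ⟶ C} {e : B ⟶ Q'} {v : C ⟶ Q'}
    (h : IsPullback z e' e v) (ι : Q' ⟶ Q) [Mono ι] : IsPullback z e' (e ≫ ι) (v ≫ ι) :=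
  IsPullback.of_isLimit' ⟨by rw [← Category.assoc, h.w, Category.assoc]⟩
    (PullbackCone.isLimitOfCompMono e v ι _ h.isLimit)

/-- `Z ⟶ Q` is a closed immersion into the open subspace `⋃ q_k⁻¹(W)`. -/
theorem exists_factor (hi : IsRedInduced (closure (Set.range (Points.map D.g))) i) :
    ∃ (Q' : Sp S) (u : Q' ⟶ D.Q) (e : Z ⟶ Q'), RepWith @IsOpenImmersion u ∧ RepWith @IsClosedImmersion e ∧
      e ≫ u = i ≫ D.g₂ ∧ Set.range (Points.map u) = D.opens := by
  obtain ⟨Q', ι, hu, hru⟩ : ∃ (Q' : Sp S) (ι : Q' ⟶ D.Q), RepWith @IsOpenImmersion ι ∧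
      Set.range (Points.map ι) = D.opens :=
    ⟨_, _, K610.Sub.repWith_openPred D.isOpen_opens, K610.Sub.range_openPred D.opens⟩
  have hum : Mono ι := K610.Factor.mono_of_isOpenImmersion hu
  obtain ⟨e, he⟩ := (K610.Factor.factors_open_iff hu (i ≫ D.g₂)).2 (by
    rw [hru]
    rintro _ ⟨z, rfl⟩
    obtain ⟨k, hk⟩ := D.exists_mem (Points.map i z) (by rw [← hi.2.1]; exact ⟨_, rfl⟩)
    refine Set.mem_iUnion.2 ⟨k, ?_⟩
    rw [Set.mem_preimage, ← Points.map_comp, Category.assoc, Points.map_comp]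
    exact hk)
  refine ⟨_, _, e, hu, ?_, he, hru⟩
  choose Qk v w hQ using fun k : Fin D.n => (⟨_, _, _, IsPullback.of_hasPullback _ _⟩ :
    ∃ (Qk : Sp S) (v : Qk ⟶ D.Q) (w : Qk ⟶ (yon S).obj D.W), IsPullback v w (D.q k) D.j)
  have hv : ∀ k, RepWith @IsOpenImmersion (v k) := fun k => repWith_of_isPullback (hQ k).flip D.hj
  choose v' hv' using fun k : Fin D.n => (K610.Factor.factors_open_iff hu (v k)).2 (by
    rw [hru]
    rintro _ ⟨x, rfl⟩
    refine Set.mem_iUnion.2 ⟨k, ?_⟩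
    rw [Set.mem_preimage, ← Points.map_comp, (hQ k).w, Points.map_comp]
    exact ⟨_, rfl⟩)
  choose Zk z e' hZ using fun k => (⟨_, _, _, IsPullback.of_hasPullback _ _⟩ :
    ∃ (Zk : Sp S) (z : Zk ⟶ Z) (e' : Zk ⟶ Qk k), IsPullback z e' e (v' k))
  have := K595.DescInst.isClosedImmersion.{u}
  refine K617.FinLoc.repWith_of_family @IsClosedImmersion (fun _ _ g (hg : IsClosedImmersion g) => inferInstance)
    (j := v') (fun k => ?_) (fun x => ?_) (fun k => hZ k) (fun k => ?_)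
  · refine K610.OpenImm.repWith_etale_of_open ?_
    refine K610.OpenImm.repWith_of_comp_mono (j := ι) ?_
    rw [hv' k]
    exact hv k
  · have hx : Points.map ι x ∈ D.opens := by rw [← hru]; exact ⟨_, rfl⟩
    obtain ⟨k, hk⟩ := Set.mem_iUnion.1 hx
    obtain ⟨y, hy⟩ := hk
    obtain ⟨x', hx', -⟩ := K609.Points.exists_of_isPullback (hQ k) (Points.map ι x) y hy.symm
    refine ⟨k, x', (K610.OpenImm.isOpenEmbedding_points D.hQ hu).injective ?_⟩
    rw [← Points.map_comp, hv', hx']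
  · refine D.closed_piece hi (hQ k) (z := z k) ?_
    have h1 : IsPullback (z k) (e' k) (e ≫ ι) (v' k ≫ ι) := isPullback_comp_mono (hZ k) ι
    rw [he, hv'] at h1
    exact h1

theorem surjective (hi : IsRedInduced (closure (Set.range (Points.map D.g))) i) (ht : Surjective D.t.left) :
    Function.Surjective (Points.map (i ≫ D.g₁)) := by
  intro x
  obtain ⟨w, rfl⟩ := K609.Points.surjective_ofPt_of_repWith_surjective D.hps x
  obtain ⟨y, rfl⟩ := ht.surj w
  have h1 : Points.map D.g (Points.ofScheme D.T y) ∈ Set.range (Points.map i) := by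
    rw [hi.2.1]
    exact subset_closure ⟨_, rfl⟩
  obtain ⟨z, hz⟩ := h1
  refine ⟨z, ?_⟩
  rw [Points.map_comp, hz, ← Points.map_comp, D.g_fst, Points.map_comp, K609.Points.map_yon_map_ofScheme,
    ← Points.ofPt_eq_map_ofScheme]

end Dat

/-- **Theorem.** Let `f : X ⟶ Y` and `π : P ⟶ Y` be separated, `p : h_W ⟶ X` an étale surjective morphism from an
affine scheme, `X` quasi-separated, `j : h_W ⟶ P` an open immersion over `Y`. For some `n` and every `r : Q ⟶ Y` with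
`n` morphisms `q_k : Q ⟶ P` over `Y` which is weakly universal, there are a reduced closed subspace `Z ⊆ X ×_Y Q`
mapping onto `X`, which is covered by the opens `q_k⁻¹(W)`, on which `Z ⟶ X` is `q_k⁻¹(W) ⟶ W ⟶ X`, and such that
`Z ⟶ Q` is a closed immersion into an open subspace. -/
theorem main [QuasiSeparatedSpace ↥S] {X Y P : Sp S} (hX : IsAlgSpace X) (hY : IsAlgSpace Y) (hP : IsAlgSpace P)
    (hXqs : IsQuasiSeparatedSp X) {f : X ⟶ Y} {π : P ⟶ Y} (hf : IsSeparatedMor f) (hπ : IsSeparatedMor π)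
    {W : Over S} (hW : IsAffine W.left) {p : (yon S).obj W ⟶ X} {j : (yon S).obj W ⟶ P} (hp : RepWith @Etale p)
    (hps : RepWith @Surjective p) (hj : RepWith @IsOpenImmersion j) (w : p ≫ f = j ≫ π) :
    ∃ n : ℕ, ∀ (Q : Sp S) (_ : IsAlgSpace Q) (r : Q ⟶ Y) (q : Fin n → (Q ⟶ P)) (_ : ∀ k, q k ≫ π = r)
      (_ : ∀ (T : Over S) (y : (yon S).obj T ⟶ Y) (τ : Fin n → ((yon S).obj T ⟶ P)), (∀ k, τ k ≫ π = y) →
        ∃ τ' : (yon S).obj T ⟶ Q, (∀ k, τ' ≫ q k = τ k) ∧ τ' ≫ r = y),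
      ∃ (Z G : Sp S) (g₁ : G ⟶ X) (g₂ : G ⟶ Q) (i : Z ⟶ G), IsAlgSpace Z ∧ IsPullback g₁ g₂ f r ∧
        RepWith @IsClosedImmersion i ∧ IsReducedSp Z ∧ Function.Surjective (Points.map (i ≫ g₁)) ∧
        (∃ (Q' : Sp S) (u : Q' ⟶ Q) (e : Z ⟶ Q'), RepWith @IsOpenImmersion u ∧ RepWith @IsClosedImmersion e ∧
          e ≫ u = i ≫ g₂) ∧
        (∀ z : Points Z, ∃ k, Points.map (i ≫ g₂ ≫ q k) z ∈ Set.range (Points.map j)) ∧
        ∀ (k : Fin n) (Zk : Sp S) (z : Zk ⟶ Z) (w : Zk ⟶ (yon S).obj W), IsPullback z w (i ≫ g₂ ≫ q k) j →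
          z ≫ i ≫ g₁ = w ≫ p := by
  obtain ⟨T, t, hT1, hT2, hT3, n, σ, hσ, hE⟩ := UltraCov.exists_cover hXqs hW p hp
  refine ⟨n, fun Q hQ r q hq huniv => ?_⟩
  obtain ⟨τ, hτ, hτr⟩ := huniv T ((yon S).map t ≫ p ≫ f) (fun k => (yon S).map (σ k) ≫ j) fun k => by
    rw [Category.assoc, ← w, ← Category.assoc, hσ, Category.assoc]
  let D : Dat S :=
    { X := X, Y := Y, Q := Q, P := P, G := pullback f r, hX := hX, hY := hY, hQ := hQ, hP := hP
      f := f, r := r, π := π, hf := hf, hπ := hπ, g₁ := pullback.fst f r, g₂ := pullback.snd f r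
      sq := IsPullback.of_hasPullback _ _, W := W, T := T, p := p, j := j, hp := hp, hps := hps, hj := hj
      w := w, t := t, hT := hT2, n := n, σ := σ, hσ := hσ, hE := hE, q := q, hq := hq, τ := τ, hτ := hτ
      hτr := hτr }
  obtain ⟨Z, i, hZ, hi⟩ := K598.Red.exists_isRedInduced D.hG (closure (Set.range (Points.map D.g))) isClosed_closure
  obtain ⟨Q', u, e, hu, he, hue, -⟩ := D.exists_factor hi
  refine ⟨Z, D.G, D.g₁, D.g₂, i, hZ, D.sq, hi.1, hi.2.2, D.surjective hi hT3, ⟨Q', u, e, hu, he, hue⟩, fun z => ?_,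
    fun k Zk z w h => D.agree hi h⟩
  obtain ⟨k, hk⟩ := D.exists_mem (Points.map i z) (by rw [← hi.2.1]; exact ⟨_, rfl⟩)
  exact ⟨k, by rw [Points.map_comp]; exact hk⟩

end K637.Core
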