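import Groth.Agent.Synt.K561.LciDict
import Groth.Agent.AlgSp.K597.EtLoc
import Groth.Agent.Proet.EtaleLift
import Groth.Agent.AlgSp.K637.EtCover
import Groth.Prelude.Def_AlgSpMor6

/-!
# "Koszul at every point" (lci) is etale local on the source and target

* `LM_of_etale_source`: if `e : A ⟶ B` is etale surjective and `e ≫ f` is lci then `f` is lci (pointwise form
  `descend'`).
* `etLoc_lci : K597.EtLoc AlgSp.lci`.
-/

set_option autoImplicit false
set_option backward.isDefEq.respectTransparency false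
set_option backward.isDefEq.respectTransparency.types false
universe u
open CategoryTheory CategoryTheory.Limits AlgebraicGeometry

namespace K637.EtLocLci

open K561.LciDict Groth.Agent.Dual.H375.LciLocus Groth.Agent.Flat2H

theorem exists_lift_pushout (A R S : Type u) [CommRing A] [CommRing R] [Algebra A R]
    (h : Function.Surjective (algebraMap A R)) [CommRing S] [Algebra R S] [Algebra A S]
    [IsScalarTower A R S] [Algebra.Etale R S] :
    ∃ (B : Type u) (_ : CommRing B) (_ : Algebra A B) (_ : Algebra B S) (_ : IsScalarTower A B S),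
      Algebra.Etale A B ∧ Algebra.IsPushout A B R S := by
  obtain ⟨B, _, _, h1, ⟨e⟩⟩ := Groth.Agent.Proet.EtaleLift.exists_etale_lift A R S h
  let i : Algebra B S := ((e.toRingEquiv.toRingHom).comp
    (Algebra.TensorProduct.includeRight : B →ₐ[A] TensorProduct A R B).toRingHom).toAlgebra
  have t : IsScalarTower A B S := IsScalarTower.of_algebraMap_eq fun a => by
    change algebraMap A S a = e ((Algebra.TensorProduct.includeRight : B →ₐ[A] TensorProduct A R B)
      (algebraMap A B a))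
    rw [AlgHom.commutes, IsScalarTower.algebraMap_apply A R (TensorProduct A R B), AlgEquiv.commutes,
      ← IsScalarTower.algebraMap_apply A R S]
  have h2 : Algebra.IsPushout A R B S :=
    ⟨IsBaseChange.of_equiv e.toLinearEquiv (fun x => rfl)⟩
  exact ⟨B, inferInstance, inferInstance, i, t, h1, h2.symm⟩

/-- Descent of lci along a flat quasi-compact open map whose image contains the image of `i`. -/
theorem LM_descends_nhd {Z X X' Z' : Scheme.{u}} {i : Z ⟶ X} {g : X' ⟶ X} {i' : Z' ⟶ X'} {g' : Z' ⟶ Z}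
    (sq : IsPullback g' i' i g) [Flat g] [QuasiCompact g] (hg : IsOpenMap g) [Surjective g'] (h : LM i') :
    LM i := by
  let O : X.Opens := ⟨Set.range g, hg.isOpen_range⟩
  let g₀ : X' ⟶ O.toScheme := IsOpenImmersion.lift O.ι g (by simp [O])
  have hg₀ : g₀ ≫ O.ι = g := IsOpenImmersion.lift_fac _ _ _
  let i₀ : Z ⟶ O.toScheme := IsOpenImmersion.lift O.ι i (by
    rintro _ ⟨z, rfl⟩
    obtain ⟨z', rfl⟩ := g'.surjective z
    rw [← Scheme.Hom.comp_apply, sq.w, Scheme.Hom.comp_apply, Scheme.Opens.range_ι]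
    exact ⟨_, rfl⟩)
  have hi₀ : i₀ ≫ O.ι = i := IsOpenImmersion.lift_fac _ _ _
  have sq₀ : IsPullback g' i' i₀ g₀ := by
    refine ⟨⟨?_⟩, ⟨PullbackCone.IsLimit.mk _ (fun s => sq.lift s.fst s.snd ?_) (fun s => sq.lift_fst _ _ _)
      (fun s => sq.lift_snd _ _ _) (fun s m h1 h2 => sq.hom_ext (by rw [h1, sq.lift_fst]) (by rw [h2, sq.lift_snd]))⟩⟩
    · rw [← cancel_mono O.ι, Category.assoc, Category.assoc, hi₀, hg₀, sq.w]
    · rw [← hi₀, ← hg₀, ← Category.assoc, s.condition, Category.assoc]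
  have hf : Flat g₀ := K637.EtCover.of_comp_mono (P := @Flat) (ψ := O.ι) (by rw [hg₀]; infer_instance)
  have hq : QuasiCompact g₀ := K637.EtCover.of_comp_mono (P := @QuasiCompact) (ψ := O.ι) (by
    rw [hg₀]; infer_instance)
  have hs : Surjective g₀ := by
    constructor
    rintro ⟨_, x, rfl⟩
    refine ⟨x, O.ι.isOpenEmbedding.injective ?_⟩
    rw [← Scheme.Hom.comp_apply, hg₀]
    rfl
  rw [← hi₀]
  exact LM_comp (LM_descends sq₀ h) (LM_smooth O.ι)

theorem LM_SpecMap {A B C : CommRingCat.{u}} (φ : A ⟶ B) (ψ : B ⟶ C) (he : Etale (Spec.map ψ))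
    (hs : Surjective (Spec.map ψ)) (hft : LocallyOfFiniteType (Spec.map φ)) (h : LM (Spec.map (φ ≫ ψ))) :
    LM (Spec.map φ) := by
  algebraize [φ.hom, ψ.hom, (φ ≫ ψ).hom]
  have hBC : Algebra.Etale B C := by
    rw [← RingHom.etale_algebraMap]
    exact (HasRingHomProperty.Spec_iff (P := @Etale)).1 he
  have hAB : Algebra.FiniteType A B := by
    rw [← RingHom.finiteType_algebraMap]
    exact (HasRingHomProperty.Spec_iff (P := @LocallyOfFiniteType)).1 hft
  obtain ⟨n, θ, hθ⟩ := Algebra.FiniteType.iff_quotient_mvPolynomial''.1 hAB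
  let P : Type u := MvPolynomial (Fin n) A
  let : Algebra P B := θ.toRingHom.toAlgebra
  have : IsScalarTower A P B := .of_algebraMap_eq' θ.comp_algebraMap.symm
  let : Algebra P C := ((algebraMap B C).comp θ.toRingHom).toAlgebra
  have : IsScalarTower P B C := .of_algebraMap_eq' rfl
  obtain ⟨W, _, _, _, _, hW, hpo⟩ := exists_lift_pushout P B C hθ
  have sq : IsPullback (Spec.map (CommRingCat.ofHom (algebraMap B C))) (Spec.map (CommRingCat.ofHom (algebraMap W C)))
      (Spec.map (CommRingCat.ofHom (algebraMap P B))) (Spec.map (CommRingCat.ofHom (algebraMap P W))) :=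
    ((CommRingCat.isPushout_of_isPushout P W B C).op.map Scheme.Spec)
  have hPA : Smooth (Spec.map (CommRingCat.ofHom (algebraMap A P))) := by
    rw [HasRingHomProperty.Spec_iff (P := @Smooth)]
    change (algebraMap A (MvPolynomial (Fin n) A)).Smooth
    rw [RingHom.smooth_algebraMap]
    exact ⟨inferInstance, inferInstance⟩
  have hWP : Etale (Spec.map (CommRingCat.ofHom (algebraMap P W))) := by
    rw [HasRingHomProperty.Spec_iff (P := @Etale)]
    change (algebraMap P W).Etale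
    rw [RingHom.etale_algebraMap]
    exact hW
  have e1 : CommRingCat.ofHom (algebraMap A P) ≫ CommRingCat.ofHom (algebraMap P W) ≫
      CommRingCat.ofHom (algebraMap W C) = φ ≫ ψ := by
    ext a
    change algebraMap W C (algebraMap P W (algebraMap A P a)) = algebraMap B C (algebraMap A B a)
    rw [← IsScalarTower.algebraMap_apply P W C, IsScalarTower.algebraMap_apply P B C,
      ← IsScalarTower.algebraMap_apply A P B]
  have e2 : CommRingCat.ofHom (algebraMap A P) ≫ CommRingCat.ofHom (algebraMap P B) = φ := by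
    ext a
    change algebraMap P B (algebraMap A P a) = algebraMap A B a
    rw [← IsScalarTower.algebraMap_apply A P B]
  have h1 : LM (Spec.map (CommRingCat.ofHom (algebraMap W C))) := by
    refine LM_of_comp_smooth _ (Spec.map (CommRingCat.ofHom (algebraMap P W)) ≫
      Spec.map (CommRingCat.ofHom (algebraMap A P))) ?_
    rw [← Spec.map_comp, ← Spec.map_comp, Category.assoc, e1]
    exact h
  have hs' : Surjective (Spec.map (CommRingCat.ofHom (algebraMap B C))) := hs
  have h2 : LM (Spec.map (CommRingCat.ofHom (algebraMap P B))) :=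
    LM_descends_nhd sq (Spec.map (CommRingCat.ofHom (algebraMap P W))).isOpenMap h1
  have h3 := LM_comp h2 (LM_smooth (Spec.map (CommRingCat.ofHom (algebraMap A P))))
  rw [← Spec.map_comp, e2] at h3
  exact h3

theorem LM_of_isAffine {A B C : Scheme.{u}} [IsAffine A] [IsAffine B] [IsAffine C] (e : A ⟶ B) (f : B ⟶ C)
    [Etale e] [Surjective e] [LocallyOfFiniteType f] (h : LM (e ≫ f)) : LM f := by
  have e1 : Spec.map e.appTop = A.isoSpec.inv ≫ e ≫ B.isoSpec.hom := by
    rw [← Scheme.isoSpec_hom_naturality, Iso.inv_hom_id_assoc]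
  have e2 : Spec.map f.appTop = B.isoSpec.inv ≫ f ≫ C.isoSpec.hom := by
    rw [← Scheme.isoSpec_hom_naturality, Iso.inv_hom_id_assoc]
  have e3 : Spec.map (f.appTop ≫ e.appTop) = A.isoSpec.inv ≫ (e ≫ f) ≫ C.isoSpec.hom := by
    rw [Spec.map_comp, e1, e2]
    simp
  have h1 := LM_SpecMap f.appTop e.appTop (by rw [e1]; infer_instance) (by rw [e1]; infer_instance)
    (by rw [e2]; infer_instance) (by
      rw [e3, LM.cancel_left_of_respectsIso, LM.cancel_right_of_respectsIso]
      exact h)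
  rw [e2, LM.cancel_left_of_respectsIso, LM.cancel_right_of_respectsIso] at h1
  exact h1

theorem locallyOfFiniteType_of_LM {X Y : Scheme.{u}} {f : X ⟶ Y} (h : LM f) : LocallyOfFiniteType f :=
  ⟨fun {U} hU {V} hV e => (h V U hV hU e).1⟩

/-- lci is local at the source in the etale topology, pointwise form. -/
theorem LM_descend' {B C : Scheme.{u}} (f : B ⟶ C)
    (H : ∀ b : B, ∃ (A : Scheme.{u}) (e : A ⟶ B), Etale e ∧ b ∈ Set.range e ∧ LM (e ≫ f)) : LM f := by
  have hft : LocallyOfFiniteType f := K597.etLoc_lft.descend' f fun b => by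
    obtain ⟨A, e, he, hb, h⟩ := H b
    exact ⟨A, e, he, hb, locallyOfFiniteType_of_LM h⟩
  rw [← isLCIMor_iff]
  refine isLCIMor_of_cover f fun b => ?_
  obtain ⟨A, e, he, ⟨a, rfl⟩, h⟩ := H b
  obtain ⟨V, hV, hv, -⟩ := exists_isAffineOpen_mem_and_subset (x := f (e a)) (U := ⊤) trivial
  -- restrict over `V`
  let A₁ : A.Opens := e ⁻¹ᵁ f ⁻¹ᵁ V
  obtain ⟨B₀, A₀, j, t, g₀, hj, ht, hB₀, hA₀, hg₀, ha, hb, hc⟩ :=
    K637.EtCover.exists_local (e ∣_ (f ⁻¹ᵁ V)) (e ∣_ (f ⁻¹ᵁ V)).isOpenMap ⟨a, hv⟩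
  have hjι : IsOpenImmersion (j ≫ (f ⁻¹ᵁ V).ι) := inferInstance
  have he0 : g₀ ≫ j ≫ (f ⁻¹ᵁ V).ι = (t ≫ (e ⁻¹ᵁ f ⁻¹ᵁ V).ι) ≫ e := by
    rw [← Category.assoc, ← hc, Category.assoc, morphismRestrict_ι, Category.assoc]
  have hg₀e : Etale g₀ := by
    refine K637.EtCover.of_comp_mono (P := @Etale) (ψ := j ≫ (f ⁻¹ᵁ V).ι) ?_
    rw [he0]
    infer_instance
  have hf0 : (j ≫ (f ∣_ V)) ≫ V.ι = (j ≫ (f ⁻¹ᵁ V).ι) ≫ f := by
    rw [Category.assoc, Category.assoc, morphismRestrict_ι]
  have hV' : IsAffine V.toScheme := hV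
  have h1 : LM (g₀ ≫ j ≫ (f ∣_ V)) := by
    refine LM_of_comp_smooth _ V.ι ?_
    rw [Category.assoc, hf0, ← Category.assoc, he0, Category.assoc]
    exact IsZariskiLocalAtSource.comp h _
  have h2 : LM (j ≫ (f ∣_ V)) := LM_of_isAffine g₀ _ h1
  have h3 : LM ((j ≫ (f ⁻¹ᵁ V).ι) ≫ f) := by
    rw [← hf0]
    exact LM_comp h2 (LM_smooth _)
  refine ⟨(j ≫ (f ⁻¹ᵁ V).ι).opensRange, ?_, ?_⟩
  · obtain ⟨b₀, hb₀⟩ := hb
    refine ⟨b₀, ?_⟩
    rw [Scheme.Hom.comp_apply, hb₀, ← Scheme.Hom.comp_apply, morphismRestrict_ι]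
    rfl
  · rw [isLCIMor_iff]
    have e4 : (j ≫ (f ⁻¹ᵁ V).ι).isoOpensRange.inv ≫ (j ≫ (f ⁻¹ᵁ V).ι) = (j ≫ (f ⁻¹ᵁ V).ι).opensRange.ι :=
      Scheme.Hom.isoOpensRange_inv_comp _
    rw [← e4, Category.assoc, LM.cancel_left_of_respectsIso]
    exact h3

theorem lci_iff {X Y : Scheme.{u}} (f : X ⟶ Y) : AlgSp.lci f ↔ LM f := forall_isKoszulAt_iff f

/-- "Koszul at every point" is etale local on the source and target. -/
theorem etLoc_lci : K597.EtLoc AlgSp.lci.{u} where
  precomp A B C e f he hf := by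
    rw [lci_iff] at hf ⊢
    exact LM_comp (LM_smooth e) hf
  postcomp A B C f e he hf := by
    rw [lci_iff] at hf ⊢
    exact LM_comp hf (LM_smooth e)
  cancel A B C f e he hf := by
    rw [lci_iff] at hf ⊢
    exact LM_of_comp_smooth f e hf
  descend' B C f H := by
    rw [lci_iff]
    refine LM_descend' f fun b => ?_
    obtain ⟨A, e, he, hb, h⟩ := H b
    exact ⟨A, e, he, hb, (lci_iff _).1 h⟩

end K637.EtLocLci
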