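import Groth.Prelude.Def_AlgSpMor5

/-!
# Properties etale local on the target; one chart criterion for `RepLocT`
-/

set_option autoImplicit false
universe u
open CategoryTheory CategoryTheory.Limits AlgebraicGeometry
open AlgSp

namespace K637.EtTarget

section Sch

variable (P : MorphismProperty Scheme.{u}) [P.IsLocalAtTarget Scheme.etalePrecoverage]

/-- A property local on the target for the etale precoverage is stable under etale base change. -/
theorem of_isPullback_etale {X Y X' Y' : Scheme.{u}} {f : X ⟶ Y} {g : Y' ⟶ Y} {g' : X' ⟶ X} {f' : X' ⟶ Y'}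
    (sq : IsPullback g' f' f g) (hg : Etale g) (hf : P f) : P f' := by
  have hR : Presieve.ofArrows (fun i : Option PUnit.{u+1} => Option.elim i Y (fun _ => Y'))
      (fun i => match i with | none => 𝟙 Y | some _ => g) ∈ Scheme.etalePrecoverage Y := by
    refine (Scheme.ofArrows_mem_precoverage_iff (P := @Etale)).2 ⟨fun x => ⟨none, x, rfl⟩, ?_⟩
    rintro (_ | _)
    · exact (inferInstance : Etale (𝟙 Y))
    · exact hg
  have h1 := MorphismProperty.IsLocalAtTarget.pullbackSnd (P := P) (K := Scheme.etalePrecoverage) hR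
    (g := g) (Presieve.ofArrows.mk (some PUnit.unit)) hf
  rw [← P.cancel_left_of_respectsIso sq.isoPullback.hom, sq.isoPullback_hom_snd] at h1
  exact h1

/-- Descent of a property local on the target along one surjective etale morphism. -/
theorem of_isPullback_etale_surjective {X Y X' Y' : Scheme.{u}} {f : X ⟶ Y} {g : Y' ⟶ Y} {g' : X' ⟶ X}
    {f' : X' ⟶ Y'} (sq : IsPullback g' f' f g) (hg : Etale g) (hg' : Surjective g) (hf : P f') : P f := by
  have hR : Presieve.singleton g ∈ Scheme.etalePrecoverage Y :=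
    (Scheme.singleton_mem_precoverage_iff (P := @Etale) g).2 ⟨hg'.surj, hg⟩
  refine MorphismProperty.IsLocalAtTarget.of_forall_pullbackSnd (P := P) (K := Scheme.etalePrecoverage) hR ?_
  rintro _ _ _ ⟨⟩
  rw [← P.cancel_left_of_respectsIso sq.isoPullback.hom, sq.isoPullback_hom_snd]
  exact hf

end Sch

variable {S : Scheme.{u}}

/-- Squares in `Over S` that are pullbacks after `yon` are pullbacks, and stay pullbacks in schemes. -/
theorem isPullback_of_yon {A B C D : Over S} {a : A ⟶ B} {b : A ⟶ C} {c : B ⟶ D} {d : C ⟶ D}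
    (h : IsPullback ((yon S).map a) ((yon S).map b) ((yon S).map c) ((yon S).map d)) :
    IsPullback a b c d := IsPullback.of_map (yon S) (by
      apply (yon S).map_injective
      simpa using h.w) h

theorem isPullback_left {A B C D : Over S} {a : A ⟶ B} {b : A ⟶ C} {c : B ⟶ D} {d : C ⟶ D}
    (h : IsPullback a b c d) : IsPullback a.left b.left c.left d.left := h.map (Over.forget S)

theorem isPullback_left_of_yon {A B C D : Over S} {a : A ⟶ B} {b : A ⟶ C} {c : B ⟶ D} {d : C ⟶ D}
    (h : IsPullback ((yon S).map a) ((yon S).map b) ((yon S).map c) ((yon S).map d)) :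
    IsPullback a.left b.left c.left d.left := isPullback_left (isPullback_of_yon h)

/-- Two represented pullbacks of `f`, one along `b : h_V ⟶ G` and one along `b' : h_V' ⟶ G`, compared over
`T = V ×_G V'`: the base change of `W' ⟶ V'` to `T` is also the base change of `W ⟶ V`. -/
theorem exists_common {F G : Sp S} (f : F ⟶ G) {V W V' W' T : Over S}
    (b : (yon S).obj V ⟶ G) (fst : (yon S).obj W ⟶ F) (snd : W ⟶ V)
    (sq : IsPullback fst ((yon S).map snd) f b)
    (b' : (yon S).obj V' ⟶ G) (fst' : (yon S).obj W' ⟶ F) (snd' : W' ⟶ V')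
    (sq' : IsPullback fst' ((yon S).map snd') f b')
    (p : T ⟶ V) (q : T ⟶ V') (hpq : (yon S).map p ≫ b = (yon S).map q ≫ b') :
    ∃ (W'' : Over S) (π : W'' ⟶ T) (α : W'' ⟶ W) (α' : W'' ⟶ W'),
      IsPullback α π snd p ∧ IsPullback α' π snd' q ∧ (yon S).map α ≫ fst = (yon S).map α' ≫ fst' := by
  have s1 : IsPullback (pullback.fst snd' q) (pullback.snd snd' q) snd' q := IsPullback.of_hasPullback _ _
  have s2 := s1.map (yon S)
  have s3 := s2.paste_horiz sq'
  rw [← hpq] at s3
  have hw : ((yon S).map (pullback.fst snd' q) ≫ fst') ≫ f =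
      ((yon S).map (pullback.snd snd' q) ≫ (yon S).map p) ≫ b := by
    rw [s3.w, Category.assoc]
  let α0 : (yon S).obj (pullback snd' q) ⟶ (yon S).obj W := sq.lift _ _ hw
  obtain ⟨α, hα⟩ := (yon S).map_surjective α0
  have h1 : (yon S).map α ≫ fst = (yon S).map (pullback.fst snd' q) ≫ fst' := by
    rw [hα]; exact sq.lift_fst _ _ _
  have h2 : (yon S).map α ≫ (yon S).map snd = (yon S).map (pullback.snd snd' q) ≫ (yon S).map p := by
    rw [hα]; exact sq.lift_snd _ _ _
  refine ⟨_, pullback.snd snd' q, α, pullback.fst snd' q, ?_, s1, h1⟩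
  refine isPullback_of_yon ?_
  refine IsPullback.of_right (t := sq) ?_ h2 
  rw [h1]
  exact s3

end K637.EtTarget
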