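import Groth.Agent.AlgSp.K637.RepChow
import Groth.Agent.AlgSp.K636.QcqsOver
import Groth.Agent.AlgSp.K610.ZarGlue

/-!
# Finite covers of qcqs algebraic spaces by schemes

* `iInter_range` : a closed subspace which is a limit of closed subspaces `D_i ⊆ Q` has `|Z| = ⋂ |D_i|`.
* `exists_avoid` : some `D_i` avoids a given closed subset disjoint from `Z`.
-/

set_option autoImplicit false
universe u
open CategoryTheory CategoryTheory.Limits AlgebraicGeometry Opposite AlgSp

namespace K637.FinCover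

variable {S : Scheme.{u}}

/-- Zariski's Main Theorem with finite presentation: the statement of S10648. -/
def ZMTfp (S : Scheme.{u}) : Prop :=
  ∀ {X Y : AlgSp.Space S} (f : X ⟶ Y), LocP (@LocallyQuasiFinite ⊓ @LocallyOfFiniteType) f.hom →
    IsQuasiCompactMor f.hom → IsSeparatedMor f.hom → LocP @LocallyOfFinitePresentation f.hom →
    IsQuasiCompactSp Y.obj → IsQuasiSeparatedSp Y.obj →
    ∃ (T : AlgSp.Space S) (j : X ⟶ T) (π : T ⟶ Y), j ≫ π = f ∧
      RepWith @IsOpenImmersion j.hom ∧ IsQuasiCompactMor j.hom ∧ IsFiniteMor π.hom ∧ IsFinitePresentationMor π.hom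

/-- Closed subspaces are limits of closed subspaces of finite presentation: the statement of S10035. -/
def ClApprox (S : Scheme.{u}) : Prop :=
  ∀ {X Y : AlgSp.Space S} (f : X ⟶ Y), RepWith @IsClosedImmersion f.hom → IsQuasiCompactSp Y.obj →
    IsQuasiSeparatedSp Y.obj →
    ∃ (I : Type u) (_ : Preorder I) (_ : IsDirected I (fun a b => a ≤ b)) (_ : Nonempty I) (D : Iᵒᵖ ⥤ AlgSp.Sp S)
      (t : D ⟶ (Functor.const Iᵒᵖ).obj Y.obj) (c : Cone D) (_ : IsLimit c) (e : c.pt ≅ X.obj),
      (∀ i, AlgSp.IsAlgSpace (D.obj i)) ∧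
      (∀ (i j : Iᵒᵖ) (φ : i ⟶ j), AlgSp.RepWith @IsClosedImmersion (D.map φ)) ∧
      (∀ i, AlgSp.RepWith @IsClosedImmersion (t.app i) ∧ AlgSp.IsFinitePresentationMor (t.app i)) ∧
      (∀ i, e.inv ≫ c.π.app i ≫ t.app i = f.hom)

/-- Points of a limit of closed subspaces. -/
theorem mem_range_of_forall {Z Q : Sp S} {z : Z ⟶ Q} {I : Type u} [Preorder I] {D : Iᵒᵖ ⥤ Sp S}
    {t : D ⟶ (Functor.const Iᵒᵖ).obj Q} {c : Cone D} (hc : IsLimit c) (e : c.pt ≅ Z)
    (ht : ∀ i, RepWith @IsClosedImmersion (t.app i)) (he : ∀ i, e.inv ≫ c.π.app i ≫ t.app i = z) [Nonempty I]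
    (x : Points Q) (hx : ∀ i, x ∈ Set.range (Points.map (t.app i))) : x ∈ Set.range (Points.map z) := by
  obtain ⟨K, _, str, g, hg⟩ := K609.Points.exists_field_ofPt x
  have hr : IsReduced (Over.mk str).left := (inferInstance : IsReduced (Spec (CommRingCat.of K)))
  choose l hl using fun i => K610.Factor.exists_lift_closed (ht i) g (by
    rintro _ ⟨y, rfl⟩
    rw [hg]
    exact hx i)
  let s : Cone D :=
    { pt := (yon S).obj (Over.mk str)
      π := { app := l
             naturality := fun i j φ => by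
               have := K610.Factor.mono_of_isClosedImmersion (ht j)
               rw [← cancel_mono (t.app j)]
               have h1 := t.naturality φ
               simp only [Functor.const_obj_obj, Functor.const_obj_map, Category.comp_id, Category.id_comp] at h1 ⊢
               rw [Category.assoc, h1, hl, hl] } }
  let i₀ : Iᵒᵖ := op (Classical.arbitrary I)
  refine ⟨Points.ofPt (hc.lift s ≫ e.hom) (IsLocalRing.closedPoint K), ?_⟩
  rw [← K610.Base.ofPt_comp, ← he i₀, Category.assoc, Iso.hom_inv_id_assoc, hc.fac_assoc]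
  change Points.ofPt (l i₀ ≫ t.app i₀) _ = x
  rw [hl, hg]

/-- Some closed subspace of the system avoids a given closed subset. -/
theorem exists_avoid {Z Q : Sp S} {z : Z ⟶ Q} (hQ : IsQuasiCompactSp Q) {I : Type u} [Preorder I]
    [IsDirected I (fun a b => a ≤ b)] {D : Iᵒᵖ ⥤ Sp S}
    {t : D ⟶ (Functor.const Iᵒᵖ).obj Q} {c : Cone D} (hc : IsLimit c) (e : c.pt ≅ Z)
    (ht : ∀ i, RepWith @IsClosedImmersion (t.app i)) (he : ∀ i, e.inv ≫ c.π.app i ≫ t.app i = z) [Nonempty I]
    (C : Set (Points Q)) (hC : IsClosed C) (hCz : Disjoint C (Set.range (Points.map z))) :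
    ∃ i, Disjoint C (Set.range (Points.map (t.app i))) := by
  by_contra hcon
  push Not at hcon
  have hcomp : CompactSpace (Points Q) := K609.QC.compactSpace_points hQ
  have hne : (⋂ i : I, C ∩ Set.range (Points.map (t.app (op i)))).Nonempty := by
    refine IsCompact.nonempty_iInter_of_directed_nonempty_isCompact_isClosed _ (fun i j => ?_) (fun i => ?_)
      (fun i => ?_) (fun i => ?_)
    · obtain ⟨k, hik, hjk⟩ := directed_of (fun a b : I => a ≤ b) i j
      have key : ∀ {a b : I} (_ : a ≤ b), Set.range (Points.map (t.app (op b))) ⊆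
          Set.range (Points.map (t.app (op a))) := by
        rintro a b hab _ ⟨y, rfl⟩
        have h1 := t.naturality (homOfLE hab).op
        simp only [Functor.const_obj_obj, Functor.const_obj_map, Category.comp_id] at h1
        exact ⟨Points.map (D.map (homOfLE hab).op) y, by rw [← Points.map_comp, h1]⟩
      exact ⟨k, Set.inter_subset_inter_right _ (key hik), Set.inter_subset_inter_right _ (key hjk)⟩
    · obtain ⟨x, hx⟩ := Set.not_disjoint_iff.1 (hcon (op i))
      exact ⟨x, hx⟩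
    · exact (hC.inter (K598.Red.isClosed_range (ht _))).isCompact
    · exact hC.inter (K598.Red.isClosed_range (ht _))
  obtain ⟨x, hx⟩ := hne
  rw [Set.mem_iInter] at hx
  have h1 := mem_range_of_forall hc e ht he x (fun i => (hx i.unop).2)
  exact Set.disjoint_left.1 hCz (hx (Classical.arbitrary I)).1 h1

/-- An open surjection from a scheme onto a compact space is refined by an affine scheme. -/
theorem exists_affine_refinement {V : Scheme.{u}} {X : Type*} [TopologicalSpace X] [CompactSpace X] (f : V → X)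
    (hf : IsOpenMap f) (hs : Function.Surjective f) :
    ∃ (W : Scheme.{u}) (g : W ⟶ V), IsAffine W ∧ Etale g ∧ Function.Surjective (f ∘ g) := by
  obtain ⟨s, hs⟩ := isCompact_univ.elim_finite_subcover
    (fun i : V.affineCover.I₀ => f '' (V.affineCover.f i).opensRange)
    (fun i => hf _ (V.affineCover.f i).opensRange.isOpen) (fun x _ => by
      obtain ⟨v, rfl⟩ := hs x
      obtain ⟨i, y, hy⟩ := V.affineCover.exists_eq v
      exact Set.mem_iUnion.2 ⟨i, v, ⟨y, hy⟩, rfl⟩)
  refine ⟨∐ fun i : s => V.affineCover.X i.1, Sigma.desc fun i : s => V.affineCover.f i.1, inferInstance,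
    ?_, fun x => ?_⟩
  · have : IsZariskiLocalAtSource (@Etale.{u}) := HasRingHomProperty.instIsZariskiLocalAtSource
    rw [IsZariskiLocalAtSource.iff_of_openCover (P := @Etale) (sigmaOpenCover _)]
    have key : ∀ i : s, Etale (Sigma.ι (fun i : s => V.affineCover.X i.1) i ≫
        Sigma.desc fun i : s => V.affineCover.f i.1) := fun i => by
      rw [Sigma.ι_desc]
      infer_instance
    exact key
  · obtain ⟨i, hi, hx⟩ := Set.mem_iUnion₂.1 (hs (Set.mem_univ x))
    obtain ⟨v, ⟨y, hy⟩, rfl⟩ := hx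
    refine ⟨Sigma.ι (fun i : s => V.affineCover.X i.1) ⟨i, hi⟩ y, ?_⟩
    rw [Function.comp_apply, ← Scheme.Hom.comp_apply, Sigma.ι_desc]
    exact congrArg f hy

/-- finite and locally of finite presentation -/
abbrev FinFp : MorphismProperty Scheme.{u} := @IsFinite ⊓ @LocallyOfFinitePresentation

theorem lfp_isMultiplicative :
    MorphismProperty.IsMultiplicative (@LocallyOfFinitePresentation : MorphismProperty Scheme.{u}) := by
  have : MorphismProperty.ContainsIdentities (@LocallyOfFinitePresentation : MorphismProperty Scheme.{u}) :=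
    ⟨fun X => (inferInstance : LocallyOfFinitePresentation (𝟙 X))⟩
  exact {}

theorem finFp_isMultiplicative : (FinFp.{u}).IsMultiplicative := by
  have := lfp_isMultiplicative.{u}
  infer_instance

/-- A chart of a qcqs algebraic space is open in a finite, finitely presented algebraic space. -/
theorem exists_chart_compactification [QuasiSeparatedSpace ↥S] (H : ZMTfp S) {Y : Sp S} (hY : IsAlgSpace Y)
    (hY1 : IsQuasiCompactSp Y) (hY2 : IsQuasiSeparatedSp Y) {Y' : Over S} (hY' : IsAffine Y'.left)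
    {y₀ : (yon S).obj Y' ⟶ Y} (hy : RepWith @Etale y₀) :
    ∃ (T : Sp S) (j : (yon S).obj Y' ⟶ T) (π : T ⟶ Y), IsAlgSpace T ∧ j ≫ π = y₀ ∧ RepWith @IsOpenImmersion j ∧
      RepWith @QuasiCompact j ∧ RepWith FinFp π := by
  have h1 : RepWith @QuasiCompact y₀ := K594.StrataQC.repWith_quasiCompact hY2 y₀
  have h2 : IsSeparated Y'.hom := RepChow.isSeparated_of_isAffine _
  have h3 : RepWith @IsSeparated y₀ := K609.Sep.repWith_isSeparated h1.1
  obtain ⟨T, j, π, hjπ, hj, hjq, hπ, hπ'⟩ := @H ⟨_, IsAlgSpace.yon_obj Y'⟩ ⟨Y, hY⟩ ⟨y₀⟩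
    (K597.locP_of_repWith K597.etLoc_lqf.precomp (K597.repWith_mono (fun _ _ g (hg : Etale g) =>
      ⟨K597.locallyQuasiFinite_of_etale g, inferInstance⟩) hy))
    (K596.QC.isQuasiCompactMor_of_repWith h1) ((K595.DiagBasic.isSeparatedMor_iff_repWith h1.1).2 h3)
    (K597.locP_of_repWith K597.etLoc_lfp.precomp (K597.repWith_mono (fun _ _ g (hg : Etale g) =>
      (inferInstance : LocallyOfFinitePresentation g)) hy)) hY1 hY2
  have h4 : RepWith @IsFinite π.hom := K617.FinLoc.isFiniteMor_iff.1 hπ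
  have h5 : RepWith @LocallyOfFinitePresentation π.hom := K597.repWith_of_locP K597.etLoc_lfp hY.hasAtlas h4.1 hπ'.1
  exact ⟨T.obj, j.hom, π.hom, T.property, congrArg (fun k => k.hom) hjπ, hj,
    K596.QC.repWith_of_isQuasiCompactMor hj.1 hjq, h4.1, fun _ _ g fst snd sq =>
      ⟨h4.2 g fst snd sq, h5.2 g fst snd sq⟩⟩

/-- **Recognition of schemes.** Let `r : Y₀ ⟶ X` be affine, `π : T ⟶ X` separated, `j : h_U ⟶ T` an open immersion and
`q_k : Y₀ ⟶ T` morphisms over `X` such that every point of `Y₀` lies in some `q_k⁻¹(U)`. Then `Y₀` is a scheme, and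
locally one of the `q_k` factors through `U`. -/
theorem exists_scheme {X T Y₀ : Sp S} {U : Over S} {π : T ⟶ X} (hπ : IsSeparatedMor π)
    {j : (yon S).obj U ⟶ T} (hj : RepWith @IsOpenImmersion j) {r : Y₀ ⟶ X} (hr : RepWith @IsAffineHom r) {n : ℕ}
    (q : Fin n → (Y₀ ⟶ T)) (hq : ∀ k, q k ≫ π = r)
    (hcov : ∀ x : Points Y₀, ∃ k, Points.map (q k) x ∈ Set.range (Points.map j)) :
    ∃ (H : Over S) (e : (yon S).obj H ≅ Y₀), ∀ y : H.left, ∃ (V : H.left.Opens), y ∈ V ∧
      ∃ (k : Fin n) (m : Over.mk (V.ι ≫ H.hom) ⟶ U),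
        (yon S).map m ≫ j = (yon S).map (Over.homMk V.ι) ≫ e.hom ≫ q k := by
  have hqa : ∀ k, RepWith @IsAffineHom (q k) := fun k => by
    refine K613.Diag.repWith_of_comp (g := π) (by rw [hq]; exact hr) ?_
    exact K597.repWith_mono (fun _ _ g (hg : IsClosedImmersion g) => (inferInstance : IsAffineHom g)) hπ
  -- the pieces
  choose Yk o w sq using fun k => (⟨_, _, _, IsPullback.of_hasPullback (q k) j⟩ :
    ∃ (Yk : Sp S) (o : Yk ⟶ Y₀) (w : Yk ⟶ (yon S).obj U), IsPullback o w (q k) j)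
  have ho : ∀ k, RepWith @IsOpenImmersion (o k) := fun k => K598.RepKit.repWith_of_isPullback (sq k).flip hj
  have hw : ∀ k, RepWith @IsAffineHom (w k) := fun k => K598.RepKit.repWith_of_isPullback (sq k) (hqa k)
  choose V v e hv he hev using fun k => RelChow.exists_iso (w k) (hw k)
  let f : ∀ k : ULift.{u} (Fin n), (yon S).obj (V k.down) ⟶ Y₀ := fun k => e k.down ≫ o k.down
  have hf : ∀ k, RepWith @IsOpenImmersion (f k) := fun k =>
    MorphismProperty.comp_mem _ _ _ (K598.RepKit.repWith_of_isIso _) (ho k.down)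
  obtain ⟨H, φ, ι, hι1, hι2, hι3⟩ := K610.ZarGlue.exists_iso_of_openCover (fun k : ULift.{u} (Fin n) => V k.down) f hf
    (fun x => by
      obtain ⟨k, y, hy⟩ := hcov x
      obtain ⟨z, hz, -⟩ := K609.Points.exists_of_isPullback (sq k) x y hy.symm
      refine ⟨⟨k⟩, Points.map (inv (e k)) z, ?_⟩
      change Points.map (e k ≫ o k) _ = x
      rw [← Points.map_comp, IsIso.inv_hom_id_assoc, hz])
  refine ⟨H, φ, fun y => ?_⟩
  obtain ⟨k, y', hy'⟩ := hι3 y
  have := hι1 k
  let V' : H.left.Opens := (ι k).left.opensRange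
  -- the inverse of the open immersion on its range
  let m₀ : Over.mk (V'.ι ≫ H.hom) ⟶ V k.down := Over.homMk (IsOpenImmersion.lift (ι k).left V'.ι (by simp [V'])) (by
    rw [← Over.w (ι k), IsOpenImmersion.lift_fac_assoc]
    rfl)
  have hm₀ : m₀ ≫ ι k = Over.homMk V'.ι := Over.OverMorphism.ext (IsOpenImmersion.lift_fac _ _ _)
  refine ⟨V', ⟨y', hy'⟩, k.down, m₀ ≫ v k.down, ?_⟩
  rw [Functor.map_comp, ← hev, Category.assoc, Category.assoc, ← (sq k.down).w, ← hm₀, Functor.map_comp,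
    Category.assoc, ← Category.assoc ((yon S).map (ι k)), hι2, Category.assoc]

/-- An étale surjective morphism from a scheme to a quasi-compact space is refined by an affine scheme. -/
theorem exists_affine_chart_refining {X : Sp S} (hq : IsQuasiCompactSp X) {U : Over S}
    {p : (yon S).obj U ⟶ X} (hp : RepWith @Etale p) (hps : RepWith @Surjective p) :
    ∃ (U' : Over S) (a : U' ⟶ U), IsAffine U'.left ∧ Etale a.left ∧ RepWith @Etale ((yon S).map a ≫ p) ∧
      RepWith @Surjective ((yon S).map a ≫ p) := by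
  have hc : CompactSpace (Points X) := K609.QC.compactSpace_points hq
  obtain ⟨W, g, hW, hg, hgs⟩ := exists_affine_refinement (Points.ofPt p) (K609.Points.isOpenMap_ofPt hp)
    (K609.Points.surjective_ofPt_of_repWith_surjective hps)
  let U' : Over S := Over.mk (g ≫ U.hom)
  let a : U' ⟶ U := Over.homMk g rfl
  have h1 : RepWith @Etale ((yon S).map a ≫ p) :=
    MorphismProperty.comp_mem _ _ _ ((repWith_yon_map_iff _ _).2 hg) hp
  refine ⟨U', a, hW, hg, h1, (K609.Points.repWith_surjective_iff h1.1).2 ?_⟩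
  rw [← K609.Points.surjective_ofPt_iff]
  intro x
  obtain ⟨w, hw⟩ := hgs x
  exact ⟨w, by rw [K610.Base.ofPt_map_comp]; exact hw⟩

/-- The closed subset of a finite space over `X`, mapping onto `X`, on which one of finitely many maps lands in the
chart. -/
theorem exists_closed {X T : Sp S} (hX : IsAlgSpace X) (hT : IsAlgSpace T) {P : MorphismProperty Scheme.{u}}
    [P.IsStableUnderBaseChange] [P.IsMultiplicative] {π : T ⟶ X} (hπ : RepWith P π) (hπs : IsSeparatedMor π)
    {U : Over S} (hU : IsAffine U.left)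
    {p : (yon S).obj U ⟶ X} {j : (yon S).obj U ⟶ T} (hp : RepWith @Etale p) (hps : RepWith @Surjective p)
    (hpq : RepWith @QuasiCompact p) (hj : RepWith @IsOpenImmersion j) (hjπ : j ≫ π = p) :
    ∃ (n : ℕ) (Q : Sp S) (r : Q ⟶ X) (q : Fin n → (Q ⟶ T)) (C : Set (Points Q)), IsAlgSpace Q ∧ RepWith P r ∧
      (∀ k, q k ≫ π = r) ∧ IsClosed C ∧ (∀ x, ∃ z ∈ C, Points.map r z = x) ∧
      C ⊆ ⋃ k, Points.map (q k) ⁻¹' Set.range (Points.map j) := by
  obtain ⟨T₀, t, hT1, hT2, hT3, n, σ, hσ, hE⟩ := Core2.exists_cover' hU p hp hpq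
  obtain ⟨Q, r, q, hQ, hr, hq, hu⟩ := RepChow.exists_power hX hT hπ (n + 1)
  obtain ⟨τ, hτ, hτr⟩ := hu T₀ ((yon S).map t ≫ p) (fun k => (yon S).map (σ k) ≫ j) fun k => by
    rw [Category.assoc, hjπ, hσ]
  have hid : IsSeparatedMor (𝟙 X) := MorphismProperty.id_mem (@IsSeparatedMor S) X
  let D : Core.Dat S :=
    { X := X, Y := X, Q := Q, P := T, G := Q, hX := hX, hY := hX, hQ := hQ, hP := hT
      f := 𝟙 X, r := r, π := π, hf := hid, hπ := hπs, g₁ := r, g₂ := 𝟙 Q
      sq := IsPullback.of_vert_isIso ⟨by simp⟩, W := U, T := T₀, p := p, j := j, hp := hp, hps := hps, hj := hj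
      w := by rw [Category.comp_id, hjπ], t := t, hT := hT2, n := n + 1, σ := σ, hσ := hσ, hE := hE, q := q
      hq := hq, τ := τ, hτ := hτ, hτr := by rw [Category.comp_id, hτr] }
  have hDg : D.g = τ := by
    have := D.g_snd
    change D.g ≫ 𝟙 Q = τ at this
    rwa [Category.comp_id] at this
  refine ⟨n + 1, Q, r, q, closure (Set.range (Points.map D.g)), hQ, hr, hq, isClosed_closure, fun x => ?_,
    fun z hz => ?_⟩
  · obtain ⟨w, rfl⟩ := K609.Points.surjective_ofPt_of_repWith_surjective hps x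
    obtain ⟨y, rfl⟩ := hT3.surj w
    refine ⟨Points.map D.g (Points.ofScheme T₀ y), subset_closure ⟨_, rfl⟩, ?_⟩
    rw [← Points.map_comp]
    have h1 : D.g ≫ r = (yon S).map t ≫ p := D.g_fst
    rw [h1, Points.map_comp, K609.Points.map_yon_map_ofScheme, ← Points.ofPt_eq_map_ofScheme]
  · obtain ⟨k, hk⟩ := D.exists_mem z hz
    refine Set.mem_iUnion.2 ⟨k, ?_⟩
    change Points.map (𝟙 Q ≫ q k) z ∈ _ at hk
    rwa [Category.id_comp] at hk

/-- A closed subspace of `Q` contained in the union of the opens `q_k⁻¹(U)` and mapping onto `X` is a finite cover by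
a scheme, locally factoring through `U`. -/
theorem exists_cover_of_closed {X T Q Y₀ : Sp S} {U U₀ : Over S} {π : T ⟶ X} (hπ : IsSeparatedMor π)
    {j : (yon S).obj U ⟶ T} (hj : RepWith @IsOpenImmersion j) {r : Q ⟶ X} (hr : RepWith @IsFinite r) {n : ℕ}
    {q : Fin n → (Q ⟶ T)} (hq : ∀ k, q k ≫ π = r) {a : U ⟶ U₀} {p : (yon S).obj U₀ ⟶ X}
    (hjp : j ≫ π = (yon S).map a ≫ p) {C : Set (Points Q)} (hC : ∀ x, ∃ z ∈ C, Points.map r z = x)
    {y : Y₀ ⟶ Q} (hy : RepWith @IsClosedImmersion y) (hyC : C ⊆ Set.range (Points.map y))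
    (hyq : Set.range (Points.map y) ⊆ ⋃ k, Points.map (q k) ⁻¹' Set.range (Points.map j)) :
    ∃ (Y : Over S) (e : (yon S).obj Y ≅ Y₀), IsFiniteMor (e.hom ≫ y ≫ r) ∧ IsSurjectiveMor (e.hom ≫ y ≫ r) ∧
      ∀ z : ↥Y.left, ∃ (V : Y.left.Opens), z ∈ V ∧
        ∃ k : Over.mk (V.ι ≫ Y.hom) ⟶ U₀, (yon S).map k ≫ p = (yon S).map (Over.homMk V.ι) ≫ e.hom ≫ y ≫ r := by
  have hyr : RepWith @IsFinite (y ≫ r) := MorphismProperty.comp_mem _ _ _
    (K597.repWith_mono (fun _ _ g (hg : IsClosedImmersion g) => (inferInstance : IsFinite g)) hy) hr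
  obtain ⟨Y, e, he⟩ := exists_scheme hπ hj (r := y ≫ r)
    (K597.repWith_mono (fun _ _ g (hg : IsFinite g) => (inferInstance : IsAffineHom g)) hyr)
    (fun k => y ≫ q k) (fun k => by rw [Category.assoc, hq]) (fun x => by
      obtain ⟨k, hk⟩ := Set.mem_iUnion.1 (hyq ⟨x, rfl⟩)
      exact ⟨k, by rw [Points.map_comp]; exact hk⟩)
  refine ⟨Y, e, K617.FinLoc.isFiniteMor_iff.2 (MorphismProperty.comp_mem _ _ _ (K598.RepKit.repWith_of_isIso _) hyr),
    fun x => ?_, fun z => ?_⟩
  · obtain ⟨z, hz, rfl⟩ := hC x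
    obtain ⟨z', rfl⟩ := hyC hz
    refine ⟨Points.map e.inv z', ?_⟩
    rw [← Points.map_comp, ← Points.map_comp, Iso.inv_hom_id_assoc]
  · obtain ⟨V, hV, k, m, hm⟩ := he z
    refine ⟨V, hV, m ≫ a, ?_⟩
    rw [Functor.map_comp, Category.assoc, ← hjp, ← Category.assoc, hm]
    simp only [Category.assoc, hq]

/-- **Finite covers by schemes** (modulo Zariski's Main Theorem): a qcqs algebraic space has a finite surjective
cover by a reduced scheme which Zariski locally factors through a given étale chart. -/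
theorem exists_finite [QuasiSeparatedSpace ↥S] (H : RepChow.ZMT S) {X : Sp S} (hX : IsAlgSpace X)
    (hXq : IsQuasiCompactSp X) (hXqs : IsQuasiSeparatedSp X) {U : Over S} {p : (yon S).obj U ⟶ X}
    (hp : RepWith @Etale p) (hps : RepWith @Surjective p) :
    ∃ (Y : Over S) (g : (yon S).obj Y ⟶ X), IsReduced Y.left ∧ IsFiniteMor g ∧ IsSurjectiveMor g ∧
      ∀ y : ↥Y.left, ∃ (V : Y.left.Opens), y ∈ V ∧
        ∃ k : Over.mk (V.ι ≫ Y.hom) ⟶ U, (yon S).map k ≫ p = (yon S).map (Over.homMk V.ι) ≫ g := by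
  obtain ⟨U', a, hU', ha, hp', hps'⟩ := exists_affine_chart_refining hXq hp hps
  obtain ⟨T, j, π, hT, hjπ, hj, -, hπ⟩ := RepChow.exists_chart_compactification H hX hXq hXqs hU' hp'
  have hπs : IsSeparatedMor π := (K595.DiagBasic.isSeparatedMor_iff_repWith hπ.1).2
    (K597.repWith_mono (fun _ _ g (hg : IsFinite g) => (inferInstance : IsSeparated g)) hπ)
  obtain ⟨n, Q, r, q, C, hQ, hr, hq, hC, hC1, hC2⟩ := exists_closed hX hT hπ hπs hU' hp' hps'
    (K594.StrataQC.repWith_quasiCompact hXqs _) hj hjπ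
  obtain ⟨Z, i, hZ, hi⟩ := K598.Red.exists_isRedInduced hQ C hC
  obtain ⟨Y, e, h1, h2, h3⟩ := exists_cover_of_closed hπs hj hr hq hjπ hC1 hi.1 hi.2.1.symm.subset
    (hi.2.1.subset.trans hC2)
  exact ⟨Y, _, K612.Reduced.isReduced_of_isReducedSp hi.2.2 e.hom (K598.RepKit.repWith_of_isIso _), h1, h2, h3⟩

/-- **Finite covers by schemes of finite presentation**, modulo S10648 and S10035. -/
theorem exists_finite_fp [QuasiSeparatedSpace ↥S] (H : ZMTfp S) (A : ClApprox S) {X : Sp S} (hX : IsAlgSpace X)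
    (hXq : IsQuasiCompactSp X) (hXqs : IsQuasiSeparatedSp X) {U : Over S} {p : (yon S).obj U ⟶ X}
    (hp : RepWith @Etale p) (hps : RepWith @Surjective p) :
    ∃ (Y : Over S) (g : (yon S).obj Y ⟶ X), IsFiniteMor g ∧ IsSurjectiveMor g ∧ IsFinitePresentationMor g ∧
      ∀ y : ↥Y.left, ∃ (V : Y.left.Opens), y ∈ V ∧
        ∃ k : Over.mk (V.ι ≫ Y.hom) ⟶ U, (yon S).map k ≫ p = (yon S).map (Over.homMk V.ι) ≫ g := by
  have := finFp_isMultiplicative.{u}
  have := lfp_isMultiplicative.{u}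
  obtain ⟨U', a, hU', ha, hp', hps'⟩ := exists_affine_chart_refining hXq hp hps
  obtain ⟨T, j, π, hT, hjπ, hj, -, hπ⟩ := exists_chart_compactification H hX hXq hXqs hU' hp'
  have hπs : IsSeparatedMor π := (K595.DiagBasic.isSeparatedMor_iff_repWith hπ.1).2
    (K597.repWith_mono (fun _ _ g (hg : FinFp g) => by
      have : IsFinite g := hg.1
      exact (inferInstance : IsSeparated g)) hπ)
  obtain ⟨n, Q, r, q, C, hQ, hr, hq, hC, hC1, hC2⟩ := exists_closed hX hT hπ hπs hU' hp' hps'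
    (K594.StrataQC.repWith_quasiCompact hXqs _) hj hjπ
  have hrf : RepWith @IsFinite r := K597.repWith_mono (fun _ _ g (hg : FinFp g) => hg.1) hr
  have hrp : RepWith @LocallyOfFinitePresentation r := K597.repWith_mono (fun _ _ g (hg : FinFp g) => hg.2) hr
  have hrs : IsSeparatedMor r := (K595.DiagBasic.isSeparatedMor_iff_repWith hrf.1).2
      (K597.repWith_mono (fun _ _ g (hg : IsFinite g) => (inferInstance : IsSeparated g)) hrf)
  have hrqs : IsQuasiSeparatedMor r := K597.repWith_mono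
    (fun _ _ g (hg : IsClosedImmersion g) => (inferInstance : QuasiCompact g)) hrs
  have hrqc : IsQuasiCompactMor r := K596.QC.isQuasiCompactMor_of_repWith
    (K597.repWith_mono (fun _ _ g (hg : IsFinite g) => (inferInstance : QuasiCompact g)) hrf)
  have hQq : IsQuasiCompactSp Q := K636.QcqsOver.isQuasiCompactSp_of_mor hrqc hX hXq
  have hQqs : IsQuasiSeparatedSp Q := K636.QcqsOver.isQuasiSeparatedSp_of_mor hrqs hXqs
  obtain ⟨Z, i, hZ, hi⟩ := K598.Red.exists_isRedInduced hQ C hC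
  obtain ⟨I, _, _, _, D, t, c, hc, e, hD, hDm, ht, hte⟩ := @A ⟨Z, hZ⟩ ⟨Q, hQ⟩ ⟨i⟩ hi.1 hQq hQqs
  have hopen : IsOpen (⋃ k, Points.map (q k) ⁻¹' Set.range (Points.map j)) := isOpen_iUnion fun _ =>
    (K610.OpenImm.isOpenEmbedding_points hT hj).isOpen_range.preimage (Points.continuous_map _)
  obtain ⟨i₀, hi₀⟩ := exists_avoid hQq hc e (fun i => (ht i).1) hte _ hopen.isClosed_compl (by
    have h1 : Set.range (Points.map i) ⊆ ⋃ k, Points.map (q k) ⁻¹' Set.range (Points.map j) :=
      hi.2.1.subset.trans hC2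
    rw [Set.disjoint_left]
    exact fun x hx hx' => hx (h1 hx'))
  have hCi : C ⊆ Set.range (Points.map (t.app i₀)) := by
    rw [← hi.2.1]
    rintro _ ⟨x, rfl⟩
    refine ⟨Points.map (e.inv ≫ c.π.app i₀) x, ?_⟩
    rw [← Points.map_comp, Category.assoc]
    exact congrArg (fun k => Points.map k x) (hte i₀)
  obtain ⟨Y, e', h1, h2, h3⟩ := exists_cover_of_closed hπs hj hrf hq hjπ hC1 (ht i₀).1 hCi (by
    intro x hx
    by_contra hcon
    exact Set.disjoint_left.1 hi₀ hcon hx)
  refine ⟨Y, _, h1, h2, ?_, h3⟩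
  have hf : RepWith @IsFinite (e'.hom ≫ t.app i₀ ≫ r) := K617.FinLoc.isFiniteMor_iff.1 h1
  have hfs : IsSeparatedMor (e'.hom ≫ t.app i₀ ≫ r) := (K595.DiagBasic.isSeparatedMor_iff_repWith hf.1).2
      (K597.repWith_mono (fun _ _ g (hg : IsFinite g) => (inferInstance : IsSeparated g)) hf)
  refine ⟨?_, K596.QC.isQuasiCompactMor_of_repWith
    (K597.repWith_mono (fun _ _ g (hg : IsFinite g) => (inferInstance : QuasiCompact g)) hf),
    K597.repWith_mono (fun _ _ g (hg : IsClosedImmersion g) => (inferInstance : QuasiCompact g)) hfs⟩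
  have h4 : RepWith @LocallyOfFinitePresentation (t.app i₀) :=
    K597.repWith_of_locP K597.etLoc_lfp hQ.hasAtlas (ht i₀).1.1 (ht i₀).2.1
  exact K597.locP_of_repWith K597.etLoc_lfp.precomp (MorphismProperty.comp_mem _ _ _
    (K598.RepKit.repWith_of_isIso (P := @LocallyOfFinitePresentation) _) (MorphismProperty.comp_mem _ _ _ h4 hrp))

end K637.FinCover
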