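import Groth.Agent.S10653
import Groth.Agent.S10310
import Groth.Agent.S10267
import Groth.Agent.AlgSp.K597.Proper
import Mathlib.AlgebraicGeometry.ZariskisMainTheorem

/-!
# Flat proper morphisms which are finite over a dense open are locally quasi-finite
-/

set_option autoImplicit false
universe u
open CategoryTheory CategoryTheory.Limits AlgebraicGeometry
open AlgSp

namespace K637.FiniteDense

variable {S : Scheme.{u}}

/-- The relative dimension is at most zero everywhere iff the morphism is locally quasi-finite. -/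
theorem lqf_of_le_zero {X Y : AlgSp.Space S} (f : X ⟶ Y) (hf : LocP @LocallyOfFiniteType f.hom)
    (H : ∀ x, HasAtMor (fun _ _ h u => FlatMor.fibreDimAt h u ≤ ((0 : ℕ) : WithBot ℕ∞)) f.hom x) :
    LocP (@LocallyQuasiFinite ⊓ @LocallyOfFiniteType) f.hom := by
  intro U V a b h ha hb w
  have h2 : LocallyOfFiniteType h.left := hf a b h ha hb w
  refine ⟨?_, h2⟩
  refine Groth.Agent.Flat2C.LqfDense.locallyQuasiFinite_of_fibreDimAt h.left fun u => ?_
  have h3 := H (AlgSp.Points.ofPt a u)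
  rw [K616.Inv.hasAtMor_iff (K616.DimInv.etInvOn_fibreDimAt fun d => d ≤ ((0 : ℕ) : WithBot ℕ∞)) hf a b h ha hb w u] at h3
  exact h3

theorem le_zero_of_isFinite {X Y : AlgSp.Space S} (f : X ⟶ Y) (hf : IsFiniteMor f.hom) (x : Points X.obj) :
    HasAtMor (fun _ _ h u => FlatMor.fibreDimAt h u ≤ ((0 : ℕ) : WithBot ℕ∞)) f.hom x := by
  have h1 : RepWith @IsFinite f.hom := (Groth.Agent.S10267.result f).2.1 hf
  have h2 : LocP (@LocallyQuasiFinite ⊓ @LocallyOfFiniteType) f.hom :=
    K597.locP_of_repWith K597.etLoc_lqf.precomp (K597.repWith_mono (fun _ _ g hg => by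
      have : IsFinite g := hg
      exact ⟨inferInstance, inferInstance⟩) h1)
  obtain ⟨U, V, a, b, h, u, ha, hb, w, hu, h3⟩ :=
    (Groth.Agent.S10310.result f (fun U V a b h ha hb w => (h2 a b h ha hb w).2)).1 h2 x
  exact ⟨U, V, a, b, h, u, ha, hb, w, hu, h3.le⟩

theorem lqf {X Y V : AlgSp.Space S} (f : X ⟶ Y) (j : V ⟶ Y)
    (hf1 : AlgSp.LocP @Flat f.hom) (hf2 : AlgSp.IsProperMor f.hom)
    (hj1 : AlgSp.RepWith @IsOpenImmersion j.hom) (hj2 : Dense (Set.range (AlgSp.Points.map j.hom)))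
    (P : AlgSp.Space S) (fst : P ⟶ X) (snd : P ⟶ V) (hP : IsPullback fst.hom snd.hom f.hom j.hom)
    (hV : AlgSp.IsFiniteMor snd.hom)
    (h : AlgSp.LocP @LocallyOfFinitePresentation f.hom ∨ AlgSp.IsQuasiCompactMor j.hom) :
    LocP (@LocallyQuasiFinite ⊓ @LocallyOfFiniteType) f.hom :=
  lqf_of_le_zero f hf2.2.1.1 (Groth.Agent.S10653.result f j 0 hf1 hf2.2.1.1 hj1 hj2 P fst snd hP
    (le_zero_of_isFinite snd hV) h)

theorem isFinite_of_representable {X Y : AlgSp.Space S} (f : X ⟶ Y) (hr : Representable f.hom)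
    (hf2 : AlgSp.IsProperMor f.hom) (h : LocP (@LocallyQuasiFinite ⊓ @LocallyOfFiniteType) f.hom) :
    AlgSp.IsFiniteMor f.hom := by
  have h1 : RepWith @IsProper f.hom := (K597.Proper.isProperMor_iff_repWith Y.property hr).1 hf2
  have h2 : RepWith (@LocallyQuasiFinite ⊓ @LocallyOfFiniteType) f.hom :=
    K597.repWith_of_locP K597.etLoc_lqf Y.property.hasAtlas hr h
  refine (Groth.Agent.S10267.result f).2.2 ⟨hr, fun U V g fst snd sq => ?_⟩
  have h3 : IsProper snd.left := h1.2 g fst snd sq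
  have h4 : LocallyQuasiFinite snd.left := (h2.2 g fst snd sq).1
  exact IsFinite.of_isProper_of_locallyQuasiFinite snd.left

end K637.FiniteDense
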