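import Mathlib.AlgebraicGeometry.AffineSpace
import Mathlib.AlgebraicGeometry.Morphisms.FiniteType
import Mathlib.AlgebraicGeometry.Morphisms.FormallyUnramified
import Mathlib.RingTheory.Kaehler.Basic
import Mathlib.RingTheory.Unramified.Basic
import Mathlib.Algebra.TrivSqZeroExt.Basic

/-!
# Unramified morphisms to affine spaces

`V` and `Y` affine schemes, `E` quasi-compact, `a : E ⟶ V`, `b : E ⟶ Y` jointly monomorphic, `b` locally of finite type.
Then there are functions `f_1, …, f_n` on `V` such that `(f_1 ∘ a, …, f_n ∘ a, b) : E ⟶ 𝔸^n_Y` is unramified.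
-/

set_option autoImplicit false
universe u
open CategoryTheory CategoryTheory.Limits AlgebraicGeometry Opposite

namespace K637.NagUnr

section ring

variable {A R C : Type u} [CommRing A] [CommRing R] [CommRing C] [Algebra R C]

/-- `A` and `R` are jointly epimorphic on `C`. -/
def JEpi (φ : A →+* C) (ρ : R →+* C) : Prop :=
  ∀ (T : Type u) [CommRing T] (f g : C →+* T), f.comp φ = g.comp φ → f.comp ρ = g.comp ρ → f = g

theorem deriv_zero {M : Type u} [AddCommGroup M] [Module C M] [Module R M] [IsScalarTower R C M]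
    {φ : A →+* C} (hepi : JEpi φ (algebraMap R C)) (D : Derivation R C M) (h : ∀ a, D (φ a) = 0) (c : C) : D c = 0 := by
  let : Module Cᵐᵒᵖ M := Module.compHom M ((RingHom.id C).fromOpposite fun _ _ => mul_comm _ _)
  have : IsCentralScalar C M := ⟨fun r m => rfl⟩
  let g : C →+* TrivSqZeroExt C M :=
    { toFun := fun c => TrivSqZeroExt.inl c + TrivSqZeroExt.inr (D c)
      map_one' := by simp
      map_mul' := fun x y => by
        ext
        · simp
        · simp [add_comm]
      map_zero' := by simp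
      map_add' := fun x y => by
        ext
        · simp
        · simp }
  have h1 := hepi (TrivSqZeroExt C M) (TrivSqZeroExt.inlHom C M) g (by
    ext a
    · simp [g]
    · simp [g, h]) (by
    ext a
    · simp [g]
    · simp [g])
  have h2 := congrArg (fun k => TrivSqZeroExt.snd (k c)) h1
  simpa [g] using h2.symm

theorem span_eq_top {φ : A →+* C} (hepi : JEpi φ (algebraMap R C)) :
    Submodule.span C (Set.range fun a => KaehlerDifferential.D R C (φ a)) = ⊤ := by
  set N := Submodule.span C (Set.range fun a => KaehlerDifferential.D R C (φ a)) with hN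
  let D' : Derivation R C (Ω[C⁄R] ⧸ N) := N.mkQ.compDer (KaehlerDifferential.D R C)
  have h1 : ∀ c, D' c = 0 := deriv_zero hepi D' fun a =>
    (Submodule.Quotient.mk_eq_zero N).2 (Submodule.subset_span ⟨a, rfl⟩)
  rw [← top_le_iff, ← KaehlerDifferential.span_range_derivation, Submodule.span_le]
  rintro _ ⟨c, rfl⟩
  exact (Submodule.Quotient.mk_eq_zero N).1 (h1 c)

theorem exists_finset [Algebra.EssFiniteType R C] {φ : A →+* C} (hepi : JEpi φ (algebraMap R C)) :
    ∃ s : Finset A, Submodule.span C ((fun a => KaehlerDifferential.D R C (φ a)) '' (s : Set A)) = ⊤ := by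
  classical
  have h1 := span_eq_top hepi
  obtain ⟨s', hs', hs''⟩ := (Submodule.fg_span_iff_fg_span_finset_subset (R := C)
    (Set.range fun a => KaehlerDifferential.D R C (φ a))).1 (by rw [h1]; exact Module.Finite.fg_top)
  rw [← Set.image_univ, Finset.subset_set_image_iff] at hs'
  obtain ⟨s, -, rfl⟩ := hs'
  refine ⟨s, ?_⟩
  rw [← Finset.coe_image, ← hs'', h1]

/-- The unramifiedness criterion. -/
theorem formallyUnramified_of_span {M : Type u} [CommRing M] [Algebra R M] [Algebra M C] [IsScalarTower R M C]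
    {φ : A →+* C} {s : Set A}
    (hs : Submodule.span C ((fun a => KaehlerDifferential.D R C (φ a)) '' s) = ⊤)
    (h : ∀ a ∈ s, φ a ∈ Set.range (algebraMap M C)) : Algebra.FormallyUnramified M C := by
  constructor
  have h1 := KaehlerDifferential.map_surjective R M C
  have h2 : (⊤ : Submodule C Ω[C⁄M]) = ⊥ := by
    rw [← LinearMap.range_eq_top] at h1
    have h3 : LinearMap.range (KaehlerDifferential.map R M C C) =
        (⊤ : Submodule C Ω[C⁄R]).map (KaehlerDifferential.map R M C C) := (Submodule.map_top _).symm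
    rw [← h1, h3, ← hs, Submodule.map_span, Submodule.span_eq_bot]
    rintro _ ⟨_, ⟨a, ha, rfl⟩, rfl⟩
    obtain ⟨m, hm⟩ := h a ha
    change KaehlerDifferential.map R M C C (KaehlerDifferential.D R C (φ a)) = 0
    rw [KaehlerDifferential.map_D, ← hm]
    exact Derivation.map_algebraMap _ _
  exact (Submodule.subsingleton_iff C).1 (subsingleton_of_bot_eq_top h2.symm)

end ring

/-- **Unramified morphisms to affine spaces.** -/
theorem exists_vector {E V Y : Scheme.{u}} [IsAffine V] [IsAffine Y] [CompactSpace E] (a : E ⟶ V) (b : E ⟶ Y)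
    [LocallyOfFiniteType b]
    (h : ∀ ⦃T : Scheme.{u}⦄ (t t' : T ⟶ E), t ≫ a = t' ≫ a → t ≫ b = t' ≫ b → t = t') :
    ∃ (n : ℕ) (f : ULift.{u} (Fin n) → Γ(V, ⊤)),
      FormallyUnramified (AffineSpace.homOfVector b (a.appTop ∘ f)) := by
  classical
  let 𝒰 := E.affineCover.finiteSubcover
  have hepi : ∀ i, JEpi (𝒰.f i ≫ a).appTop.hom (𝒰.f i ≫ b).appTop.hom := by
    intro i T _ f g h1 h2
    have hA : ∀ {Z : Scheme.{u}} [IsAffine Z] (z : 𝒰.X i ⟶ Z), f.comp z.appTop.hom = g.comp z.appTop.hom →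
        (Spec.map (CommRingCat.ofHom f) ≫ (𝒰.X i).isoSpec.inv) ≫ z =
          (Spec.map (CommRingCat.ofHom g) ≫ (𝒰.X i).isoSpec.inv) ≫ z := by
      intro Z _ z hz
      have e1 : (𝒰.X i).isoSpec.inv ≫ z = Spec.map z.appTop ≫ Z.isoSpec.inv :=
        (Scheme.isoSpec_inv_naturality z).symm
      rw [Category.assoc, Category.assoc, e1, ← Category.assoc, ← Category.assoc, ← Spec.map_comp, ← Spec.map_comp]
      congr 2
      ext x
      exact congrArg (fun k => k x) hz
    have h3 := h ((Spec.map (CommRingCat.ofHom f) ≫ (𝒰.X i).isoSpec.inv) ≫ 𝒰.f i)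
      ((Spec.map (CommRingCat.ofHom g) ≫ (𝒰.X i).isoSpec.inv) ≫ 𝒰.f i)
      (by rw [Category.assoc, Category.assoc]; exact hA _ h1) (by rw [Category.assoc, Category.assoc]; exact hA _ h2)
    have h4 := (cancel_mono (𝒰.f i)).1 h3
    have h5 := (cancel_mono ((𝒰.X i).isoSpec.inv)).1 h4
    exact congrArg (fun k => k.hom) (Spec.map_injective h5)
  have key : ∀ i, ∃ s : Finset Γ(V, ⊤), ∀ (n : ℕ) (f : ULift.{u} (Fin n) → Γ(V, ⊤)), (s : Set Γ(V, ⊤)) ⊆ Set.range f →
      FormallyUnramified (𝒰.f i ≫ AffineSpace.homOfVector b (a.appTop ∘ f)) := by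
    intro i
    have hb : LocallyOfFiniteType (𝒰.f i ≫ b) := inferInstance
    have hft := HasRingHomProperty.appTop (P := @LocallyOfFiniteType) _ hb
    algebraize [(𝒰.f i ≫ b).appTop.hom]
    obtain ⟨s, hs⟩ := exists_finset (hepi i)
    refine ⟨s, fun n f hf => ?_⟩
    set m := AffineSpace.homOfVector b (a.appTop ∘ f) with hm
    rw [HasRingHomProperty.iff_of_isAffine (P := @FormallyUnramified)]
    let : Algebra Γ(Y, ⊤) Γ(𝔸(ULift.{u} (Fin n); Y), ⊤) := (𝔸(ULift.{u} (Fin n); Y) ↘ Y).appTop.hom.toAlgebra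
    let : Algebra Γ(𝔸(ULift.{u} (Fin n); Y), ⊤) Γ(𝒰.X i, ⊤) := (𝒰.f i ≫ m).appTop.hom.toAlgebra
    have hT : IsScalarTower Γ(Y, ⊤) Γ(𝔸(ULift.{u} (Fin n); Y), ⊤) Γ(𝒰.X i, ⊤) := by
      refine IsScalarTower.of_algebraMap_eq' ?_
      have e1 : 𝒰.f i ≫ b = (𝒰.f i ≫ m) ≫ (𝔸(ULift.{u} (Fin n); Y) ↘ Y) := by
        rw [Category.assoc, hm, AffineSpace.homOfVector_over]
      change (𝒰.f i ≫ b).appTop.hom = (𝒰.f i ≫ m).appTop.hom.comp (𝔸(ULift.{u} (Fin n); Y) ↘ Y).appTop.hom
      rw [e1, Scheme.Hom.comp_appTop, CommRingCat.hom_comp]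
    refine formallyUnramified_of_span hs fun x hx => ?_
    obtain ⟨j, rfl⟩ := hf hx
    refine ⟨AffineSpace.coord Y j, ?_⟩
    change (𝒰.f i ≫ m).appTop (AffineSpace.coord Y j) = (𝒰.f i ≫ a).appTop (f j)
    rw [Scheme.Hom.comp_appTop, Scheme.Hom.comp_appTop, CommRingCat.comp_apply, CommRingCat.comp_apply, hm,
      AffineSpace.homOfVector_appTop_coord]
    rfl
  choose s hs using key
  let G : Finset Γ(V, ⊤) := Finset.univ.biUnion s
  let e := G.equivFin
  refine ⟨G.card, fun i => (e.symm i.down).1, ?_⟩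
  rw [IsZariskiLocalAtSource.iff_of_openCover (P := @FormallyUnramified) 𝒰]
  refine fun i => hs i _ _ fun x hx => ?_
  have hx' : x ∈ G := Finset.mem_biUnion.2 ⟨i, Finset.mem_univ _, hx⟩
  exact ⟨⟨e ⟨x, hx'⟩⟩, by simp⟩

end K637.NagUnr
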