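import Groth.Agent.AlgSp.K637.ProjChow
import Groth.Agent.AlgSp.K594.StrataQC

/-!
# Chow's lemma over a qcqs algebraic space (representable compactification)

`chow` : modulo Zariski's Main Theorem for algebraic spaces (`ZMT S`, the statement of S10647).
-/

set_option autoImplicit false
universe u
open CategoryTheory CategoryTheory.Limits AlgebraicGeometry Opposite AlgSp

namespace K637.RepChow

open CohB1 ProjChow

variable {S : Scheme.{u}}

/-- Zariski's Main Theorem for the étale chart of a qcqs algebraic space: the statement of S10647. -/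
def ZMT (S : Scheme.{u}) : Prop :=
  ∀ {X Y : AlgSp.Space S} (f : X ⟶ Y), LocP (@LocallyQuasiFinite ⊓ @LocallyOfFiniteType) f.hom →
    IsQuasiCompactMor f.hom → IsSeparatedMor f.hom → IsQuasiCompactSp Y.obj → IsQuasiSeparatedSp Y.obj →
    ∃ (T : AlgSp.Space S) (j : X ⟶ T) (π : T ⟶ Y), j ≫ π = f ∧
      RepWith @IsOpenImmersion j.hom ∧ IsQuasiCompactMor j.hom ∧ IsFiniteMor π.hom

/-- Finite powers over `Y` of a proper representable morphism. -/
theorem exists_power {Y P₀ : Sp S} (hY : IsAlgSpace Y) (hP₀ : IsAlgSpace P₀) {P : MorphismProperty Scheme.{u}}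
    [P.IsStableUnderBaseChange] [P.IsMultiplicative] {π₀ : P₀ ⟶ Y} (hπ : RepWith P π₀) (n : ℕ) :
    ∃ (Q : Sp S) (r : Q ⟶ Y) (q : Fin n → (Q ⟶ P₀)), IsAlgSpace Q ∧ RepWith P r ∧ (∀ k, q k ≫ π₀ = r) ∧
      ∀ (T : Over S) (y : (yon S).obj T ⟶ Y) (τ : Fin n → ((yon S).obj T ⟶ P₀)), (∀ k, τ k ≫ π₀ = y) →
        ∃ τ' : (yon S).obj T ⟶ Q, (∀ k, τ' ≫ q k = τ k) ∧ τ' ≫ r = y := by
  induction n with
  | zero =>
    exact ⟨Y, 𝟙 Y, fun k => k.elim0, hY, K598.RepKit.repWith_of_isIso _, fun k => k.elim0, fun T y _ _ =>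
      ⟨y, fun k => k.elim0, Category.comp_id _⟩⟩
  | succ n ih =>
    obtain ⟨Q, r, q, hQ, hr, hq, hu⟩ := ih
    have sq : IsPullback (pullback.fst r π₀) (pullback.snd r π₀) r π₀ := IsPullback.of_hasPullback _ _
    refine ⟨pullback r π₀, pullback.fst r π₀ ≫ r, Fin.cons (pullback.snd r π₀) fun k => pullback.fst r π₀ ≫ q k,
      K613.Chart.isAlgSpace_of_isPullback hY.diag hQ hP₀ sq,
      MorphismProperty.comp_mem _ _ _ (K598.RepKit.repWith_of_isPullback sq.flip hπ) hr, fun k => ?_,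
      fun T y τ hτ => ?_⟩
    · refine Fin.cases ?_ (fun k => ?_) k
      · rw [Fin.cons_zero, sq.w]
      · rw [Fin.cons_succ, Category.assoc, hq]
    · obtain ⟨τ', h1, h2⟩ := hu T y (fun k => τ k.succ) fun k => hτ k.succ
      refine ⟨sq.lift τ' (τ 0) (by rw [h2, hτ]), fun k => ?_, by rw [← Category.assoc, sq.lift_fst, h2]⟩
      refine Fin.cases ?_ (fun k => ?_) k
      · rw [Fin.cons_zero, sq.lift_snd]
      · rw [Fin.cons_succ, ← Category.assoc, sq.lift_fst, h1]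

/-- A morphism from an affine scheme is separated. -/
theorem isSeparated_of_isAffine {X Y : Scheme.{u}} [IsAffine X] (f : X ⟶ Y) : IsSeparated f := by
  have : IsSeparated (f ≫ terminal.from Y) := by
    rw [terminal.comp_from]
    infer_instance
  exact IsSeparated.of_comp f (terminal.from Y)

/-- The étale chart of a qcqs algebraic space is open in a finite algebraic space. -/
theorem exists_chart_compactification [QuasiSeparatedSpace ↥S] (H : ZMT S) {Y : Sp S} (hY : IsAlgSpace Y)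
    (hY1 : IsQuasiCompactSp Y) (hY2 : IsQuasiSeparatedSp Y) {Y' : Over S} (hY' : IsAffine Y'.left)
    {y₀ : (yon S).obj Y' ⟶ Y} (hy : RepWith @Etale y₀) :
    ∃ (T : Sp S) (j : (yon S).obj Y' ⟶ T) (π : T ⟶ Y), IsAlgSpace T ∧ j ≫ π = y₀ ∧ RepWith @IsOpenImmersion j ∧
      RepWith @QuasiCompact j ∧ RepWith @IsFinite π := by
  have h1 : RepWith @QuasiCompact y₀ := K594.StrataQC.repWith_quasiCompact hY2 y₀
  have h2 : IsSeparated Y'.hom := isSeparated_of_isAffine _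
  have h3 : RepWith @IsSeparated y₀ := K609.Sep.repWith_isSeparated h1.1
  obtain ⟨T, j, π, hjπ, hj, hjq, hπ⟩ := @H ⟨_, IsAlgSpace.yon_obj Y'⟩ ⟨Y, hY⟩ ⟨y₀⟩
    (K597.locP_of_repWith K597.etLoc_lqf.precomp (K597.repWith_mono (fun _ _ g (hg : Etale g) =>
      ⟨K597.locallyQuasiFinite_of_etale g, inferInstance⟩) hy))
    (K596.QC.isQuasiCompactMor_of_repWith h1) ((K595.DiagBasic.isSeparatedMor_iff_repWith h1.1).2 h3) hY1 hY2
  exact ⟨T.obj, j.hom, π.hom, T.property, congrArg (fun k => k.hom) hjπ, hj,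
    K596.QC.repWith_of_isQuasiCompactMor hj.1 hjq, K617.FinLoc.isFiniteMor_iff.1 hπ⟩

/-- **Chow's lemma** over a quasi-compact and quasi-separated algebraic space. -/
theorem chow [QuasiSeparatedSpace ↥S] (H : ZMT S) {X Y : Sp S} (hX : IsAlgSpace X) (hY : IsAlgSpace Y) (f : X ⟶ Y)
    (hY1 : IsQuasiCompactSp Y) (hY2 : IsQuasiSeparatedSp Y) (hf1 : IsSeparatedMor f) (hf2 : IsFiniteTypeMor f) :
    ∃ (Z Xb : Sp S) (a : Z ⟶ X) (b : Z ⟶ Xb) (c : Xb ⟶ Y), IsAlgSpace Z ∧ IsAlgSpace Xb ∧ b ≫ c = a ≫ f ∧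
      IsProperMor a ∧ IsSurjectiveMor a ∧ RepWith @IsOpenImmersion b ∧ IsProperMor c ∧ Representable c := by
  obtain ⟨Y', y₀, hY', hy, hys⟩ := K609.QC.isQuasiCompactSp_iff_exists_affine_chart.1 hY1
  obtain ⟨T, j, π, hT, hjπ, hj, hjq, hπ⟩ := exists_chart_compactification H hY hY1 hY2 hY' hy
  have hy₀q : RepWith @QuasiCompact y₀ := K594.StrataQC.repWith_quasiCompact hY2 y₀
  -- the chart of `X`
  obtain ⟨F, x₁, x₂, sqF⟩ : ∃ (F : Sp S) (x₁ : F ⟶ X) (x₂ : F ⟶ (yon S).obj Y'), IsPullback x₁ x₂ f y₀ :=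
    ⟨_, _, _, IsPullback.of_hasPullback _ _⟩
  have hF : IsAlgSpace F := K613.Chart.isAlgSpace_of_isPullback hY.diag hX (IsAlgSpace.yon_obj _) sqF
  have hx₁ : RepWith @Etale x₁ := K598.RepKit.repWith_of_isPullback sqF.flip hy
  have hx₁s : RepWith @Surjective x₁ := K598.RepKit.repWith_of_isPullback sqF.flip hys
  have hFq : IsQuasiCompactSp F := hf2.2 (IsAlgSpace.yon_obj Y') (K596.QC.isQuasiCompactSp_yon Y') y₀ x₁ x₂ sqF
  obtain ⟨W, p', hW, hp', hp's⟩ := K609.QC.isQuasiCompactSp_iff_exists_affine_chart.1 hFq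
  obtain ⟨h, hh⟩ := (yon S).map_surjective (p' ≫ x₂)
  have hp : RepWith @Etale (p' ≫ x₁) := MorphismProperty.comp_mem _ _ _ hp' hx₁
  have hps : RepWith @Surjective (p' ≫ x₁) := MorphismProperty.comp_mem _ _ _ hp's hx₁s
  have hw : (p' ≫ x₁) ≫ f = (yon S).map h ≫ y₀ := by rw [Category.assoc, sqF.w, hh, Category.assoc]
  have hhl : LocallyOfFiniteType h.left := hf2.1 _ _ h hp hy hw
  have hhq : RepWith @QuasiCompact ((yon S).map h) := (repWith_yon_map_iff _ _).2 inferInstance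
  have hpq : RepWith @QuasiCompact (p' ≫ x₁) := by
    refine K613.Diag.repWith_of_comp (g := f) ?_ ?_
    · rw [hw]
      exact MorphismProperty.comp_mem _ _ _ hhq hy₀q
    · exact K597.repWith_mono (fun _ _ g (hg : IsClosedImmersion g) => (inferInstance : QuasiCompact g)) hf1
  -- the immersion of the chart in `P^N × T`
  obtain ⟨N, v, hv⟩ := AffEmb.exists_closed_affineSpace (Y := (yon S).obj Y') (Y' := Y') hY' (y₀ := 𝟙 _)
    (repWith_id _ _) (repWith_id _ _) (W := W) (E := W) (g := (yon S).map h) (a := 𝟙 W) (b := h)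
    (by rw [(yon S).map_id]; exact IsPullback.of_horiz_isIso ⟨by simp⟩) hW hhl (by
      rw [eq_top_iff]
      intro c _
      exact Subring.subset_closure (Or.inr ⟨c, by simp⟩))
  obtain ⟨k₀, hk₀, hk₀'⟩ := Groth.Agent.CohqA.ChowAff.exists_immersion N S
  let k : AffEmb.AS S (ULift.{u} (Fin N)) ⟶ PS S N := Over.homMk k₀ hk₀'
  have hk₀q : QuasiCompact k₀ := by
    have : QuasiCompact (k₀ ≫ ProjSpaceOver.toBase N S) := by rw [hk₀']; infer_instance
    exact QuasiCompact.of_comp k₀ (ProjSpaceOver.toBase N S)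
  let j₀ : (yon S).obj W ⟶ (yon S).obj (PS S N) ⨯ T :=
    prod.lift ((yon S).map v) ((yon S).map h) ≫ prod.map ((yon S).map k) j
  have hkm : RepWith @IsImmersion (prod.map ((yon S).map k) j) :=
    K609.Sep.repWith_prod_map _ ((repWith_yon_map_iff _ _).2 hk₀) (K610.OpenImm.repWith_isImmersion_of_open hj)
  have hkmq : RepWith @QuasiCompact (prod.map ((yon S).map k) j) :=
    K609.Sep.repWith_prod_map _ ((repWith_yon_map_iff _ _).2 hk₀q) hjq
  have hj₀ : RepWith @IsImmersion j₀ := MorphismProperty.comp_mem _ _ _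
    (K610.OpenImm.repWith_isImmersion_of_closed hv) hkm
  have hj₀q : RepWith @QuasiCompact j₀ := MorphismProperty.comp_mem _ _ _
    (K597.repWith_mono (fun _ _ g (hg : IsClosedImmersion g) => (inferInstance : QuasiCompact g)) hv) hkmq
  have hP₀ : IsAlgSpace ((yon S).obj (PS S N) ⨯ T) := isAlgSpace_prod (IsAlgSpace.yon_obj _) hT
  have hπ₀ : RepWith @IsProper ((prod.snd : (yon S).obj (PS S N) ⨯ T ⟶ T) ≫ π) :=
    MorphismProperty.comp_mem _ _ _ (repWith_snd T (inferInstance : IsProper (ProjSpaceOver.toBase N S)))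
      (K597.repWith_mono (fun _ _ g (hg : IsFinite g) => (inferInstance : IsProper g)) hπ)
  have hπ₀s : IsSeparatedMor ((prod.snd : (yon S).obj (PS S N) ⨯ T ⟶ T) ≫ π) :=
    (K595.DiagBasic.isSeparatedMor_iff_repWith hπ₀.1).2
      (K597.repWith_mono (fun _ _ g (hg : IsProper g) => (inferInstance : IsSeparated g)) hπ₀)
  obtain ⟨n, hn⟩ := Core2.main' hX hY hP₀ hf1 hπ₀s hW hp hps hpq hj₀ hj₀q (by
    rw [hw, ← hjπ, Category.assoc, prod.map_snd_assoc, prod.lift_snd_assoc])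
  obtain ⟨Q, r, q, hQ, hr, hq, hu⟩ := exists_power hY hP₀ hπ₀ (n + 1)
  obtain ⟨Z, a, b, hZ, hZr, hab, has, hap, hb⟩ := hn Q hQ r q hq hu
  have hrp : IsProperMor r := (K597.Proper.isProperMor_iff_repWith hY hr.1).2 hr
  -- the closure
  let b' : (⟨Z, hZ⟩ : Space S) ⟶ ⟨Q, hQ⟩ := ⟨b⟩
  obtain ⟨Xb, c, hc⟩ := Groth.Agent.S9964.result b'
  obtain ⟨i, hic⟩ := hc.2.1
  have hi := (Groth.Agent.S9971.result b' hb (Or.inr hZr) c hc ⟨i⟩ (ObjectProperty.hom_ext _ hic)).1
  have hcr : RepWith @IsProper (c.hom ≫ r) := MorphismProperty.comp_mem _ _ _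
    (K597.repWith_mono (fun _ _ g (hg : IsClosedImmersion g) => (inferInstance : IsProper g)) hc.1) hr
  refine ⟨Z, Xb.obj, a, i, c.hom ≫ r, hZ, Xb.property, ?_, hap hrp, has, hi,
    (K597.Proper.isProperMor_iff_repWith hY hcr.1).2 hcr, hcr.1⟩
  rw [← Category.assoc, hic, hab]

end K637.RepChow
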