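import Groth.Agent.AlgSp.K637.NagMain
import Groth.Agent.AlgSp.K637.NagUnr
import Groth.Agent.AlgSp.K637.RepChow
import Groth.Agent.S10647

/-!
# Nagata compactification of affine schemes over a quasi-compact and quasi-separated algebraic space

`aff : Noe B → K637.NagMain.Aff B`; `nagata_noe`: Nagata compactification over a Noetherian algebraic space.
-/

set_option autoImplicit false
universe u
open CategoryTheory CategoryTheory.Limits AlgebraicGeometry Opposite

namespace K637.NagAff

open AlgSp CohB1 K619.NagKit K637.ProjChow K637.AffEmb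

variable {S : Scheme.{u}}

theorem joint_mono {V Y' E : Over S} {B : Sp S} {h : (yon S).obj V ⟶ B} {y₀ : (yon S).obj Y' ⟶ B} {a : E ⟶ V}
    {b : E ⟶ Y'} (sq : IsPullback ((yon S).map a) ((yon S).map b) h y₀) {T : Scheme.{u}} (t t' : T ⟶ E.left)
    (h1 : t ≫ a.left = t' ≫ a.left) (h2 : t ≫ b.left = t' ≫ b.left) : t = t' := by
  let T' : Over S := Over.mk (t ≫ E.hom)
  let τ : T' ⟶ E := Over.homMk t rfl
  let τ' : T' ⟶ E := Over.homMk t' (by
    change t' ≫ E.hom = t ≫ E.hom
    rw [← Over.w a, ← Category.assoc, ← h1, Category.assoc])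
  have h3 : (yon S).map τ = (yon S).map τ' := by
    apply sq.hom_ext
    · rw [← Functor.map_comp, ← Functor.map_comp]
      congr 1
      exact Over.OverMorphism.ext h1
    · rw [← Functor.map_comp, ← Functor.map_comp]
      congr 1
      exact Over.OverMorphism.ext h2
  exact congrArg CommaMorphism.left ((yon S).map_injective h3)

/-- An affine scheme `V` of finite type over `B` is quasi-finite over some `𝔸^n × B`. -/
theorem exists_lqf_affineSpace [QuasiSeparatedSpace ↥S] {B : Sp S} (hB : IsAlgSpace B) (hBc : IsQuasiCompactSp B)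
    (hBs : IsQuasiSeparatedSp B) {V : Over S} (hV : IsAffine V.left) {h : (yon S).obj V ⟶ B}
    (hf : LocP @LocallyOfFiniteType h) :
    ∃ (n : ℕ) (v : V ⟶ AS S (ULift.{u} (Fin n))),
      LocP (@LocallyQuasiFinite ⊓ @LocallyOfFiniteType) (prod.lift ((yon S).map v) h) := by
  obtain ⟨Y', y₀, hY', hy, hys⟩ := K609.QC.isQuasiCompactSp_iff_exists_affine_chart.1 hBc
  obtain ⟨E, a, b, sq⟩ := K609.Sep.exists_isPullback_yon hB.diag h y₀
  have hE : CompactSpace ↥E.left := K609.Sep.compactSpace_pullback hBs sq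
  have ha : RepWith @Etale ((yon S).map a) := K598.RepKit.repWith_of_isPullback sq.flip hy
  have hb : LocallyOfFiniteType b.left := hf _ _ b ha hy sq.w
  obtain ⟨n, f, hfu⟩ := NagUnr.exists_vector a.left b.left fun T t t' h1 h2 => joint_mono sq t t' h1 h2
  let v : V ⟶ AS S (ULift.{u} (Fin n)) := Over.homMk (AffineSpace.homOfVector V.hom f)
    (AffineSpace.homOfVector_over _ _)
  let ε : E ⟶ AA (ULift.{u} (Fin n)) Y' := Over.homMk (AffineSpace.homOfVector b.left (a.left.appTop ∘ f)) (by
    change AffineSpace.homOfVector b.left (a.left.appTop ∘ f) ≫ (𝔸(_; Y'.left) ↘ Y'.left) ≫ Y'.hom = E.hom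
    rw [← Category.assoc, AffineSpace.homOfVector_over, Over.w])
  have hεu : FormallyUnramified ε.left := hfu
  have hεb : ε ≫ AAbase _ Y' = b := Over.OverMorphism.ext (AffineSpace.homOfVector_over _ _)
  have hεf : LocallyOfFiniteType ε.left := by
    have : LocallyOfFiniteType (ε.left ≫ (𝔸(ULift.{u} (Fin n); Y'.left) ↘ Y'.left)) := by
      have e := congrArg CommaMorphism.left hεb
      change ε.left ≫ (𝔸(ULift.{u} (Fin n); Y'.left) ↘ Y'.left) = b.left at e
      rw [e]
      exact hb
    exact locallyOfFiniteType_of_comp _ (𝔸(ULift.{u} (Fin n); Y'.left) ↘ Y'.left)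
  have hεa : ε ≫ AAmap _ Y' = a ≫ v := by
    apply Over.OverMorphism.ext
    change AffineSpace.homOfVector b.left (a.left.appTop ∘ f) ≫ AffineSpace.map _ Y'.hom =
      a.left ≫ AffineSpace.homOfVector V.hom f
    apply AffineSpace.hom_ext
    · rw [Category.assoc, AffineSpace.map_over, ← Category.assoc, AffineSpace.homOfVector_over, Category.assoc,
        AffineSpace.homOfVector_over, Over.w, Over.w]
    · intro i
      have h1 := AffineSpace.homOfVector_appTop_coord b.left (a.left.appTop ∘ f) i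
      have h2 := AffineSpace.homOfVector_appTop_coord V.hom f i
      have h3 := AffineSpace.map_appTop_coord (n := ULift.{u} (Fin n)) Y'.hom i
      rw [Scheme.Hom.comp_appTop, Scheme.Hom.comp_appTop, CommRingCat.comp_apply, CommRingCat.comp_apply, h2]
      erw [h3]
      exact h1
  refine ⟨n, v, ?_⟩
  have sqγ := isPullback_AA (ULift.{u} (Fin n)) y₀
  have sq' : IsPullback ((yon S).map a) ((yon S).map ε) (prod.lift ((yon S).map v) h)
      (prod.lift ((yon S).map (AAmap (ULift.{u} (Fin n)) Y')) ((yon S).map (AAbase (ULift.{u} (Fin n)) Y') ≫ y₀)) := by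
    refine IsPullback.of_bot ?_ ?_ sqγ
    · rw [prod.lift_snd, ← Functor.map_comp, hεb]
      exact sq
    · apply prod.hom_ext
      · rw [Category.assoc, prod.lift_fst, Category.assoc, prod.lift_fst, ← Functor.map_comp, ← Functor.map_comp,
          hεa]
      · rw [Category.assoc, prod.lift_snd, Category.assoc, prod.lift_snd, ← Category.assoc, ← Functor.map_comp,
          hεb, sq.w]
  have hγ := K598.RepKit.repWith_of_isPullback sqγ.flip hy
  have hγs := K598.RepKit.repWith_of_isPullback sqγ.flip hys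
  exact K597.locP_of_target K597.etLoc_lqf sq' (IsAlgSpace.yon_obj _).hasAtlas (IsAlgSpace.yon_obj _).hasAtlas hγ hγs
    (K597.locP_of_repWith K597.etLoc_lqf.precomp ((repWith_yon_map_iff _ _).2
      ⟨K597.locallyQuasiFinite_of_unramified ε.left, hεf⟩))

/-- **Nagata compactification of affine schemes.** -/
theorem comp_of_isAffine [QuasiSeparatedSpace ↥S] {B : Sp S} (hB : IsAlgSpace B) (hBc : IsQuasiCompactSp B)
    (hBs : IsQuasiSeparatedSp B) {V : Over S} (hV : IsAffine V.left) {h : (yon S).obj V ⟶ B}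
    (hf : LocP @LocallyOfFiniteType h) : K619.NagMain.Comp h := by
  obtain ⟨n, v, hv⟩ := exists_lqf_affineSpace hB hBc hBs hV hf
  obtain ⟨k₀, hk₀, hk₀'⟩ := Groth.Agent.CohqA.ChowAff.exists_immersion n S
  let k : AffEmb.AS S (ULift.{u} (Fin n)) ⟶ PS S n := Over.homMk k₀ hk₀'
  have hVa : IsAlgSpace ((yon S).obj V) := IsAlgSpace.yon_obj V
  have hA : IsAlgSpace ((yon S).obj (AffEmb.AS S (ULift.{u} (Fin n))) ⨯ B) := isAlgSpace_prod (IsAlgSpace.yon_obj _) hB
  have hP : IsAlgSpace ((yon S).obj (PS S n) ⨯ B) := isAlgSpace_prod (IsAlgSpace.yon_obj _) hB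
  have hkm : RepWith @IsImmersion (prod.map ((yon S).map k) (𝟙 B)) :=
    K609.Sep.repWith_prod_map _ ((repWith_yon_map_iff _ _).2 hk₀) (K598.RepKit.repWith_of_isIso _)
  let p : (yon S).obj V ⟶ (yon S).obj (PS S n) ⨯ B := prod.lift ((yon S).map v) h ≫ prod.map ((yon S).map k) (𝟙 B)
  have hp : LocP (@LocallyQuasiFinite ⊓ @LocallyOfFiniteType) p := by
    refine K597.locP_comp K597.etLoc_lqf hVa.hasAtlas hA.hasAtlas hP.hasAtlas hv
      (K597.locP_of_repWith K597.etLoc_lqf.precomp (K597.repWith_mono (fun _ _ g (hg : IsImmersion g) => ?_) hkm))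
    exact ⟨inferInstance, inferInstance⟩
  have hsnd : RepWith @IsProper (prod.snd : (yon S).obj (PS S n) ⨯ B ⟶ B) :=
    repWith_snd B (inferInstance : IsProper (ProjSpaceOver.toBase n S))
  have hsndp : IsProperMor (prod.snd : (yon S).obj (PS S n) ⨯ B ⟶ B) :=
    (K597.Proper.isProperMor_iff_repWith hB hsnd.1).2 hsnd
  have hP1 : IsQuasiCompactSp ((yon S).obj (PS S n) ⨯ B) := K636.QcqsOver.isQuasiCompactSp_of_mor hsndp.2.1.2 hB hBc
  have hP2 : IsQuasiSeparatedSp ((yon S).obj (PS S n) ⨯ B) :=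
    K636.QcqsOver.isQuasiSeparatedSp_of_mor (qsMor_of_sep hsndp.1) hBs
  have hpq : IsQuasiCompactMor p := K596.QC2.isQuasiCompactMor_of_qc_of_qs hVa hP p (K596.QC.isQuasiCompactSp_yon V) hP2
  obtain ⟨T, j, π, hjπ, hj, hjq, hπ⟩ := Groth.Agent.S10647.result (X := ⟨_, hVa⟩) (Y := ⟨_, hP⟩) ⟨p⟩ hp hpq
    (NagMain.isSeparatedMor_of_isAffine p) hP1 hP2
  have hπp : IsProperMor π.hom := (K597.Proper.isProperMor_iff_repWith hP (K617.FinLoc.isFiniteMor_iff.1 hπ).1).2
    (K597.repWith_mono (fun _ _ g (hg : IsFinite g) => (inferInstance : IsProper g)) (K617.FinLoc.isFiniteMor_iff.1 hπ))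
  refine ⟨T.obj, j.hom, π.hom ≫ prod.snd, T.property, hj, K597.ProperSub.isProperMor_comp T.property hP hB hπp hsndp, ?_⟩
  have hjπ' : j.hom ≫ π.hom = p := congrArg (fun k => k.hom) hjπ
  rw [← Category.assoc, hjπ', Category.assoc, prod.map_snd, Category.comp_id, prod.lift_snd]

/-- The remaining input of Nagata compactification. -/
theorem aff [QuasiSeparatedSpace ↥S] {B : Sp S} (hB : Noe B) : K637.NagMain.Aff B := fun _ hV _ hh =>
  comp_of_isAffine hB.alg hB.qc hB.qs hV hh.ft.1

/-- **Nagata compactification over a Noetherian algebraic space.** -/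
theorem nagata_noe [QuasiSeparatedSpace ↥S] {B X : Sp S} (hB : Noe B) (hX : IsAlgSpace X) {f : X ⟶ B} (hf : SFT f) :
    K619.NagMain.Comp f := K637.NagMain.nagata_noe hB (aff hB) hX hf

end K637.NagAff
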