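import Groth.Agent.AlgSp.K596.SepSurj
import Groth.Agent.AlgSp.K597.EtLoc
import Groth.Agent.AlgSp.K597.LocP
import Groth.Agent.AlgSp.K610.Base
import Groth.Agent.AlgSp.K598.RepKit
import Groth.Agent.AlgSp.K610.OpenImm
import Groth.Agent.AlgSp.K610.EtaleMor
import Groth.Agent.S10614
import Groth.Agent.S9934

/-!
# Coverings of the source by two morphisms; closed immersions through open subspaces

For `a₁ : A₁ ⟶ F`, `a₂ : A₂ ⟶ F` jointly surjective on points: `isClosedMap₂`, `isUnivClosedMor₂`,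
`isQuasiCompactMor₂`, `locP₂`, `isClosedImmersion₂`.
`isClosedImmersion_of_closure`: a closed immersion followed by an open immersion is a closed immersion if the closure of
the image does not leave the open subspace.
-/

set_option autoImplicit false
universe u
open CategoryTheory CategoryTheory.Limits AlgebraicGeometry Opposite Topology TopologicalSpace

namespace K637.NagCover

open AlgSp K598.RepKit

variable {S : Scheme.{u}} {F G H P A₁ A₂ : Sp S} {a₁ : A₁ ⟶ F} {a₂ : A₂ ⟶ F}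

/-- joint surjectivity on points -/
def JS (a₁ : A₁ ⟶ F) (a₂ : A₂ ⟶ F) : Prop :=
  ∀ x : Points F, x ∈ Set.range (Points.map a₁) ∨ x ∈ Set.range (Points.map a₂)

theorem map_comp' (f : F ⟶ G) (g : G ⟶ H) : Points.map (f ≫ g) = Points.map g ∘ Points.map f := by
  funext z
  exact Points.map_comp _ _ _

theorem isClosedMap₂ (hs : JS a₁ a₂) {f : F ⟶ G} (h₁ : IsClosedMap (Points.map (a₁ ≫ f)))
    (h₂ : IsClosedMap (Points.map (a₂ ≫ f))) : IsClosedMap (Points.map f) := by
  intro C hC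
  have e : Points.map f '' C = Points.map (a₁ ≫ f) '' (Points.map a₁ ⁻¹' C) ∪
      Points.map (a₂ ≫ f) '' (Points.map a₂ ⁻¹' C) := by
    ext y
    constructor
    · rintro ⟨x, hx, rfl⟩
      rcases hs x with ⟨z, rfl⟩ | ⟨z, rfl⟩
      · exact Or.inl ⟨z, hx, Points.map_comp _ _ _⟩
      · exact Or.inr ⟨z, hx, Points.map_comp _ _ _⟩
    · rintro (⟨z, hz, rfl⟩ | ⟨z, hz, rfl⟩)
      · exact ⟨_, hz, (Points.map_comp _ _ _).symm⟩
      · exact ⟨_, hz, (Points.map_comp _ _ _).symm⟩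
  rw [e]
  exact (h₁ _ (hC.preimage (Points.continuous_map _))).union (h₂ _ (hC.preimage (Points.continuous_map _)))

theorem JS.pullback (hs : JS a₁ a₂) {Z : Sp S} (g : Z ⟶ F) :
    JS (pullback.snd a₁ g) (pullback.snd a₂ g) := by
  intro x
  rcases hs (Points.map g x) with ⟨z, hz⟩ | ⟨z, hz⟩
  · obtain ⟨p, -, hp⟩ := K609.Points.exists_of_isPullback (IsPullback.of_hasPullback a₁ g) z x hz
    exact Or.inl ⟨p, hp⟩
  · obtain ⟨p, -, hp⟩ := K609.Points.exists_of_isPullback (IsPullback.of_hasPullback a₂ g) z x hz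
    exact Or.inr ⟨p, hp⟩

theorem isUnivClosedMor₂ (hs : JS a₁ a₂) {f : F ⟶ G} (h₁ : IsUnivClosedMor (a₁ ≫ f))
    (h₂ : IsUnivClosedMor (a₂ ≫ f)) : IsUnivClosedMor f := by
  intro Z Z' hZ g fst snd sq
  exact isClosedMap₂ (hs.pullback fst) (h₁ hZ g _ _ ((IsPullback.of_hasPullback a₁ fst).paste_vert sq))
    (h₂ hZ g _ _ ((IsPullback.of_hasPullback a₂ fst).paste_vert sq))

theorem isQuasiCompactMor₂ (hF : IsAlgSpace F) (hG : IsAlgSpace G) (hs : JS a₁ a₂) {f : F ⟶ G}
    (h₁ : IsQuasiCompactMor (a₁ ≫ f)) (h₂ : IsQuasiCompactMor (a₂ ≫ f)) : IsQuasiCompactMor f := by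
  intro Z Z' hZ hZc g fst snd sq
  have c₁ := h₁ hZ hZc g _ _ ((IsPullback.of_hasPullback a₁ fst).paste_vert sq)
  have c₂ := h₂ hZ hZc g _ _ ((IsPullback.of_hasPullback a₂ fst).paste_vert sq)
  have hZ' : IsAlgSpace Z' := K613.Chart.isAlgSpace_of_isPullback hG.diag hF hZ sq
  have d₁ := K609.QC.compactSpace_points c₁
  have d₂ := K609.QC.compactSpace_points c₂
  rw [K609.QC.isQuasiCompactSp_iff hZ']
  refine ⟨?_⟩
  have e : (Set.univ : Set (Points Z')) = Set.range (Points.map (pullback.snd a₁ fst)) ∪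
      Set.range (Points.map (pullback.snd a₂ fst)) := by
    ext x
    exact ⟨fun _ => hs.pullback fst x, fun _ => trivial⟩
  rw [e]
  exact (isCompact_range (Points.continuous_map _)).union (isCompact_range (Points.continuous_map _))

open K597 in
theorem locP₂ {Pr : MorphismProperty Scheme.{u}} (hP : EtLoc Pr) (hs : JS a₁ a₂) (hA₁ : IsAlgSpace A₁)
    (hA₂ : IsAlgSpace A₂) (hG : IsAlgSpace G) (ha₁ : IsEtaleMor a₁) (ha₂ : IsEtaleMor a₂) {f : F ⟶ G}
    (h₁ : LocP Pr (a₁ ≫ f)) (h₂ : LocP Pr (a₂ ≫ f)) : LocP Pr f := by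
  have key : ∀ {A : Sp S} (a : A ⟶ F), IsAlgSpace A → IsEtaleMor a → LocP Pr (a ≫ f) →
      ∀ ⦃U' : Over S⦄ (a' : (yon S).obj U' ⟶ F) (_ : RepWith @Etale a') (x : U'.left),
      Points.ofPt a' x ∈ Set.range (Points.map a) →
      ∃ (U V W : Over S) (a : (yon S).obj U ⟶ F) (b : (yon S).obj V ⟶ G) (h : U ⟶ V) (p : W ⟶ U) (q : W ⟶ U'),
        RepWith @Etale b ∧ a ≫ f = (yon S).map h ≫ b ∧ Pr h.left ∧
        (yon S).map p ≫ a = (yon S).map q ≫ a' ∧ Etale p.left ∧ Etale q.left ∧ x ∈ Set.range q.left := by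
    intro A a hA ha hPa U' a' ha' x hx
    obtain ⟨y, hy⟩ := hx
    obtain ⟨U₀, u₀, hu₀, hus₀⟩ := hA.atlas
    obtain ⟨V, b, hb, hbs⟩ := hG.atlas
    obtain ⟨U, u, h, hu, hus, hh⟩ := exists_chart_over (a ≫ f) u₀ hu₀ hus₀ b hb hbs
    have hua : RepWith @Etale (u ≫ a) := ha u hu
    obtain ⟨W, q, p', sq⟩ := hua.1 a'
    obtain ⟨p, rfl⟩ := (yon S).map_surjective p'
    obtain ⟨z, hz⟩ := K609.Points.surjective_ofPt_of_repWith_surjective hus y
    have hzx : Points.ofPt (u ≫ a) z = Points.ofPt a' x := by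
      rw [← hy, ← hz]
      rfl
    obtain ⟨w, -, hw⟩ := (K609.Points.ofPt_eq_ofPt_iff sq z x).1 hzx
    exact ⟨U, V, W, u ≫ a, b, h, p, q, hb, by rw [Category.assoc]; exact hh, hPa u b h hu hb hh, sq.w,
      ha'.2 _ _ _ sq.flip, hua.2 _ _ _ sq, ⟨w, hw⟩⟩
  refine locP_of_local hP f fun U' a' ha' x => ?_
  rcases hs (Points.ofPt a' x) with hx | hx
  · exact key a₁ hA₁ ha₁ h₁ a' ha' x hx
  · exact key a₂ hA₂ ha₂ h₂ a' ha' x hx

theorem isUnivClosedMor_of_isClosedImmersion (hG : IsAlgSpace G) {f : F ⟶ G} (hf : RepWith @IsClosedImmersion f) :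
    IsUnivClosedMor f :=
  ((Groth.Agent.S10614.result (X := ⟨F, isAlgSpace_of_repWith_isClosedImmersion hf hG⟩) (Y := ⟨G, hG⟩) ⟨f⟩).1.1 hf).1

theorem locP_lft_of_isClosedImmersion {f : F ⟶ G} (hf : RepWith @IsClosedImmersion f) :
    LocP @LocallyOfFiniteType f := by
  refine K597.locP_of_repWith (fun A B C e f he hf => ?_)
    (K609.Points.repWith_mono (Q := @LocallyOfFiniteType) (fun i (_ : IsClosedImmersion i) => inferInstance) hf)
  exact MorphismProperty.comp_mem (@LocallyOfFiniteType) _ _ (inferInstance : LocallyOfFiniteType e) hf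

/-- A monomorphism which is a closed immersion on the two members of an etale covering is a closed immersion. -/
theorem isClosedImmersion₂ (hF : IsAlgSpace F) (hG : IsAlgSpace G) (hs : JS a₁ a₂) (ha₁ : IsEtaleMor a₁)
    (ha₂ : IsEtaleMor a₂) {f : F ⟶ G} (hm : Mono f) (h₁ : RepWith @IsClosedImmersion (a₁ ≫ f))
    (h₂ : RepWith @IsClosedImmersion (a₂ ≫ f)) : RepWith @IsClosedImmersion f := by
  have e := (Groth.Agent.S10614.result (X := ⟨F, hF⟩) (Y := ⟨G, hG⟩) ⟨f⟩).2.2.1.2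
  refine e ⟨?_, ?_, hm⟩
  · exact isUnivClosedMor₂ hs (isUnivClosedMor_of_isClosedImmersion hG h₁) (isUnivClosedMor_of_isClosedImmersion hG h₂)
  · exact locP₂ K597.etLoc_lft hs (isAlgSpace_of_repWith_isClosedImmersion h₁ hG)
      (isAlgSpace_of_repWith_isClosedImmersion h₂ hG) hG ha₁ ha₂ (locP_lft_of_isClosedImmersion h₁)
      (locP_lft_of_isClosedImmersion h₂)

theorem isClosedMap_of_closure (hP : IsAlgSpace P) {i : H ⟶ F} {j : F ⟶ P} (hi : IsClosedMap (Points.map i))
    (hj : RepWith @IsOpenImmersion j) (hc : closure (Set.range (Points.map (i ≫ j))) ⊆ Set.range (Points.map j)) :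
    IsClosedMap (Points.map (i ≫ j)) := by
  have he := K610.OpenImm.isOpenEmbedding_points hP hj
  intro C hC
  rw [map_comp', Set.image_comp]
  have h1 := hi C hC
  refine isClosed_of_closure_subset fun y hy => ?_
  have h2 : y ∈ Set.range (Points.map j) := by
    refine hc (closure_mono ?_ hy)
    rintro _ ⟨_, ⟨x, -, rfl⟩, rfl⟩
    exact ⟨x, Points.map_comp _ _ _⟩
  obtain ⟨z, rfl⟩ := h2
  refine ⟨z, ?_, rfl⟩
  have h3 : z ∈ Points.map j ⁻¹' closure (Points.map j '' (Points.map i '' C)) := hy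
  rw [he.isOpenMap.preimage_closure_eq_closure_preimage (Points.continuous_map _),
    Set.preimage_image_eq _ he.injective, h1.closure_eq] at h3
  exact h3

/-- A closed immersion followed by an open immersion is a closed immersion if the closure of the image does not leave
the open subspace. -/
theorem isClosedImmersion_of_closure (hP : IsAlgSpace P) {i : H ⟶ F} {j : F ⟶ P} (hi : RepWith @IsClosedImmersion i)
    (hj : RepWith @IsOpenImmersion j) (hc : closure (Set.range (Points.map (i ≫ j))) ⊆ Set.range (Points.map j)) :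
    RepWith @IsClosedImmersion (i ≫ j) := by
  have hF : IsAlgSpace F := isAlgSpace_of_repWith_isOpenImmersion hj hP
  have hH : IsAlgSpace H := isAlgSpace_of_repWith_isClosedImmersion hi hF
  have himm : RepWith @IsImmersion (i ≫ j) := (MorphismProperty.comp_mem (RepWith @IsImmersion) _ _
    (K610.OpenImm.repWith_isImmersion_of_closed hi) (K610.OpenImm.repWith_isImmersion_of_open hj))
  refine (Groth.Agent.S9934.result (Z := ⟨H, hH⟩) (X := ⟨P, hP⟩) ⟨i ≫ j⟩ himm).2 ?_
  have h1 : IsClosedMap (Points.map i) := K596.Univ.isClosedMap_of_repWith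
      (K597.repWith_mono (fun _ _ f (_ : IsClosedImmersion f) => (inferInstance : UniversallyClosed f)) hi)
  exact (isClosedMap_of_closure hP h1 hj hc).isClosed_range

end K637.NagCover
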