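import Groth.Agent.AlgSp.K637.NagKey
import Groth.Agent.AlgSp.K647.BlExist
import Groth.Agent.AlgSp.K610.Sub
import Groth.Agent.AlgSp.K610.OpenImm
import Groth.Agent.LocImm.K948.Adm
import Groth.Agent.S10807

/-!
# Dilatations (Nagata compactification)

`exists_dil`: for families of ideals `D`, `I` on an algebraic space `Vb`, an integer `n` and a set `TV` of points in
`V(I)` outside `V(D)`: the blow-up `b : Yp ⟶ Vb` in `I + D^n` and the open subspace `y : Y ⟶ Yp` where `I ≤ D^n`; it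
contains `b⁻¹ (Vb - V(D))` and the closure of `b⁻¹ TV` in `Yp`.
-/

set_option autoImplicit false
universe u
open CategoryTheory CategoryTheory.Limits AlgebraicGeometry Opposite TopologicalSpace
open AlgSp K598.Site K598.RepKit K598.ClFam K598.Charts
open Groth.Agent.Divis.IdealComap K637.NagKey

namespace K637.NagDil

/-- the largest open subscheme on which `A ≤ D` -/
def leLocus {W : Scheme.{u}} (A D : W.IdealSheafData) : W.Opens :=
  ⨆ U : {U : W.affineOpens // A.ideal U ≤ D.ideal U}, U.1.1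

theorem mem_leLocus {W : Scheme.{u}} {A D : W.IdealSheafData} {w : W} :
    w ∈ leLocus A D ↔ ∃ U : W.affineOpens, w ∈ U.1 ∧ A.ideal U ≤ D.ideal U := by
  constructor
  · intro h
    obtain ⟨U, hU⟩ := Opens.mem_iSup.1 h
    exact ⟨U.1, hU, U.2⟩
  · rintro ⟨U, hU, hU'⟩
    exact Opens.mem_iSup.2 ⟨⟨U, hU'⟩, hU⟩

theorem comap_leLocus {W : Scheme.{u}} (A D : W.IdealSheafData) :
    A.comap (leLocus A D).ι ≤ D.comap (leLocus A D).ι := by
  refine le_of_forall_mem fun x => ?_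
  obtain ⟨U, hU, hU'⟩ := mem_leLocus.1 x.2
  obtain ⟨V, hV, hxV, hVU⟩ := exists_isAffineOpen_mem_and_subset (x := x) (U := (leLocus A D).ι ⁻¹ᵁ U.1) hU
  refine ⟨⟨V, hV⟩, hxV, ?_⟩
  rw [ideal_comap A _ U ⟨V, hV⟩ hVU, ideal_comap D _ U ⟨V, hV⟩ hVU]
  exact Ideal.map_mono hU'

variable {S : Scheme.{u}} {Vb : Sp S}

/-- The dilatation. -/
theorem exists_dil (hVb : IsAlgSpace Vb) (D I : Fam Vb) {TV : Set (Points Vb)} {n : ℕ} (hn : n ≠ 0)
    (hTI : TV ⊆ V I) (hTD : Disjoint TV (V D)) :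
    ∃ (Yp : Sp S) (b : Yp ⟶ Vb) (Y : Sp S) (y : Y ⟶ Yp), IsAlgSpace Yp ∧
      IsBlowUpSp b (K594.FamOps.sup I (K594.FamOps.pow D n)).ι ∧ IsAlgSpace Y ∧ RepWith @IsOpenImmersion y ∧
      LP (K594.FamOps.pull (y ≫ b) (K594.FamOps.pow D n)) ∧
      K594.FamOps.pull (y ≫ b) I ≤ K594.FamOps.pull (y ≫ b) (K594.FamOps.pow D n) ∧
      (∀ x : Points Yp, Points.map b x ∉ V D → x ∈ Set.range (Points.map y)) ∧
      closure (Points.map b ⁻¹' TV) ⊆ Set.range (Points.map y) := by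
  set J : Fam Vb := K594.FamOps.sup I (K594.FamOps.pow D n) with hJ
  obtain ⟨Yp, b, hYp, hb⟩ := K647.BlExist.exists_blowUp hVb J
  obtain ⟨W, p, hp, hp'⟩ := hYp.atlas
  have hE : ∀ {T : Over S} {g : (yon S).obj T ⟶ Yp}, RepWith @Etale g → BlowUp.IsEffCartierIdeal (J.I (g ≫ b)) := by
    intro T g hg
    rw [← K647.BlowComp.idl_ι]
    exact K647.BlowUpSp.invImage_idl J.repWith_ι hb.1 hg
  have hLP : ∀ {T : Over S} (g : (yon S).obj T ⟶ Yp), Curv2.IsLocPrincipal (J.I (g ≫ b)) := by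
    intro T g
    obtain ⟨P, fst, snd, sq, h⟩ := hb.1
    rw [← K647.BlowComp.idl_ι, ← K647.Idl.idl_of_isPullback J.repWith_ι sq h.1 g]
    exact K647.Idl.isLocPrincipal_idl (K647.Idl.isLocPrincipalSub_of_isEff h) g
  let A := I.I (p ≫ b)
  let D' := D.I (p ≫ b) ^ n
  let W₀ := leLocus A D'
  let a : (yon S).obj (opn W W₀) ⟶ Yp := (yon S).map (opnι W W₀) ≫ p
  have ha : RepWith @Etale a := MorphismProperty.comp_mem _ _ _ (repWith_etale_opnι W W₀) hp
  have hr : Set.range (Points.ofPt a) = Points.ofPt p '' (W₀ : Set W.left) := by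
    ext x
    constructor
    · rintro ⟨t, rfl⟩
      refine ⟨W₀.ι t, t.2, ?_⟩
      exact (K609.Points.ofPt_yon_map_comp (opnι W W₀) p t).symm
    · rintro ⟨t, ht, rfl⟩
      exact ⟨⟨t, ht⟩, K609.Points.ofPt_yon_map_comp (opnι W W₀) p ⟨t, ht⟩⟩
  have ho : IsOpen (Set.range (Points.ofPt a)) := (K609.Points.isOpenMap_ofPt ha).isOpen_range
  have hy := K610.Sub.repWith_openPred ho
  have hyr := K610.Sub.range_openPred (Set.range (Points.ofPt a))
  refine ⟨Yp, b, (K610.Sub.openPred (Set.range (Points.ofPt a))).sub,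
    (K610.Sub.openPred (Set.range (Points.ofPt a))).ι, hYp, hb, K610.Sub.isAlgSpace_of_mono hy.1 hYp, hy, ?_⟩
  generalize (K610.Sub.openPred (Set.range (Points.ofPt a))).ι = y at hy hyr ⊢
  obtain ⟨a', ha', ha1, ha2⟩ := K610.OpenImm.exists_corestrict hYp hy hyr _ ha
  have hle : K594.FamOps.pull (y ≫ b) I ≤ K594.FamOps.pull (y ≫ b) (K594.FamOps.pow D n) := by
    refine (ChartFam.single ha1 ha2).le_of_le fun _ => ?_
    rw [K594.FamOps.pull_I, K594.FamOps.pull_I, K594.FamOps.pow_I]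
    have e : a' ≫ y ≫ b = (yon S).map (opnι W W₀) ≫ p ≫ b := by
      rw [← Category.assoc, ha']
      exact Category.assoc _ _ _
    rw [e, I.comap, D.comap, ← comap_pow]
    exact comap_leLocus A D'
  refine ⟨fun T g => ?_, hle, fun x hx => ?_, fun x hx => ?_⟩
  · have h1 : (K594.FamOps.pull (y ≫ b) (K594.FamOps.pow D n)).I g = J.I ((g ≫ y) ≫ b) := by
      have h2 := hle T g
      rw [K594.FamOps.pull_I, K594.FamOps.pull_I] at h2
      rw [K594.FamOps.pull_I, hJ, K594.FamOps.sup_I, Category.assoc]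
      exact (sup_eq_right.2 h2).symm
    rw [h1]
    exact hLP _
  · obtain ⟨w, rfl⟩ := K609.Points.surjective_ofPt_of_repWith_surjective hp' x
    rw [hyr, hr]
    refine ⟨w, ?_, rfl⟩
    rw [Points.map_ofPt, mem_V_iff, ← Scheme.IdealSheafData.support_pow _ n hn] at hx
    obtain ⟨U, hU, hU'⟩ := K647.CartDesc.exists_affine_top hx
    refine mem_leLocus.2 ⟨U, hU, ?_⟩
    change _ ≤ (D.I (p ≫ b) ^ n).ideal U
    rw [hU']
    exact le_top
  · obtain ⟨w, rfl⟩ := K609.Points.surjective_ofPt_of_repWith_surjective hp' x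
    rw [hyr, hr]
    refine ⟨w, ?_, rfl⟩
    have h3 : w ∈ closure (Points.ofPt (p ≫ b) ⁻¹' TV) := by
      have h4 : Points.ofPt (p ≫ b) ⁻¹' TV = Points.ofPt p ⁻¹' (Points.map b ⁻¹' TV) := rfl
      rw [h4, ← (K609.Points.isOpenMap_ofPt hp).preimage_closure_eq_closure_preimage (Points.continuous_ofPt p)]
      exact hx
    obtain ⟨U, hU, hU'⟩ := exists_open_scheme (D := D') (I := A) (hE hp)
      (by
        have h5 := Set.preimage_mono (f := Points.ofPt (p ≫ b)) hTI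
        rw [preimage_V] at h5
        exact h5)
      (by
        have h5 := hTD.preimage (Points.ofPt (p ≫ b))
        rw [preimage_V, ← Scheme.IdealSheafData.support_pow _ n hn] at h5
        exact h5) h3
    exact mem_leLocus.2 ⟨U, hU, hU'⟩

/-- The blow-up is an isomorphism over an open (or etale) chart which does not meet the centre. -/
theorem exists_section {Yp : Sp S} (hVb : IsAlgSpace Vb) (hYp : IsAlgSpace Yp) {J : Fam Vb} {b : Yp ⟶ Vb}
    (hb : IsBlowUpSp b J.ι) {U : Over S} {j : (yon S).obj U ⟶ Vb} (hj : RepWith @Etale j)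
    (h : Disjoint (Set.range (Points.map j)) (V J)) :
    ∃ c : (yon S).obj U ⟶ Yp, IsPullback c (𝟙 _) b j := by
  have h1 : J.I j = ⊤ := by
    rw [← Scheme.IdealSheafData.support_eq_bot_iff, eq_bot_iff]
    intro x hx
    exact (Set.disjoint_left.1 h (K610.Factor.range_ofPt_comp_subset (𝟙 _) j (by
      rw [Category.id_comp]; exact ⟨x, rfl⟩)) ((mem_V_iff J j x).2 hx)).elim
  have h2 : BlowUp.IsBlowUp (𝟙 U : U ⟶ U).left (K647.Idl.idl J.repWith_ι j) := by
    rw [K647.BlowComp.idl_ι, h1]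
    exact K948.Adm.isBlowUp_id_top _
  obtain ⟨c, hc⟩ := K647.BlowUpSp.exists_isPullback J.repWith_ι j hVb hYp hb hj h2
  rw [(yon S).map_id] at hc
  exact ⟨c, hc⟩

theorem isProperMor_of_isBlowUpSp {Yp : Sp S} (hVb : IsAlgSpace Vb) (hYp : IsAlgSpace Yp) {J : Fam Vb} {b : Yp ⟶ Vb}
    (hb : IsBlowUpSp b J.ι) (hJ : K647.FamOps.FT J) : IsProperMor b :=
  Groth.Agent.S10807.result ⟨Vb, hVb⟩ ⟨Yp, hYp⟩ ⟨J.sheaf, J.isAlgSpace_sheaf hVb⟩ ⟨J.ι⟩
    (K647.FamOps.repWith_ι_lfp hJ) ⟨b⟩ hb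

end K637.NagDil
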