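import Groth.Agent.AlgSp.K637.NagPair
import Groth.Agent.AlgSp.K640.ElemDist
import Groth.Agent.AlgSp.K597.ProperCancel

/-!
# Elementary distinguished squares and dilatations (Nagata compactification)

* `triv`, `trivDil`: the trivial pair.
* `mem_range_diagonal`: two points of `V` over the same point outside `U` agree.
* `desc_closed`: `A ×_X A' ⟶ A ×_B A'` is a closed immersion for `X ⟶ B` separated.
-/

set_option autoImplicit false
universe u
open CategoryTheory CategoryTheory.Limits AlgebraicGeometry Opposite TopologicalSpace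
open AlgSp K598.Site K598.RepKit K598.ClFam K598.Charts

namespace K637.NagElem

open K637.NagKey K637.NagPair

variable {S : Scheme.{u}} {B X : Sp S}

/-- the unit ideal -/
noncomputable def topF (P : Sp S) : Fam P where
  I _ := ⊤
  comap φ g := by rw [Scheme.IdealSheafData.comap_top]

theorem V_topF (P : Sp S) : V (topF P) = ∅ := by
  ext x
  obtain ⟨K, _, str, g, hg⟩ := K609.Points.exists_field_ofPt x
  have t : ↥(Over.mk str : Over S).left := IsLocalRing.closedPoint K
  rw [← hg t, mem_V_iff]
  change t ∈ (⊤ : (Over.mk str : Over S).left.IdealSheafData).support ↔ _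
  rw [Scheme.IdealSheafData.support_top]
  exact Iff.rfl

theorem FT_topF (P : Sp S) : K647.FamOps.FT (topF P) := by
  intro T g U
  exact ⟨{1}, by simp [topF]⟩

/-- the trivial datum -/
noncomputable abbrev triv {A : Sp S} (hA : IsAlgSpace A) (g : A ⟶ B) : Pre B where
  Vb := A
  V₀ := A
  g := g
  j := 𝟙 A
  f₀ := g
  hf := Category.id_comp g
  hVb := hA
  hj := repWith_of_isIso _
  D := topF A
  I := topF A
  hD := by
    rw [V_topF]
    symm
    rw [Set.compl_empty_iff, Set.range_eq_univ]
    intro x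
    exact ⟨x, Points.map_id x⟩
  hFT := FT_topF A

/-- the trivial dilatation -/
noncomputable abbrev trivDil {A : Sp S} (hA : IsAlgSpace A) (g : A ⟶ B) (n : ℕ) : Dil (triv hA g) n where
  Y := A
  π := 𝟙 A
  gY := g
  jY := 𝟙 A
  hg := Category.id_comp g
  hY := hA
  hjY := by
    change RepWith @IsOpenImmersion (𝟙 A)
    exact repWith_of_isIso _
  w := Category.id_comp (𝟙 A)
  hr := by
    ext x
    constructor
    · rintro ⟨y, rfl⟩
      exact ⟨_, rfl⟩
    · rintro -
      exact ⟨x, Points.map_id x⟩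
  hLP := by
    intro T t
    rw [K647.CartDesc.isLocPrincipal_iff]
    intro x
    obtain ⟨U, hU, hxU, -⟩ := exists_isAffineOpen_mem_and_subset (x := x) (U := ⊤) trivial
    refine ⟨⟨U, hU⟩, hxU, 1, ?_⟩
    change (((⊤ : T.left.IdealSheafData) ^ n).ideal ⟨U, hU⟩) = _
    rw [Ideal.span_singleton_one, Scheme.IdealSheafData.ideal_pow, Scheme.IdealSheafData.ideal_top]
    exact Ideal.top_pow _ _
  hle := by
    intro T t
    change (⊤ : T.left.IdealSheafData) ≤ (⊤ : T.left.IdealSheafData) ^ n
    intro U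
    change _ ≤ (((⊤ : T.left.IdealSheafData) ^ n).ideal U)
    rw [Scheme.IdealSheafData.ideal_pow, Scheme.IdealSheafData.ideal_top]
    change _ ≤ (⊤ : Ideal _) ^ n
    rw [Ideal.top_pow]
    exact le_top

/-- Two points of `V` over the same point outside of `U` agree. -/
theorem mem_range_diagonal {U V : Sp S} (hV : IsAlgSpace V) {u : U ⟶ X} {v : V ⟶ X} (h : IsElemDistSq u v)
    {z : Points (pullback v v)} (hz : Points.map v (Points.map (pullback.fst v v) z) ∉ Set.range (Points.map u)) :
    z ∈ Set.range (Points.map (pullback.diagonal v)) := by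
  obtain ⟨K, _, str, g, hg⟩ := K609.Points.exists_field_ofPt z
  let t : ↥(Over.mk str : Over S).left := IsLocalRing.closedPoint K
  obtain ⟨R₁, R₂, c₁, c₂, z₁, hc, h1, h2⟩ := K640.ElemDist.fpC₂_of_isElemDistSq hV h (g ≫ pullback.fst v v)
    (g ≫ pullback.snd v v) (by rw [Category.assoc, Category.assoc, pullback.condition])
  rcases hc.surj t with ⟨r, hr⟩ | ⟨r, hr⟩
  · refine (hz ?_).elim
    refine ⟨Points.ofPt z₁ r, ?_⟩
    rw [Points.map_ofPt, h1, K609.Points.ofPt_yon_map_comp, hr, ← Points.map_ofPt, ← Points.map_ofPt, hg]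
  · have e : (yon S).map c₂ ≫ g = ((yon S).map c₂ ≫ g ≫ pullback.fst v v) ≫ pullback.diagonal v := by
      apply pullback.hom_ext
      · simp only [Category.assoc, pullback.diagonal_fst, Category.comp_id]
      · simp only [Category.assoc, pullback.diagonal_snd, Category.comp_id]
        exact h2.symm
    refine ⟨Points.ofPt ((yon S).map c₂ ≫ g ≫ pullback.fst v v) r, ?_⟩
    rw [Points.map_ofPt, ← e, K609.Points.ofPt_yon_map_comp, hr, hg]

/-- `A ×_X A' ⟶ A ×_B A'` -/
noncomputable abbrev desc {A A' : Sp S} (a : A ⟶ X) (b : A' ⟶ X) (f : X ⟶ B) : pullback a b ⟶ pullback (a ≫ f) (b ≫ f) :=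
  pullback.map a b (a ≫ f) (b ≫ f) (𝟙 _) (𝟙 _) f (Category.id_comp _).symm (Category.id_comp _).symm

theorem desc_closed {A A' : Sp S} (a : A ⟶ X) (b : A' ⟶ X) {f : X ⟶ B} (hf : IsSeparatedMor f) :
    RepWith @IsClosedImmersion (desc a b f) :=
  MorphismProperty.of_isPullback (P := RepWith @IsClosedImmersion) (pullback_map_diagonal_isPullback a b f) hf

theorem desc_fst {A A' : Sp S} (a : A ⟶ X) (b : A' ⟶ X) (f : X ⟶ B) :
    desc a b f ≫ pullback.fst _ _ = pullback.fst _ _ := by
  rw [pullback.lift_fst, Category.comp_id]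

theorem desc_snd {A A' : Sp S} (a : A ⟶ X) (b : A' ⟶ X) (f : X ⟶ B) :
    desc a b f ≫ pullback.snd _ _ = pullback.snd _ _ := by
  rw [pullback.lift_snd, Category.comp_id]

end K637.NagElem
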