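import Groth.Agent.AlgSp.K637.NagAff
import Groth.Agent.AlgSp.K604.NagRed
import Groth.Agent.AlgSp.K619.NagFin
import Groth.Agent.AlgSp.K633.FtClosed
import Groth.Agent.S10040

/-!
# Nagata compactification of algebraic spaces: the final assembly
-/

set_option autoImplicit false
universe u
open CategoryTheory CategoryTheory.Limits AlgebraicGeometry Opposite

namespace K637.NagFinal

open K604.NagRed K601.RelApprox

theorem morLim : MorLim (⊤_ Scheme.{u}) := fun f h1 h2 h3 h4 =>
  Groth.Agent.S10040.result _ terminalIsTerminal f h1 h2 h3 h4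

theorem closedInSep : ClosedInSep (⊤_ Scheme.{u}) := fun f h1 h2 h3 h4 =>
  K633.FtClosed.main_separated (fun f h1 h2 h3 => K601.RelApprox.main morLim f h1 h2 h3) f h1 h2 h3 h4

/-- **Nagata compactification** of algebraic spaces. -/
theorem main {S : Scheme.{u}} [QuasiSeparatedSpace S] {X B : AlgSp.Space S} (f : X ⟶ B)
    (hBqc : AlgSp.IsQuasiCompactSp B.obj) (hBqs : AlgSp.IsQuasiSeparatedSp B.obj)
    (hsep : AlgSp.IsSeparatedMor f.hom) (hft : AlgSp.IsFiniteTypeMor f.hom) :
    ∃ (Xc : AlgSp.Space S) (j : X ⟶ Xc) (g : Xc ⟶ B), AlgSp.RepWith @IsOpenImmersion j.hom ∧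
      AlgSp.IsQuasiCompactMor j.hom ∧ AlgSp.IsProperMor g.hom ∧ j ≫ g = f :=
  K619.NagFin.main (fun _ hB => K637.NagMain.partial_of_aff hB (K637.NagAff.aff hB)) closedInSep morLim f hBqc hBqs
    hsep hft

end K637.NagFinal
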