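import Groth.Agent.AlgSp.K637.NagKey
import Groth.Agent.AlgSp.K610.Noeth
import Groth.Agent.AlgSp.K610.OpenImm
import Groth.Agent.AlgSp.K597.LocP
import Groth.Agent.AlgSp.K597.EtLoc
import Groth.Agent.AlgSp.K596.QC2

/-!
# Noetherian algebraic spaces (Nagata compactification)
-/

set_option autoImplicit false
universe u
open CategoryTheory CategoryTheory.Limits AlgebraicGeometry Opposite TopologicalSpace
open AlgSp K598.Site K598.RepKit K598.ClFam K598.Charts

namespace K637.NagNoeth

variable {S : Scheme.{u}} {X Y : Sp S}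

/-- locally of finite type over locally Noetherian -/
theorem isLocNoethSp_of_lft (hX : IsAlgSpace X) (hY : IsLocNoethSp Y) {f : X ⟶ Y} (hf : LocP @LocallyOfFiniteType f) :
    IsLocNoethSp X := by
  obtain ⟨V, b, hb, hbs, hV⟩ := hY
  obtain ⟨U₀, a₀, ha₀, has₀⟩ := hX.atlas
  obtain ⟨U, a, h, ha, has, hh⟩ := K597.exists_chart_over f a₀ ha₀ has₀ b hb hbs
  have h1 : LocallyOfFiniteType h.left := hf a b h ha hb hh
  exact ⟨U, a, ha, has, LocallyOfFiniteType.isLocallyNoetherian h.left⟩

theorem isFiniteTypeIdeal_of_isLocallyNoetherian {W : Scheme.{u}} [IsLocallyNoetherian W] (I : W.IdealSheafData) :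
    BlowUp.IsFiniteTypeIdeal I := fun U => by
  have : IsNoetherianRing Γ(W, U.1) := IsLocallyNoetherian.component_noetherian U
  exact IsNoetherian.noetherian _

theorem FT_of_isLocNoethSp (hX : IsLocNoethSp X) (A : Fam X) : K647.FamOps.FT A := by
  obtain ⟨U, a, ha, has, hU⟩ := hX
  exact K647.FamOps.FT.of_charts (ChartFam.single ha has) fun _ => isFiniteTypeIdeal_of_isLocallyNoetherian _

theorem noetherianSpace_points (hX : IsLocNoethSp X) (hc : IsQuasiCompactSp X) : NoetherianSpace (Points X) := by
  have := K610.Noeth.compactSpace_points hc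
  exact K610.Noeth.noetherianSpace_of_local fun x => K610.Noeth.exists_nhd hX x

theorem isQuasiCompactSp_open (hY : IsAlgSpace Y) (hN : IsLocNoethSp Y) (hc : IsQuasiCompactSp Y) {j : X ⟶ Y}
    (hj : RepWith @IsOpenImmersion j) : IsQuasiCompactSp X := by
  have hX : IsAlgSpace X := isAlgSpace_of_repWith_isOpenImmersion hj hY
  have := noetherianSpace_points hN hc
  have he := K610.OpenImm.isOpenEmbedding_points hY hj
  have h1 := he.isInducing.noetherianSpace
  rw [K609.QC.isQuasiCompactSp_iff hX]
  infer_instance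

end K637.NagNoeth
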