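import Groth.Agent.AlgSp.K637.NagElem
import Groth.Agent.AlgSp.K637.NagNoeth
import Groth.Agent.AlgSp.K619.NagNoe
import Groth.Agent.AlgSp.K635.EtTop
import Groth.Agent.AlgSp.K615.RefLoc
import Groth.Agent.AlgSp.K640.ElemSep
import Groth.Agent.S10696

/-!
# The pushout of `X` and a dilatation (Nagata compactification)

`glue`: `(U ⊂ X ← V)` an elementary distinguished square, `X ⟶ B` separated of finite type, `V ⊂ Y` open, `Y ⟶ B`
separated of finite type.  If `U ×_X V ⟶ U ×_B Y` and `(V ×_X V - Δ) ⟶ Y ×_B Y` are closed immersions then the pushout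
`W` of `X` and `Y` along `V` is separated of finite type over `B`.
-/

set_option autoImplicit false
universe u
open CategoryTheory CategoryTheory.Limits AlgebraicGeometry Opposite TopologicalSpace

namespace K637.NagGlue

open AlgSp K598.RepKit K598.ClFam K619.NagKit K637.NagPair K637.NagElem K637.NagCover

variable {S : Scheme.{u}} {B X U V Y R : Sp S}

/-- the complement of the diagonal -/
theorem exists_offdiag (hV : IsAlgSpace V) (hX : IsAlgSpace X) {v : V ⟶ X} (hv : IsEtaleMor v)
    (hs : IsSeparatedMor v) :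
    ∃ (R : Sp S) (r : R ⟶ pullback v v), IsAlgSpace R ∧ RepWith @IsClosedImmersion r ∧ RepWith @IsOpenImmersion r ∧
      Set.range (Points.map r) = (Set.range (Points.map (pullback.diagonal v)))ᶜ := by
  have hP : IsAlgSpace (pullback v v) := K613.Chart.isAlgSpace_pullback hV hV hX v v
  have ho := K635.EtTop.diag_open hV hX hv
  have h1 : IsOpen (Set.range (Points.map (pullback.diagonal v))) :=
    (K610.OpenImm.isOpenEmbedding_points hP ho).isOpen_range
  have h2 : IsClosed (Set.range (Points.map (pullback.diagonal v))) := K598.Red.isClosed_range hs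
  have h3 := K610.Sub.repWith_openPred h2.isOpen_compl
  have h4 := K610.Sub.range_openPred (Set.range (Points.map (pullback.diagonal v)))ᶜ
  have hR : IsAlgSpace (K610.Sub.openPred (Set.range (Points.map (pullback.diagonal v)))ᶜ).sub :=
    K610.Sub.isAlgSpace_of_mono h3.1 hP
  refine ⟨_, (K610.Sub.openPred (Set.range (Points.map (pullback.diagonal v)))ᶜ).ι, hR, ?_, h3, h4⟩
  refine (Groth.Agent.S9934.result (Z := ⟨_, hR⟩) (X := ⟨_, hP⟩) ⟨(K610.Sub.openPred
    (Set.range (Points.map (pullback.diagonal v)))ᶜ).ι⟩ (K610.OpenImm.repWith_isImmersion_of_open h3)).2 ?_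
  change IsClosed (Set.range (Points.map (K610.Sub.openPred (Set.range (Points.map (pullback.diagonal v)))ᶜ).ι))
  rw [h4]
  exact h1.isClosed_compl

/-- the base change of `A ⟶ X` -/
theorem isPullback_pm {A : Sp S} (a : A ⟶ X) (f : X ⟶ B) (gY : Y ⟶ B) :
    IsPullback (pm (f₁ := a ≫ f) (f₂ := gY) (g₁ := f) (g₂ := gY) (j₁ := a) (j₂ := 𝟙 Y) rfl (Category.id_comp _))
      (pullback.fst (a ≫ f) gY) (pullback.fst f gY) a := by
  have h1 : IsPullback (pullback.snd f gY) (pullback.fst f gY) gY f := (IsPullback.of_hasPullback f gY).flip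
  refine IsPullback.of_right ?_ (pm_fst _ _) h1
  rw [pm_snd, Category.comp_id]
  exact (IsPullback.of_hasPullback (a ≫ f) gY).flip

/-- the pullback of `V ⟶ X ×_B Y` to `A ×_B Y` -/
theorem isPullback_c {A : Sp S} {a : A ⟶ X} {v : V ⟶ X} {f : X ⟶ B} {gY : Y ⟶ B} {jY : V ⟶ Y}
    {c : V ⟶ pullback f gY} (hc₁ : c ≫ pullback.fst f gY = v) (hc₂ : c ≫ pullback.snd f gY = jY)
    {c' : pullback a v ⟶ pullback (a ≫ f) gY} (h₁ : c' ≫ pullback.fst _ _ = pullback.fst a v)
    (h₂ : c' ≫ pullback.snd _ _ = pullback.snd a v ≫ jY) :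
    IsPullback (pullback.snd a v) c' c (pm (f₁ := a ≫ f) (f₂ := gY) (g₁ := f) (g₂ := gY) (j₁ := a) (j₂ := 𝟙 Y) rfl
      (Category.id_comp _)) := by
  have h3 := isPullback_pm a f gY (Y := Y)
  refine IsPullback.of_bot ?_ ?_ h3.flip.flip
  · rw [h₁, hc₁]
    exact (IsPullback.of_hasPullback a v).flip
  · apply pullback.hom_ext
    · rw [Category.assoc, hc₁, Category.assoc, pm_fst, ← Category.assoc, h₁, pullback.condition]
    · rw [Category.assoc, hc₂, Category.assoc, pm_snd, Category.comp_id, h₂]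

/-- The points of `X` come from `U` or from `V`. -/
theorem js_of_isElemDistSq {u : U ⟶ X} {v : V ⟶ X} (h : IsElemDistSq u v) : JS u v := by
  intro x
  by_cases hx : x ∈ Set.range (Points.map u)
  · exact Or.inl hx
  · right
    obtain ⟨-, -, T, P, i, p₁, p₂, hi, sq, hiso⟩ := h
    have hx' : x ∈ Set.range (Points.map i) := by
      rw [hi.2.1]
      exact hx
    obtain ⟨t, rfl⟩ := hx'
    refine ⟨Points.map p₂ (Points.map (inv p₁) t), ?_⟩
    rw [← Points.map_comp, ← sq.w, Points.map_comp, ← Points.map_comp (inv p₁) p₁, IsIso.inv_hom_id, Points.map_id]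

theorem isClosedMap_of_isClosedImmersion {F G : Sp S} {f : F ⟶ G} (hf : RepWith @IsClosedImmersion f) :
    IsClosedMap (Points.map f) :=
  K596.Univ.isClosedMap_of_repWith
    (K597.repWith_mono (fun _ _ f (_ : IsClosedImmersion f) => (inferInstance : UniversallyClosed f)) hf)

theorem isClosedMap_c {u : U ⟶ X} {v : V ⟶ X} {f : X ⟶ B} {gY : Y ⟶ B} {jY : V ⟶ Y}
    (hsq : IsElemDistSq u v) (hw : jY ≫ gY = v ≫ f) (hjY : RepWith @IsOpenImmersion jY)
    (hgY : IsSeparatedMor gY) {c : V ⟶ pullback f gY} (hc₁ : c ≫ pullback.fst f gY = v)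
    (hc₂ : c ≫ pullback.snd f gY = jY)
    {c₀ : pullback u v ⟶ pullback (u ≫ f) gY} (h01 : c₀ ≫ pullback.fst _ _ = pullback.fst u v)
    (h02 : c₀ ≫ pullback.snd _ _ = pullback.snd u v ≫ jY) (hc0 : RepWith @IsClosedImmersion c₀)
    {r : R ⟶ pullback v v} (hr : Set.range (Points.map r) = (Set.range (Points.map (pullback.diagonal v)))ᶜ)
    {d₀ : R ⟶ pullback gY gY} (hd1 : d₀ ≫ pullback.fst _ _ = (r ≫ pullback.fst _ _) ≫ jY)
    (hd2 : d₀ ≫ pullback.snd _ _ = (r ≫ pullback.snd _ _) ≫ jY) (hd : RepWith @IsClosedImmersion d₀)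
    (hvR : RepWith @Etale v) :
    IsClosedMap (Points.map c) := by
  refine K615.RefLoc.isClosedMap_of_local fun y => ?_
  rcases js_of_isElemDistSq hsq (Points.map (pullback.fst f gY) y) with ⟨a, ha⟩ | ⟨a, ha⟩
  · obtain ⟨p, hp, -⟩ := K609.Points.exists_of_isPullback (isPullback_pm u f gY) y a ha.symm
    exact ⟨_, _, _, _, _, isPullback_c hc₁ hc₂ h01 h02, K609.Points.isOpenMap_map
      (K609.Points.repWith_universallyOpen_of_etale (K610.OpenImm.repWith_etale_of_open
        (repWith_of_isPullback (isPullback_pm u f gY).flip hsq.1))), ⟨p, hp⟩, isClosedMap_of_isClosedImmersion hc0⟩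
  · obtain ⟨p, hp, -⟩ := K609.Points.exists_of_isPullback (isPullback_pm v f gY) y a ha.symm
    have hlift : pullback.fst v v ≫ v ≫ f = (pullback.snd v v ≫ jY) ≫ gY := by
      rw [Category.assoc, hw, ← Category.assoc, pullback.condition, Category.assoc]
    let c' : pullback v v ⟶ pullback (v ≫ f) gY := pullback.lift (pullback.fst v v) (pullback.snd v v ≫ jY) hlift
    have h1 : c' ≫ pullback.fst _ _ = pullback.fst v v := pullback.lift_fst _ _ _
    have h2 : c' ≫ pullback.snd _ _ = pullback.snd v v ≫ jY := pullback.lift_snd _ _ _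
    refine ⟨_, _, _, _, _, isPullback_c hc₁ hc₂ h1 h2, K609.Points.isOpenMap_map
      (K609.Points.repWith_universallyOpen_of_etale
        (repWith_of_isPullback (isPullback_pm v f gY).flip hvR)), ⟨p, hp⟩, ?_⟩
    have hjs : JS (pullback.diagonal v) r := by
      intro x
      rw [hr]
      exact Classical.em _
    refine isClosedMap₂ hjs (isClosedMap_of_isClosedImmersion ?_) (isClosedMap_of_isClosedImmersion ?_)
    · refine closed_of_section (f := pullback.fst (v ≫ f) gY) ?_ (sep_bc (IsPullback.of_hasPullback (v ≫ f) gY).flip hgY)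
      rw [Category.assoc, h1, pullback.diagonal_fst]
    · have hq : RepWith @IsOpenImmersion (pm (f₁ := v ≫ f) (f₂ := gY) (g₁ := gY) (g₂ := gY) (j₁ := jY) (j₂ := 𝟙 Y) hw
          (Category.id_comp _)) := isOpenImmersion_pm hjY (repWith_of_isIso _) _ _
      have hm := mono_of_repWith_isOpenImmersion hq
      have e : (r ≫ c') ≫ pm (f₁ := v ≫ f) (f₂ := gY) (g₁ := gY) (g₂ := gY) (j₁ := jY) (j₂ := 𝟙 Y) hw
          (Category.id_comp _) = d₀ := by
        apply pullback.hom_ext
        · rw [Category.assoc, pm_fst, hd1, Category.assoc, reassoc_of% h1, Category.assoc]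
        · rw [Category.assoc, pm_snd, hd2, Category.comp_id, Category.assoc, h2, Category.assoc]
      exact rep_of_comp_mono (by rw [e]; exact hd)

theorem range_of_isPullback' {F G H P : Sp S} {fst : P ⟶ F} {snd : P ⟶ G} {a : F ⟶ H} {b : G ⟶ H}
    (sq : IsPullback fst snd a b) {x : Points G} (hx : Points.map b x ∈ Set.range (Points.map a)) :
    x ∈ Set.range (Points.map snd) := by
  obtain ⟨z, hz⟩ := hx
  obtain ⟨p, -, hp⟩ := K609.Points.exists_of_isPullback sq z x hz
  exact ⟨p, hp⟩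

theorem closed_d {W : Sp S} (hB : IsAlgSpace B) (hX : IsAlgSpace X) (hY : IsAlgSpace Y) (hV : IsAlgSpace V)
    (hW : IsAlgSpace W) {v : V ⟶ X} {gY : Y ⟶ B} {jY : V ⟶ Y} (hjY : RepWith @IsOpenImmersion jY)
    (hgY : IsSeparatedMor gY) {x : X ⟶ W} {y : Y ⟶ W} (hE : IsElemDistSq x y) (hpb : IsPullback jY v y x)
    {r : R ⟶ pullback v v} (hro : RepWith @IsOpenImmersion r)
    (hr : Set.range (Points.map r) = (Set.range (Points.map (pullback.diagonal v)))ᶜ)
    {d₀ : R ⟶ pullback gY gY} (hd1 : d₀ ≫ pullback.fst _ _ = (r ≫ pullback.fst _ _) ≫ jY)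
    (hd2 : d₀ ≫ pullback.snd _ _ = (r ≫ pullback.snd _ _) ≫ jY) (hd : RepWith @IsClosedImmersion d₀)
    {d : pullback y y ⟶ pullback gY gY} (h1 : d ≫ pullback.fst _ _ = pullback.fst y y)
    (h2 : d ≫ pullback.snd _ _ = pullback.snd y y) : RepWith @IsClosedImmersion d := by
  have hF : IsAlgSpace (pullback y y) := K613.Chart.isAlgSpace_pullback hY hY hW y y
  have hG : IsAlgSpace (pullback gY gY) := K613.Chart.isAlgSpace_pullback hY hY hB gY gY
  have hmx : Mono x := mono_of_repWith_isOpenImmersion hE.1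
  -- `V ×_X V ⟶ V ×_W V ⟶ Y ×_W Y`
  have ho1 : RepWith @IsOpenImmersion (desc v v x) :=
    MorphismProperty.of_isPullback (P := RepWith @IsOpenImmersion) (pullback_map_diagonal_isPullback v v x)
      (repWith_of_isIso _)
  have hi1 : IsIso (desc v v x) :=
    MorphismProperty.of_isPullback (P := MorphismProperty.isomorphisms _) (pullback_map_diagonal_isPullback v v x)
      (inferInstanceAs (IsIso (pullback.diagonal x)))
  have ho2 : RepWith @IsOpenImmersion (pm (f₁ := v ≫ x) (f₂ := v ≫ x) (g₁ := y) (g₂ := y) (j₁ := jY) (j₂ := jY)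
      hpb.w hpb.w) := isOpenImmersion_pm hjY hjY _ _
  set q : pullback v v ⟶ pullback y y := desc v v x ≫ pm (f₁ := v ≫ x) (f₂ := v ≫ x) (g₁ := y) (g₂ := y) (j₁ := jY)
    (j₂ := jY) hpb.w hpb.w with hq
  have hqo : RepWith @IsOpenImmersion q := open_comp ho1 ho2
  have q1 : q ≫ pullback.fst y y = pullback.fst v v ≫ jY := by
    rw [hq, Category.assoc, pm_fst, ← Category.assoc, desc_fst]
  have q2 : q ≫ pullback.snd y y = pullback.snd v v ≫ jY := by
    rw [hq, Category.assoc, pm_snd, ← Category.assoc, desc_snd]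
  have hjs : JS (pullback.diagonal y) (r ≫ q) := by
    intro z
    by_cases hz : Points.map y (Points.map (pullback.fst y y) z) ∈ Set.range (Points.map x)
    · have hz' : Points.map y (Points.map (pullback.snd y y) z) ∈ Set.range (Points.map x) := by
        rw [← Points.map_comp, ← pullback.condition, Points.map_comp]
        exact hz
      have e1 := range_of_isPullback' hpb.flip hz
      have e2 := range_of_isPullback' hpb.flip hz'
      obtain ⟨w, rfl⟩ := mem_range_pm (f₁ := v ≫ x) (f₂ := v ≫ x) (g₁ := y) (g₂ := y) hjY hjY hpb.w hpb.w e1 e2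
      obtain ⟨w', rfl⟩ : ∃ w', Points.map (desc v v x) w' = w :=
        ⟨Points.map (inv (desc v v x)) w, by rw [← Points.map_comp, IsIso.inv_hom_id, Points.map_id]⟩
      rw [← Points.map_comp, ← hq]
      by_cases hw' : w' ∈ Set.range (Points.map (pullback.diagonal v))
      · left
        obtain ⟨t, rfl⟩ := hw'
        refine ⟨Points.map jY t, ?_⟩
        rw [← Points.map_comp, ← Points.map_comp]
        congr 1
        apply pullback.hom_ext
        · rw [Category.assoc, Category.assoc, q1, pullback.diagonal_fst, pullback.diagonal_fst_assoc, Category.comp_id]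
        · rw [Category.assoc, Category.assoc, q2, pullback.diagonal_snd, pullback.diagonal_snd_assoc, Category.comp_id]
      · right
        have hw2 : w' ∈ Set.range (Points.map r) := by
          rw [hr]
          exact hw'
        obtain ⟨t, rfl⟩ := hw2
        exact ⟨t, Points.map_comp _ _ _⟩
    · exact Or.inl (mem_range_diagonal hY hE hz)
  have hm : Mono d := by
    refine ⟨fun a b hab => ?_⟩
    apply pullback.hom_ext
    · rw [← h1, ← Category.assoc, hab, Category.assoc]
    · rw [← h2, ← Category.assoc, hab, Category.assoc]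
  refine isClosedImmersion₂ hF hG hjs (K598.ElemSq.isEtaleMor_of_open (K635.EtTop.diag_open hY hW hE.2.1))
    (K598.ElemSq.isEtaleMor_of_open (open_comp hro hqo)) hm ?_ ?_
  · have e : pullback.diagonal y ≫ d = pullback.diagonal gY := by
      apply pullback.hom_ext
      · rw [Category.assoc, h1, pullback.diagonal_fst, pullback.diagonal_fst]
      · rw [Category.assoc, h2, pullback.diagonal_snd, pullback.diagonal_snd]
    rw [e]
    exact hgY
  · have e : (r ≫ q) ≫ d = d₀ := by
      apply pullback.hom_ext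
      · rw [Category.assoc, h1, hd1, Category.assoc, q1, Category.assoc]
      · rw [Category.assoc, h2, hd2, Category.assoc, q2, Category.assoc]
    rw [e]
    exact hd

/-- The pushout is separated of finite type. -/
theorem glue (hB : IsAlgSpace B) (hX : IsAlgSpace X) (hV : IsAlgSpace V) (hY : IsAlgSpace Y) {u : U ⟶ X} {v : V ⟶ X}
    {f : X ⟶ B} (hf : SFT f) {gY : Y ⟶ B} (hgY : SFT gY) {jY : V ⟶ Y}
    (hsq : IsElemDistSq u v) (hw : jY ≫ gY = v ≫ f) (hjY : RepWith @IsOpenImmersion jY)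
    {c₀ : pullback u v ⟶ pullback (u ≫ f) gY} (h01 : c₀ ≫ pullback.fst _ _ = pullback.fst u v)
    (h02 : c₀ ≫ pullback.snd _ _ = pullback.snd u v ≫ jY) (hc0 : RepWith @IsClosedImmersion c₀)
    {r : R ⟶ pullback v v} (hro : RepWith @IsOpenImmersion r)
    (hr : Set.range (Points.map r) = (Set.range (Points.map (pullback.diagonal v)))ᶜ)
    {d₀ : R ⟶ pullback gY gY} (hd1 : d₀ ≫ pullback.fst _ _ = (r ≫ pullback.fst _ _) ≫ jY)
    (hd2 : d₀ ≫ pullback.snd _ _ = (r ≫ pullback.snd _ _) ≫ jY) (hd : RepWith @IsClosedImmersion d₀)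
    (hvR : RepWith @Etale v) :
    ∃ (W : Sp S) (fo : W ⟶ B) (x : X ⟶ W) (y : Y ⟶ W), IsAlgSpace W ∧ SFT fo ∧ RepWith @IsOpenImmersion x ∧
      x ≫ fo = f ∧ y ≫ fo = gY ∧ IsPullback jY v y x := by
  have hvs : IsSeparatedMor v := K597.ProperCancel.isSeparatedMor_of_comp (g := f)
    (by rw [← hw]; exact sep_comp (sep_of_open hjY) hgY.sep)
  obtain ⟨⟨W, hW⟩, x', y', -, hpb, hE⟩ := Groth.Agent.S10696.result (U := ⟨X, hX⟩) (V := ⟨Y, hY⟩) (V' := ⟨V, hV⟩)
    (ObjectProperty.homMk jY) hjY (ObjectProperty.homMk v) hvs hsq.2.1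
  set x : X ⟶ W := x'.hom with hx
  set y : Y ⟶ W := y'.hom with hy
  replace hpb : IsPullback jY v y x := hpb
  replace hE : IsElemDistSq x y := hE
  have hpo := K640.ElemDist.isPushout_of_isElemDistSq hY hE hpb.flip
  obtain ⟨fo, hfo1, hfo2⟩ : ∃ fo : W ⟶ B, x ≫ fo = f ∧ y ≫ fo = gY :=
    ⟨hpo.desc f gY hw.symm, hpo.inl_desc _ _ _, hpo.inr_desc _ _ _⟩
  refine ⟨W, fo, x, y, hW, ⟨?_, ?_⟩, hE.1, hfo1, hfo2, hpb⟩
  · subst hfo1 hfo2
    let c : V ⟶ pullback (x ≫ fo) (y ≫ fo) := pullback.lift v jY (by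
      rw [← Category.assoc, ← Category.assoc, hpb.w])
    let d : pullback y y ⟶ pullback (y ≫ fo) (y ≫ fo) := pullback.lift (pullback.fst _ _) (pullback.snd _ _) (by
      rw [← Category.assoc, ← Category.assoc, pullback.condition])
    have c1 : c ≫ pullback.fst _ _ = v := pullback.lift_fst _ _ _
    have c2 : c ≫ pullback.snd _ _ = jY := pullback.lift_snd _ _ _
    have d1 : d ≫ pullback.fst _ _ = pullback.fst _ _ := pullback.lift_fst _ _ _
    have d2 : d ≫ pullback.snd _ _ = pullback.snd _ _ := pullback.lift_snd _ _ _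
    exact K640.ElemSep.isSeparatedMor_of_isElemDistSq hX hY hW fo hE hf.sep hpb.flip
      (IsPullback.of_hasPullback (x ≫ fo) (y ≫ fo)) c1 c2
      (isClosedMap_c hsq hw hjY hgY.sep c1 c2 h01 h02 hc0 hr hd1 hd2 hd hvR)
      (IsPullback.of_hasPullback y y) (IsPullback.of_hasPullback (y ≫ fo) (y ≫ fo)) d d1 d2
      (closed_d hB hX hY hV hW hjY hgY.sep hE hpb hro hr hd1 hd2 hd d1 d2)
  · have hjs : JS x y := js_of_isElemDistSq hE
    refine ⟨locP₂ K597.etLoc_lft hjs hX hY hB (K598.ElemSq.isEtaleMor_of_open hE.1) hE.2.1 (by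
      rw [hfo1]; exact hf.ft.1) (by rw [hfo2]; exact hgY.ft.1), isQuasiCompactMor₂ hW hB hjs (by
      rw [hfo1]; exact hf.ft.2) (by rw [hfo2]; exact hgY.ft.2)⟩

end K637.NagGlue
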