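import Groth.Agent.AlgSp.K637.NagRing
import Groth.Agent.AlgSp.K594.FamOps
import Groth.Agent.AlgSp.K647.FamOps
import Groth.Agent.AlgSp.K647.BlowComp

/-!
# The key estimates of the dilatation argument, for schemes and algebraic spaces

* `exists_pow_le`: the Nullstellensatz for families of finite type ideals on a quasi-compact algebraic space.
* `key`: the closure of a set of points over the open part stays over the open part.
-/

set_option autoImplicit false
universe u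
open CategoryTheory CategoryTheory.Limits AlgebraicGeometry Opposite TopologicalSpace
open AlgSp K598.Site K598.RepKit K598.ClFam K598.Charts
open Groth.Agent.Divis.IdealComap

namespace K637.NagKey

section scheme

variable {X Y : Scheme.{u}}

theorem le_of_forall_mem {I J : X.IdealSheafData}
    (h : ∀ x : X, ∃ U : X.affineOpens, x ∈ U.1 ∧ I.ideal U ≤ J.ideal U) : I ≤ J := by
  choose U hxU hU using h
  exact Scheme.IdealSheafData.le_of_iSup_eq_top U
    (top_le_iff.mp fun x _ ↦ TopologicalSpace.Opens.mem_iSup.mpr ⟨x, hxU x⟩) hU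

/-- The Nullstellensatz. -/
theorem exists_pow_le_scheme [CompactSpace X] {D A : X.IdealSheafData}
    (hD : BlowUp.IsFiniteTypeIdeal D) (h : (A.support : Set X) ⊆ D.support) : ∃ N : ℕ, ∀ m, N ≤ m → D ^ m ≤ A := by
  have h1 : ∀ U : X.affineOpens, ∃ n : ℕ, D.ideal U ^ n ≤ A.ideal U := by
    intro U
    refine Ideal.exists_pow_le_of_le_radical_of_fg ?_ (hD U)
    have h2 : D ≤ A.radical := by
      rw [← Scheme.IdealSheafData.vanishingIdeal_support]
      exact Scheme.IdealSheafData.le_support_iff_le_vanishingIdeal.1 h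
    exact h2 U
  choose n hn using h1
  have h3 : ∀ x : X, ∃ U : X.affineOpens, x ∈ U.1 := fun x => by
    obtain ⟨U, hU, hxU, -⟩ := exists_isAffineOpen_mem_and_subset (x := x) (U := ⊤) trivial
    exact ⟨⟨U, hU⟩, hxU⟩
  choose U hU using h3
  obtain ⟨T, hT⟩ := isCompact_univ.elim_finite_subcover (fun x : X => ((U x).1 : Set X)) (fun x => (U x).1.2)
    fun x _ => Set.mem_iUnion.2 ⟨x, hU x⟩
  refine ⟨T.sup fun x => n (U x), fun m hm => le_of_forall_mem fun y => ?_⟩
  obtain ⟨x, hx, hyx⟩ := Set.mem_iUnion₂.1 (hT (Set.mem_univ y))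
  refine ⟨U x, hyx, ?_⟩
  rw [Scheme.IdealSheafData.ideal_pow]
  exact (Ideal.pow_le_pow_right ((Finset.le_sup (f := fun x => n (U x)) hx).trans hm)).trans (hn (U x))

/-- The primes of an affine open which lie in a set. -/
def sp {U : X.Opens} (hU : IsAffineOpen U) (M : Set X) : Set (PrimeSpectrum Γ(X, U)) := {p | hU.fromSpec p ∈ M}

theorem le_asIdeal_iff {U : X.affineOpens} (D : X.IdealSheafData) (p : PrimeSpectrum Γ(X, U.1)) :
    D.ideal U ≤ p.asIdeal ↔ U.2.fromSpec p ∈ D.support := by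
  have h1 : U.2.fromSpec p ∈ U.1 := by
    have : U.2.fromSpec p ∈ Set.range U.2.fromSpec := ⟨p, rfl⟩
    rwa [U.2.range_fromSpec] at this
  rw [Scheme.IdealSheafData.mem_support_iff_of_mem h1]
  have h2 := Set.ext_iff.1 (U.2.fromSpec_preimage_zeroLocus (D.ideal U : Set Γ(X, U.1))) p
  exact h2.symm

theorem mem_closure_sp {U : X.Opens} (hU : IsAffineOpen U) {M : Set X} {p : PrimeSpectrum Γ(X, U)}
    (h : hU.fromSpec p ∈ closure M) : p ∈ closure (sp hU M) := by
  have h1 : hU.fromSpec ⁻¹' closure M = closure (hU.fromSpec ⁻¹' M) :=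
    hU.fromSpec.isOpenEmbedding.isOpenMap.preimage_closure_eq_closure_preimage hU.fromSpec.continuous M
  have h2 : p ∈ hU.fromSpec ⁻¹' closure M := h
  rw [h1] at h2
  exact h2

theorem exists_principal_le {D : X.IdealSheafData} {U V : X.affineOpens} (h : U ≤ V)
    (hV : (D.ideal V).IsPrincipal) : (D.ideal U).IsPrincipal := by
  obtain ⟨a, ha⟩ := hV
  rw [Ideal.submodule_span_eq] at ha
  rw [← D.map_ideal h, ha, Ideal.map_span, Set.image_singleton]
  exact ⟨_, rfl⟩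

/-- The key lemma on schemes. -/
theorem key_scheme {M : Set X} {D₁ D₂ I₁ I₂ K : X.IdealSheafData} {N : ℕ} (hN : N ≠ 0)
    (h1 : (D₁ * D₂) ^ N ≤ I₁ ⊔ K) (h2 : (D₁ * D₂) ^ N ≤ I₂ ⊔ K) (hI1 : I₁ ≤ D₁ ^ (3 * N)) (hI2 : I₂ ≤ D₂ ^ (3 * N))
    (he1 : Curv2.IsLocPrincipal (D₁ ^ (3 * N))) (he2 : Curv2.IsLocPrincipal (D₂ ^ (3 * N))) (hK : M ⊆ K.support)
    (hM1 : Disjoint M D₁.support) (hM2 : Disjoint M D₂.support) :
    Disjoint (closure M) D₁.support := by
  rw [Set.disjoint_left]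
  intro x hx
  rw [K647.CartDesc.isLocPrincipal_iff] at he1 he2
  obtain ⟨U₁, hU₁, a₁, ha₁⟩ := he1 x
  obtain ⟨U₂, hU₂, a₂, ha₂⟩ := he2 x
  obtain ⟨U, hU, hxU, hUU⟩ := exists_isAffineOpen_mem_and_subset (x := x) (U := U₁.1 ⊓ U₂.1) ⟨hU₁, hU₂⟩
  let U' : X.affineOpens := ⟨U, hU⟩
  have hp1 : ((D₁.ideal U') ^ (3 * N)).IsPrincipal := by
    change ((D₁ ^ (3 * N)).ideal U').IsPrincipal
    exact exists_principal_le (V := U₁) (fun y hy => (hUU hy).1) ⟨a₁, ha₁⟩
  have hp2 : ((D₂.ideal U') ^ (3 * N)).IsPrincipal := by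
    change ((D₂ ^ (3 * N)).ideal U').IsPrincipal
    exact exists_principal_le (V := U₂) (fun y hy => (hUU hy).2) ⟨a₂, ha₂⟩
  have hq : hU.fromSpec (hU.primeIdealOf ⟨x, hxU⟩) = x := hU.fromSpec_primeIdealOf ⟨x, hxU⟩
  have h5 := NagRing.key (M := sp hU M) (D₁ := D₁.ideal U') (D₂ := D₂.ideal U') (I₁ := I₁.ideal U')
    (I₂ := I₂.ideal U') (K := K.ideal U') hN (h1 U') (h2 U') (hI1 U') (hI2 U') hp1 hp2
    (fun p hp => (le_asIdeal_iff (U := U') K p).2 (hK hp))
    (fun p hp h => Set.disjoint_left.1 hM1 hp ((le_asIdeal_iff (U := U') D₁ p).1 h))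
    (fun p hp h => Set.disjoint_left.1 hM2 hp ((le_asIdeal_iff (U := U') D₂ p).1 h))
    (q := hU.primeIdealOf ⟨x, hxU⟩) (mem_closure_sp hU (by rw [hq]; exact hx))
  rw [le_asIdeal_iff (U := U')] at h5
  intro hD
  exact h5 (by
    change hU.fromSpec _ ∈ _
    rw [hq]
    exact hD)

/-- Near the closure of the centre the blown up ideal is generated by `D`. -/
theorem exists_open_scheme {M : Set X} {D I : X.IdealSheafData} (hJ : BlowUp.IsEffCartierIdeal (I ⊔ D))
    (hI : M ⊆ I.support) (hM : Disjoint M D.support) {x : X} (hx : x ∈ closure M) :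
    ∃ U : X.affineOpens, x ∈ U.1 ∧ I.ideal U ≤ D.ideal U := by
  obtain ⟨U, hxU, e, he, hU⟩ := hJ x
  have hq : U.2.fromSpec (U.2.primeIdealOf ⟨x, hxU⟩) = x := U.2.fromSpec_primeIdealOf ⟨x, hxU⟩
  obtain ⟨d, hd, hd'⟩ := NagRing.exists_notMem (M := sp U.2 M) (D := D.ideal U) (I := I.ideal U) he hU
    (fun p hp => (le_asIdeal_iff (U := U) I p).2 (hI hp))
    (fun p hp h => Set.disjoint_left.1 hM hp ((le_asIdeal_iff (U := U) D p).1 (by
      have h3 : (I ⊔ D).ideal U ≤ p.asIdeal := by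
        rw [hU, Ideal.span_singleton_le_iff_mem]
        exact h
      exact le_sup_right.trans h3)))
    (q := U.2.primeIdealOf ⟨x, hxU⟩) (mem_closure_sp U.2 (by rw [hq]; exact hx))
  refine ⟨X.affineBasicOpen d, ?_, ?_⟩
  · have h4 := U.2.fromSpec_preimage_basicOpen d
    have h5 : U.2.primeIdealOf ⟨x, hxU⟩ ∈ U.2.fromSpec ⁻¹ᵁ X.basicOpen d := by
      rw [h4]
      exact hd
    have h6 : U.2.fromSpec (U.2.primeIdealOf ⟨x, hxU⟩) ∈ X.basicOpen d := h5
    rwa [hq] at h6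
  · rw [← I.map_ideal_basicOpen U d, ← D.map_ideal_basicOpen U d]
    refine Ideal.map_le_iff_le_comap.2 fun y hy => ?_
    have h7 := Ideal.mem_map_of_mem (X.presheaf.map (homOfLE (X.basicOpen_le d)).op).hom (hd' y hy)
    rw [map_mul] at h7
    have h8 : IsUnit ((X.presheaf.map (homOfLE (X.basicOpen_le d)).op).hom d) :=
      RingedSpace.isUnit_res_basicOpen _ d
    exact (Ideal.unit_mul_mem_iff_mem _ h8).1 h7

end scheme

section space

variable {S : Scheme.{u}} {P Q : Sp S}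

/-- the points of a closed subspace given by a family of ideals -/
def V (A : Fam P) : Set (Points P) := Set.range (Points.map A.ι)

theorem preimage_V (A : Fam P) {T : Over S} (g : (yon S).obj T ⟶ P) :
    Points.ofPt g ⁻¹' V A = (A.I g).support := K598.Red.range_map_ι A g

theorem mem_V_iff (A : Fam P) {T : Over S} (g : (yon S).obj T ⟶ P) (t : ↥T.left) :
    Points.ofPt g t ∈ V A ↔ t ∈ (A.I g).support := by
  have h := Set.ext_iff.1 (preimage_V A g) t
  exact h

theorem isClosed_V (A : Fam P) : IsClosed (V A) := K598.Red.isClosed_range A.repWith_ι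

theorem V_antitone {A B : Fam P} (h : A ≤ B) : V B ⊆ V A := K594.FamOps.range_of_le h

/-- locally principal families -/
def LP (A : Fam P) : Prop := ∀ ⦃T : Over S⦄ (g : (yon S).obj T ⟶ P), Curv2.IsLocPrincipal (A.I g)

theorem LP.pull {A : Fam P} (h : LP A) (f : Q ⟶ P) : LP (K594.FamOps.pull f A) := fun _ g => h (g ≫ f)

theorem V_mul (A B : Fam P) : V (K647.FamOps.mul A B) = V A ∪ V B := by
  ext x
  obtain ⟨K, _, str, g, hg⟩ := K609.Points.exists_field_ofPt x
  have t : ↥(Over.mk str : Over S).left := IsLocalRing.closedPoint K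
  rw [← hg t, Set.mem_union, mem_V_iff, mem_V_iff, mem_V_iff, K647.FamOps.mul_I,
    Scheme.IdealSheafData.support_mul]
  exact Iff.rfl

theorem V_sup (A B : Fam P) : V (K594.FamOps.sup A B) = V A ∩ V B := by
  ext x
  obtain ⟨K, _, str, g, hg⟩ := K609.Points.exists_field_ofPt x
  have t : ↥(Over.mk str : Over S).left := IsLocalRing.closedPoint K
  rw [← hg t, Set.mem_inter_iff, mem_V_iff, mem_V_iff, mem_V_iff, K594.FamOps.sup_I,
    Scheme.IdealSheafData.support_sup]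
  exact Iff.rfl

theorem V_pow (A : Fam P) {n : ℕ} (hn : n ≠ 0) : V (K594.FamOps.pow A n) = V A := by
  ext x
  obtain ⟨K, _, str, g, hg⟩ := K609.Points.exists_field_ofPt x
  have t : ↥(Over.mk str : Over S).left := IsLocalRing.closedPoint K
  rw [← hg t, mem_V_iff, mem_V_iff, K594.FamOps.pow_I, Scheme.IdealSheafData.support_pow _ _ hn]

theorem V_pull (A : Fam P) (f : Q ⟶ P) : V (K594.FamOps.pull f A) = Points.map f ⁻¹' V A := by
  ext x
  obtain ⟨K, _, str, g, hg⟩ := K609.Points.exists_field_ofPt x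
  have t : ↥(Over.mk str : Over S).left := IsLocalRing.closedPoint K
  rw [← hg t, mem_V_iff, Set.mem_preimage, Points.map_ofPt, mem_V_iff, K594.FamOps.pull_I]

/-- The Nullstellensatz on a quasi-compact algebraic space. -/
theorem exists_pow_le (hP : IsQuasiCompactSp P) {D A : Fam P} (hD : K647.FamOps.FT D) (h : V A ⊆ V D) :
    ∃ N : ℕ, ∀ m, N ≤ m → K594.FamOps.pow D m ≤ A := by
  obtain ⟨W, p, hW, h1, h2⟩ := K609.QC.exists_affine_chart hP
  obtain ⟨N, hN⟩ := exists_pow_le_scheme (A := A.I p) (hD p) (by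
    rw [← preimage_V, ← preimage_V]
    exact Set.preimage_mono h)
  exact ⟨N, fun m hm => (ChartFam.single h1 h2).le_of_le fun _ => hN m hm⟩

/-- The key lemma. -/
theorem key (hP : IsAlgSpace P) {M : Set (Points P)} {D₁ D₂ I₁ I₂ K : Fam P} {N : ℕ} (hN : N ≠ 0)
    (h1 : K594.FamOps.pow (K647.FamOps.mul D₁ D₂) N ≤ K594.FamOps.sup I₁ K)
    (h2 : K594.FamOps.pow (K647.FamOps.mul D₁ D₂) N ≤ K594.FamOps.sup I₂ K)
    (hI1 : I₁ ≤ K594.FamOps.pow D₁ (3 * N)) (hI2 : I₂ ≤ K594.FamOps.pow D₂ (3 * N))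
    (he1 : LP (K594.FamOps.pow D₁ (3 * N))) (he2 : LP (K594.FamOps.pow D₂ (3 * N))) (hK : M ⊆ V K)
    (hM1 : Disjoint M (V D₁)) (hM2 : Disjoint M (V D₂)) : Disjoint (closure M) (V D₁) := by
  obtain ⟨W, p, hp, hp'⟩ := hP.atlas
  rw [Set.disjoint_left]
  intro x hx hx'
  obtain ⟨w, rfl⟩ := K609.Points.surjective_ofPt_of_repWith_surjective hp' x
  have h3 : w ∈ closure (Points.ofPt p ⁻¹' M) := by
    rw [← (K609.Points.isOpenMap_ofPt hp).preimage_closure_eq_closure_preimage (Points.continuous_ofPt p)]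
    exact hx
  have h4 := key_scheme (M := Points.ofPt p ⁻¹' M) hN (h1 _ p) (h2 _ p) (hI1 _ p) (hI2 _ p) (he1 p) (he2 p)
    (by rw [← preimage_V]; exact Set.preimage_mono hK)
    (by rw [← preimage_V]; exact hM1.preimage _) (by rw [← preimage_V]; exact hM2.preimage _)
  exact Set.disjoint_left.1 h4 h3 ((mem_V_iff D₁ p w).1 hx')

theorem mul_comm' (A B : Fam P) : K647.FamOps.mul A B = K647.FamOps.mul B A := by
  ext T g : 3
  rw [K647.FamOps.mul_I, K647.FamOps.mul_I, mul_comm]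

/-- The key lemma, both conclusions. -/
theorem key' (hP : IsAlgSpace P) {M : Set (Points P)} {D₁ D₂ I₁ I₂ K : Fam P} {N : ℕ} (hN : N ≠ 0)
    (h1 : K594.FamOps.pow (K647.FamOps.mul D₁ D₂) N ≤ K594.FamOps.sup I₁ K)
    (h2 : K594.FamOps.pow (K647.FamOps.mul D₁ D₂) N ≤ K594.FamOps.sup I₂ K)
    (hI1 : I₁ ≤ K594.FamOps.pow D₁ (3 * N)) (hI2 : I₂ ≤ K594.FamOps.pow D₂ (3 * N))
    (he1 : LP (K594.FamOps.pow D₁ (3 * N))) (he2 : LP (K594.FamOps.pow D₂ (3 * N))) (hK : M ⊆ V K)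
    (hM1 : Disjoint M (V D₁)) (hM2 : Disjoint M (V D₂)) :
    Disjoint (closure M) (V D₁ ∪ V D₂) := by
  rw [Set.disjoint_union_right]
  refine ⟨key hP hN h1 h2 hI1 hI2 he1 he2 hK hM1 hM2, key hP hN ?_ ?_ hI2 hI1 he2 he1 hK hM2 hM1⟩
  · rwa [mul_comm']
  · rwa [mul_comm']

end space

end K637.NagKey
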