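import Groth.Agent.AlgSp.K637.NagGlue
import Groth.Agent.S10762
import Groth.Agent.AlgSp.K647.T3

/-!
# Nagata compactification: the complement of an open subspace becomes proper

`Aff B`: every affine scheme separated of finite type over `B` is compactifiable over `B`.
`partial_of_aff : Noe B → Aff B → K619.NagNoe.Partial B`.
-/

set_option autoImplicit false
universe u
open CategoryTheory CategoryTheory.Limits AlgebraicGeometry Opposite TopologicalSpace

namespace K637.NagMain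

open AlgSp K598.RepKit K598.ClFam K619.NagKit K637.NagPair K637.NagElem K637.NagCover K637.NagGlue

variable {S : Scheme.{u}} {B X U Y : Sp S} {V : Over S}

theorem mem_closure_iff {V₀ Vb : Sp S} (hVb : IsAlgSpace Vb) {j : V₀ ⟶ Vb} (hj : RepWith @IsOpenImmersion j)
    {T₀ : Set (Points V₀)} (hT : IsClosed T₀) (t : Points V₀) :
    Points.map j t ∈ closure (Points.map j '' T₀) ↔ t ∈ T₀ := by
  have he := K610.OpenImm.isOpenEmbedding_points hVb hj
  have h1 : t ∈ Points.map j ⁻¹' closure (Points.map j '' T₀) ↔ t ∈ T₀ := by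
    rw [he.isOpenMap.preimage_closure_eq_closure_preimage (Points.continuous_map _),
      Set.preimage_image_eq _ he.injective, hT.closure_eq]
  exact h1

/-- The dilatation with all its properties. -/
theorem exists_Y [QuasiSeparatedSpace ↥S] {Vb : Sp S} (hB : Noe B) (hVb : IsAlgSpace Vb) {g : Vb ⟶ B}
    (hg : IsProperMor g) {j : (yon S).obj V ⟶ Vb} (hj : RepWith @IsOpenImmersion j) {f₀ : (yon S).obj V ⟶ B}
    (hf : j ≫ g = f₀) {D I : Fam Vb} (hD : NagKey.V D = (Set.range (Points.map j))ᶜ) (hFT : K647.FamOps.FT D)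
    {T₀ : Set (Points ((yon S).obj V))} (hT : IsClosed T₀) (hI : NagKey.V I = closure (Points.map j '' T₀))
    {n : ℕ} (hn : n ≠ 0) :
    ∃ (Y : Dil ⟨Vb, (yon S).obj V, g, j, f₀, hf, hVb, hj, D, I, hD, hFT⟩ n) (Z₀ : Sp S) (k : Z₀ ⟶ Y.Y),
      SFT Y.gY ∧ RepWith @IsClosedImmersion k ∧ IsProperMor (k ≫ Y.gY) ∧
      ∀ t : Points ((yon S).obj V), Points.map Y.jY t ∈ Set.range (Points.map k) ↔ t ∈ T₀ := by
  have hVbn : Noe Vb := Noe.of_sft hVb hB (sft_of_proper hg)
  have hjinj := points_injective_of_open hj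
  have hTI : Points.map j '' T₀ ⊆ NagKey.V I := by
    rw [hI]
    exact subset_closure
  have hTD : Disjoint (Points.map j '' T₀) (NagKey.V D) := by
    rw [hD, Set.disjoint_left]
    rintro _ ⟨t, -, rfl⟩ h
    exact h ⟨t, rfl⟩
  obtain ⟨Yp, b, Y, y, hYp, hb, hY, hy, hLP, hle, h1, h2⟩ := NagDil.exists_dil hVb D I hn hTI hTD
  have hbp : IsProperMor b := NagDil.isProperMor_of_isBlowUpSp hVb hYp hb (NagNoeth.FT_of_isLocNoethSp hVbn.ln _)
  have hYpn : Noe Yp := Noe.of_sft hYp hVbn (sft_of_proper hbp)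
  obtain ⟨c, hc⟩ := NagDil.exists_section hVb hYp hb (K610.OpenImm.repWith_etale_of_open hj) (by
    rw [NagKey.V_sup, NagKey.V_pow _ hn, hD, Set.disjoint_left]
    rintro x hx ⟨-, hx'⟩
    exact hx' hx)
  have hco : RepWith @IsOpenImmersion c := repWith_of_isPullback hc.flip hj
  have hcb : c ≫ b = j := by rw [hc.w, Category.id_comp]
  have hbc : ∀ t, Points.map b (Points.map c t) = Points.map j t := fun t => by
    rw [← Points.map_comp, hcb]
  have hcr : ∀ x : Points Yp, Points.map b x ∈ Set.range (Points.map j) → x ∈ Set.range (Points.map c) :=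
    fun x hx => range_of_isPullback' hc.flip hx
  have hcinj := points_injective_of_open hco
  have hyinj := points_injective_of_open hy
  have hmy : Mono y := mono_of_repWith_isOpenImmersion hy
  obtain ⟨jY, hjY⟩ := (K610.Factor.factors_open_iff hy c).2 (by
    rintro _ ⟨t, rfl⟩
    refine h1 _ ?_
    rw [hbc, hD]
    exact fun h => h ⟨t, rfl⟩)
  have hjYo : RepWith @IsOpenImmersion jY := rep_of_comp_mono (by rw [hjY]; exact hco)
  have hyj : ∀ t, Points.map y (Points.map jY t) = Points.map c t := fun t => by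
    rw [← Points.map_comp, hjY]
  have hybg : SFT ((y ≫ b) ≫ g) := by
    rw [Category.assoc]
    exact SFT.comp hY hYp hB.alg (sft_of_open hy hYpn) (SFT.comp hYp hVb hB.alg (sft_of_proper hbp) (sft_of_proper hg))
  obtain ⟨Z₀, z, hZ₀, hz⟩ := K598.Red.exists_isRedInduced hYp (closure (Points.map b ⁻¹' (Points.map j '' T₀)))
    isClosed_closure
  obtain ⟨k, hk⟩ := (K610.Factor.factors_open_iff hy z).2 (by rw [hz.2.1]; exact h2)
  have hbT : Points.map b ⁻¹' (Points.map j '' T₀) = Points.map c '' T₀ := by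
    ext x
    constructor
    · rintro ⟨t, ht, hx⟩
      obtain ⟨t', rfl⟩ := hcr x ⟨t, hx⟩
      rw [hbc] at hx
      rw [← hjinj hx]
      exact ⟨t, ht, rfl⟩
    · rintro ⟨t, ht, rfl⟩
      exact ⟨t, ht, (hbc t).symm⟩
  let Y' : Dil ⟨Vb, (yon S).obj V, g, j, f₀, hf, hVb, hj, D, I, hD, hFT⟩ n :=
    { Y := Y
      π := y ≫ b
      gY := (y ≫ b) ≫ g
      jY := jY
      hg := rfl
      hY := hY
      hjY := hjYo
      w := by
        change jY ≫ y ≫ b = j
        rw [← Category.assoc, hjY, hcb]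
      hr := by
        change Set.range (Points.map jY) = Points.map (y ≫ b) ⁻¹' Set.range (Points.map j)
        ext x
        constructor
        · rintro ⟨t, rfl⟩
          refine ⟨t, ?_⟩
          rw [Points.map_comp y b, hyj, hbc]
        · intro hx
          rw [Set.mem_preimage, Points.map_comp] at hx
          obtain ⟨t, ht⟩ := hcr _ hx
          refine ⟨t, hyinj ?_⟩
          rw [hyj, ht]
      hLP := hLP
      hle := hle }
  refine ⟨Y', Z₀, k, hybg, rep_of_comp_mono (by rw [hk]; exact hz.1), ?_, fun t => ?_⟩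
  · change IsProperMor (k ≫ (y ≫ b) ≫ g)
    have e : k ≫ (y ≫ b) ≫ g = z ≫ b ≫ g := by rw [Category.assoc, ← Category.assoc, hk]
    rw [e]
    exact K597.ProperSub.isProperMor_comp hZ₀ hYp hB.alg (K597.ProperSub.isProperMor_of_closed hYp hz.1)
      (K597.ProperSub.isProperMor_comp hYp hVb hB.alg hbp hg)
  · change Points.map jY t ∈ Set.range (Points.map k) ↔ t ∈ T₀
    rw [← mem_closure_iff hYp hco hT t, ← hbT, ← hz.2.1]
    constructor
    · rintro ⟨s, hs⟩
      refine ⟨s, ?_⟩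
      rw [← hyj, ← hs, ← Points.map_comp, hk]
    · rintro ⟨s, hs⟩
      refine ⟨s, hyinj ?_⟩
      rw [hyj, ← Points.map_comp, hk, hs]

theorem main [QuasiSeparatedSpace ↥S] (hB : Noe B) (hX : IsAlgSpace X) {f : X ⟶ B} (hf : SFT f) {u : U ⟶ X}
    {v : (yon S).obj V ⟶ X} (hsq : IsElemDistSq u v) (hC : K619.NagMain.Comp (v ≫ f)) :
    ∃ (Y Z : Sp S) (g : Y ⟶ B) (x : X ⟶ Y) (z : Z ⟶ Y), IsAlgSpace Y ∧ SFT g ∧ RepWith @IsOpenImmersion x ∧
      RepWith @IsClosedImmersion z ∧ IsProperMor (z ≫ g) ∧ x ≫ g = f ∧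
      Set.range (Points.map u) = Points.map x ⁻¹' (Set.range (Points.map z))ᶜ := by
  obtain ⟨Vb, jb, g, hVb, hjb, hg, hw⟩ := hC
  have hV : IsAlgSpace ((yon S).obj V) := IsAlgSpace.yon_obj V
  have hXn : Noe X := Noe.of_sft hX hB hf
  have hUn : Noe U := noe_of_open hsq.1 hXn
  have hVbn : Noe Vb := Noe.of_sft hVb hB (sft_of_proper hg)
  have hvR : RepWith @Etale v := by
    have := hsq.2.1 (𝟙 _) (repWith_id _ _)
    rwa [Category.id_comp] at this
  have hvs : IsSeparatedMor v := K597.ProperCancel.isSeparatedMor_of_comp (g := f)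
    (by rw [← hw]; exact sep_comp (sep_of_open hjb) hg.1)
  have huo : IsOpen (Set.range (Points.map u)) := (K610.OpenImm.isOpenEmbedding_points hX hsq.1).isOpen_range
  have hjo : IsOpen (Set.range (Points.map jb)) := (K610.OpenImm.isOpenEmbedding_points hVb hjb).isOpen_range
  let T₀ : Set (Points ((yon S).obj V)) := Points.map v ⁻¹' (Set.range (Points.map u))ᶜ
  have hT : IsClosed T₀ := huo.isClosed_compl.preimage (Points.continuous_map v)
  -- the ideals
  obtain ⟨D, hD₀⟩ := K598.Red.exists_redFam hVb ⟨(Set.range (Points.map jb))ᶜ, hjo.isClosed_compl⟩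
  have hD : NagKey.V D = (Set.range (Points.map jb))ᶜ := (K598.Red.isRedInduced_of_fam hVb _ D hD₀).2.1
  obtain ⟨I, hI₀⟩ := K598.Red.exists_redFam hVb ⟨closure (Points.map jb '' T₀), isClosed_closure⟩
  have hI : NagKey.V I = closure (Points.map jb '' T₀) := (K598.Red.isRedInduced_of_fam hVb _ I hI₀).2.1
  have hFT : K647.FamOps.FT D := NagNoeth.FT_of_isLocNoethSp hVbn.ln D
  let E : Pre B := ⟨Vb, (yon S).obj V, g, jb, v ≫ f, hw, hVb, hjb, D, I, hD, hFT⟩
  have hmem : ∀ t : Points ((yon S).obj V), Points.map jb t ∈ NagKey.V I ↔ t ∈ T₀ := fun t => by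
    rw [hI]
    exact mem_closure_iff hVb hjb hT t
  -- first pair
  have hp1 : ∃ N₀ : ℕ, ∀ N, N₀ ≤ N → ∀ (Y₁ : Dil (triv hUn.alg (u ≫ f)) (3 * N)) (Y₂ : Dil E (3 * N))
      (c : pullback u v ⟶ pullback Y₁.gY Y₂.gY), c ≫ pullback.fst _ _ = (desc u v f ≫ pullback.fst _ _) ≫ Y₁.jY →
      c ≫ pullback.snd _ _ = (desc u v f ≫ pullback.snd _ _) ≫ Y₂.jY → RepWith @IsClosedImmersion c := by
    have hm : RepWith @IsClosedImmersion (desc u v f) := desc_closed u v hf.sep
    refine @NagPair.isClosedImmersion' S B (triv hUn.alg (u ≫ f)) E (pullback u v) (desc u v f) hB.alg ?_ hm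
      ⟨fun z => ?_, fun z => ?_⟩
    · exact hg.2.1.2 hUn.alg hUn.qc (u ≫ f) _ _ (IsPullback.of_hasPullback (u ≫ f) g).flip
    · change _ ∉ NagKey.V (topF U)
      rw [V_topF]
      exact id
    · change Points.map ((desc u v f ≫ pullback.snd (u ≫ f) (v ≫ f)) ≫ jb) z ∉ NagKey.V I
      rw [desc_snd, Points.map_comp, hmem]
      intro h
      refine h ⟨Points.map (pullback.fst u v) z, ?_⟩
      rw [← Points.map_comp, ← Points.map_comp, pullback.condition]
  -- second pair
  obtain ⟨R, r, hR, hrc, hro, hr⟩ := exists_offdiag hV hX hsq.2.1 hvs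
  have hp2 : ∃ N₀ : ℕ, ∀ N, N₀ ≤ N → ∀ (Y₁ : Dil E (3 * N)) (Y₂ : Dil E (3 * N))
      (c : R ⟶ pullback Y₁.gY Y₂.gY), c ≫ pullback.fst _ _ = ((r ≫ desc v v f) ≫ pullback.fst _ _) ≫ Y₁.jY →
      c ≫ pullback.snd _ _ = ((r ≫ desc v v f) ≫ pullback.snd _ _) ≫ Y₂.jY → RepWith @IsClosedImmersion c := by
    have hz0 : ∀ z : Points R, Points.map v (Points.map (pullback.fst v v) (Points.map r z)) ∈
        Set.range (Points.map u) := by
      intro z
      by_contra h
      have h1 := mem_range_diagonal hV hsq h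
      have h2 : Points.map r z ∈ Set.range (Points.map r) := ⟨z, rfl⟩
      rw [hr] at h2
      exact h2 h1
    have hm : RepWith @IsClosedImmersion (r ≫ desc v v f) := closed_comp hrc (desc_closed v v hf.sep)
    refine @NagPair.isClosedImmersion' S B E E R (r ≫ desc v v f) hB.alg ?_ hm ⟨fun z => ?_, fun z => ?_⟩
    · exact hg.2.1.2 hVb hVbn.qc g _ _ (IsPullback.of_hasPullback g g).flip
    · change Points.map (((r ≫ desc v v f) ≫ pullback.fst (v ≫ f) (v ≫ f)) ≫ jb) z ∉ NagKey.V I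
      rw [Category.assoc r, desc_fst, Points.map_comp, hmem]
      intro h
      refine h ?_
      rw [Points.map_comp]
      exact hz0 z
    · change Points.map (((r ≫ desc v v f) ≫ pullback.snd (v ≫ f) (v ≫ f)) ≫ jb) z ∉ NagKey.V I
      rw [Category.assoc r, desc_snd, Points.map_comp, hmem]
      intro h
      refine h ?_
      rw [← Points.map_comp, Category.assoc, ← pullback.condition, Points.map_comp, Points.map_comp]
      exact hz0 z
  obtain ⟨N₁, hN₁⟩ := hp1
  obtain ⟨N₂, hN₂⟩ := hp2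
  let N := max (max N₁ N₂) 1
  have hN1 : N₁ ≤ N := (le_max_left _ _).trans (le_max_left _ _)
  have hN2 : N₂ ≤ N := (le_max_right _ _).trans (le_max_left _ _)
  have hN3 : 3 * N ≠ 0 := by
    have : 1 ≤ N := le_max_right _ _
    omega
  obtain ⟨Y, Z₀, k, hY1, hk1, hk2, hk3⟩ := exists_Y hB hVb hg hjb hw hD hFT hT hI hN3
  let c₀ : pullback u v ⟶ pullback (u ≫ f) Y.gY := pullback.lift (pullback.fst u v) (pullback.snd u v ≫ Y.jY) (by
    have h1 : Y.jY ≫ Y.gY = v ≫ f := Y.jg
    rw [Category.assoc, h1, ← Category.assoc, pullback.condition, Category.assoc])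
  have h01 : c₀ ≫ pullback.fst _ _ = pullback.fst u v := pullback.lift_fst _ _ _
  have h02 : c₀ ≫ pullback.snd _ _ = pullback.snd u v ≫ Y.jY := pullback.lift_snd _ _ _
  let d₀ : R ⟶ pullback Y.gY Y.gY := pullback.lift ((r ≫ pullback.fst v v) ≫ Y.jY) ((r ≫ pullback.snd v v) ≫ Y.jY) (by
    have h1 : Y.jY ≫ Y.gY = v ≫ f := Y.jg
    simp only [Category.assoc, h1]
    rw [pullback.condition_assoc])
  have h11 : d₀ ≫ pullback.fst _ _ = (r ≫ pullback.fst v v) ≫ Y.jY := pullback.lift_fst _ _ _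
  have h12 : d₀ ≫ pullback.snd _ _ = (r ≫ pullback.snd v v) ≫ Y.jY := pullback.lift_snd _ _ _
  have c1 : RepWith @IsClosedImmersion c₀ := by
    refine hN₁ N hN1 (trivDil hUn.alg (u ≫ f) (3 * N)) Y c₀ ?_ ?_
    · rw [h01, desc_fst]
      exact (Category.comp_id _).symm
    · rw [h02, desc_snd]
  have q1 : (r ≫ desc v v f) ≫ pullback.fst (v ≫ f) (v ≫ f) = r ≫ pullback.fst v v := by
    rw [Category.assoc, desc_fst]
  have q2 : (r ≫ desc v v f) ≫ pullback.snd (v ≫ f) (v ≫ f) = r ≫ pullback.snd v v := by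
    rw [Category.assoc, desc_snd]
  have c2 : RepWith @IsClosedImmersion d₀ := by
    refine hN₂ N hN2 Y Y d₀ ?_ ?_
    · rw [h11, q1]
    · rw [h12, q2]
  obtain ⟨W, fo, x, y, hW, hfo, hx, hxf, hyf, hpb⟩ := glue (B := B) (R := R) (r := r) (Y := Y.Y) (jY := Y.jY)
    (v := v) (u := u) hB.alg hX hV Y.hY hf hY1 hsq Y.jg Y.hjY h01 h02 c1 hro hr h11 h12 c2 hvR
  obtain ⟨-, ⟨Z, hZ⟩, z, hz1, hz2, hz3⟩ := Groth.Agent.S10762.result (X := ⟨Y.Y, Y.hY⟩) (Y := ⟨W, hW⟩)
    (B := ⟨B, hB.alg⟩) (Z := ⟨Z₀, isAlgSpace_of_repWith_isClosedImmersion hk1 Y.hY⟩) (ObjectProperty.homMk Y.gY)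
    (ObjectProperty.homMk fo) (ObjectProperty.homMk y) (ObjectProperty.hom_ext _ hyf) hY1.ft.1 hfo.ft.1 hfo.sep
    (ObjectProperty.homMk k) hk1 hk2
  refine ⟨W, Z, fo, x, z.hom, hW, hfo, hx, hz1, hz3, hxf, ?_⟩
  have hz2' : Set.range (Points.map z.hom) = Points.map y '' Set.range (Points.map k) := hz2
  rw [hz2']
  ext s
  constructor
  · rintro hs ⟨_, ⟨q, rfl⟩, hq⟩
    obtain ⟨p, hp1, hp2⟩ := K609.Points.exists_of_isPullback hpb _ _ hq
    have h1 : p ∈ T₀ := (hk3 p).1 ⟨q, hp1.symm⟩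
    refine h1 ?_
    rw [hp2]
    exact hs
  · intro hs
    by_contra h
    rcases js_of_isElemDistSq hsq s with h1 | ⟨t, rfl⟩
    · exact h h1
    · refine hs ?_
      have h2 : Points.map Y.jY t ∈ Set.range (Points.map k) := (hk3 t).2 h
      refine ⟨_, h2, ?_⟩
      rw [← Points.map_comp, hpb.w, Points.map_comp]

/-- Elementary distinguished squares and isomorphisms of the etale corner. -/
theorem isElemDistSq_of_iso {V₁ V₂ : Sp S} {u : U ⟶ X} {v : V₁ ⟶ X} (h : IsElemDistSq u v) (e : V₂ ≅ V₁) :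
    IsElemDistSq u (e.hom ≫ v) := by
  obtain ⟨h1, h2, T, P, i, p₁, p₂, hi, sq, hiso⟩ := h
  refine ⟨h1, fun W φ hφ => ?_, T, P, i, p₁, p₂ ≫ e.inv, hi, ?_, hiso⟩
  · rw [← Category.assoc]
    exact h2 _ (MorphismProperty.comp_mem _ _ _ hφ (repWith_of_isIso _))
  · refine IsPullback.of_iso sq (Iso.refl _) (Iso.refl _) e.symm (Iso.refl _) ?_ ?_ ?_ ?_
    · simp
    · simp
    · simp
    · simp

variable (S) in
/-- `h_S` is terminal. -/
noncomputable def isTerminalYon : IsTerminal ((yon S).obj (Over.mk (𝟙 S))) :=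
  IsTerminal.isTerminalObj (yon S) _ Over.mkIdTerminal

/-- a morphism from an affine scheme is separated -/
theorem isSeparatedMor_of_isAffine [IsAffine V.left] (h : (yon S).obj V ⟶ B) : IsSeparatedMor h := by
  refine K597.ProperCancel.isSeparatedMor_of_comp (g := (isTerminalYon S).from B) ?_
  have e : h ≫ (isTerminalYon S).from B = (yon S).map (Over.homMk V.hom (Category.comp_id _)) :=
    (isTerminalYon S).hom_ext _ _
  rw [e, isSeparatedMor_yon_map_iff]
  change IsSeparated V.hom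
  exact IsSeparated.of_comp V.hom (terminal.from S)

/-- Affine schemes of finite type over `B` are compactifiable. -/
def Aff (B : Sp S) : Prop :=
  ∀ ⦃V : Over S⦄, IsAffine V.left → ∀ h : (yon S).obj V ⟶ B, SFT h → K619.NagMain.Comp h

/-- The input `Partial` of the compactification theorem. -/
theorem partial_of_aff [QuasiSeparatedSpace ↥S] (hB : Noe B) (H : Aff B) : K619.NagMain.Partial B := by
  rintro X U V j φ f hX hf ⟨T, hT, ⟨e⟩⟩ hsq
  have hsq' := isElemDistSq_of_iso hsq e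
  have hTa : IsAlgSpace ((yon S).obj T) := IsAlgSpace.yon_obj T
  refine main hB hX hf hsq' (H hT _ ⟨isSeparatedMor_of_isAffine _, ?_, ?_⟩)
  · refine K597.locP_comp K597.etLoc_lft hTa.hasAtlas hX.hasAtlas hB.alg.hasAtlas ?_ hf.ft.1
    exact K597.locP_mono (P := @Etale) (Q := @LocallyOfFiniteType)
      (fun _ _ f (h : Etale f) => (inferInstance : LocallyOfFiniteType f)) (K597.locP_etale_of_isEtaleMor hsq'.2.1)
  · exact K596.QC2.isQuasiCompactMor_of_qc_of_qs hTa hB.alg _ (K596.QC.isQuasiCompactSp_yon T) hB.qs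

/-- **Nagata compactification over a Noetherian algebraic space**, from the affine case. -/
theorem nagata_noe [QuasiSeparatedSpace ↥S] (hB : Noe B) (H : Aff B) (hX : IsAlgSpace X) {f : X ⟶ B} (hf : SFT f) :
    K619.NagMain.Comp f :=
  K619.NagMain.nagata_noe K647.T3.t3 K647.T3.blEx (partial_of_aff hB H) hB hX hf

end K637.NagMain
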