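import Groth.Agent.AlgSp.K637.NagDil
import Groth.Agent.AlgSp.K637.NagCover

/-!
# Pairs of dilatations (Nagata compactification)

`Pre B`: an algebraic space `Vb` over `B`, an open subspace `V₀`, families of ideals `D`, `I` on `Vb` with `V(D)` the
complement of `V₀`.  `Dil E n`: `π : Y ⟶ Vb`, an isomorphism over `V₀`, with `D^n` locally principal on `Y` and `I ≤ D^n`.
For `E₁ E₂ : Pre B` and a closed immersion `m : M ⟶ V₁ ×_B V₂` which avoids `V(I₁)`, `V(I₂)`: for large `N` and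
`n = 3 N` the morphism `M ⟶ Y₁ ×_B Y₂` is a closed immersion (`isClosedImmersion`).
-/

set_option autoImplicit false
universe u
open CategoryTheory CategoryTheory.Limits AlgebraicGeometry Opposite TopologicalSpace
open AlgSp K598.Site K598.RepKit K598.ClFam K598.Charts

namespace K637.NagPair

open K637.NagKey

variable {S : Scheme.{u}} {B : Sp S}

section range

variable {X₁ X₂ Y₁ Y₂ Z : Sp S} {j₁ : X₁ ⟶ Y₁} {j₂ : X₂ ⟶ Y₂} {g₁ : Y₁ ⟶ Z} {g₂ : Y₂ ⟶ Z} {f₁ : X₁ ⟶ Z} {f₂ : X₂ ⟶ Z}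

/-- the morphism of fibre products -/
noncomputable abbrev pm (h₁ : j₁ ≫ g₁ = f₁) (h₂ : j₂ ≫ g₂ = f₂) : pullback f₁ f₂ ⟶ pullback g₁ g₂ :=
  pullback.map f₁ f₂ g₁ g₂ j₁ j₂ (𝟙 Z) (by rw [Category.comp_id, h₁]) (by rw [Category.comp_id, h₂])

theorem pm_fst (h₁ : j₁ ≫ g₁ = f₁) (h₂ : j₂ ≫ g₂ = f₂) :
    pm h₁ h₂ ≫ pullback.fst g₁ g₂ = pullback.fst f₁ f₂ ≫ j₁ := pullback.lift_fst _ _ _

theorem pm_snd (h₁ : j₁ ≫ g₁ = f₁) (h₂ : j₂ ≫ g₂ = f₂) :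
    pm h₁ h₂ ≫ pullback.snd g₁ g₂ = pullback.snd f₁ f₂ ≫ j₂ := pullback.lift_snd _ _ _

theorem mem_range_pm (hj₁ : RepWith @IsOpenImmersion j₁) (hj₂ : RepWith @IsOpenImmersion j₂)
    (h₁ : j₁ ≫ g₁ = f₁) (h₂ : j₂ ≫ g₂ = f₂) {x : Points (pullback g₁ g₂)}
    (hx₁ : Points.map (pullback.fst g₁ g₂) x ∈ Set.range (Points.map j₁))
    (hx₂ : Points.map (pullback.snd g₁ g₂) x ∈ Set.range (Points.map j₂)) :
    x ∈ Set.range (Points.map (pm h₁ h₂)) := by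
  obtain ⟨K, _, str, g, hg⟩ := K609.Points.exists_field_ofPt x
  obtain ⟨a₁, ha₁⟩ := K610.Factor.exists_lift_open hj₁ (g ≫ pullback.fst g₁ g₂) (by
    rintro _ ⟨t, rfl⟩
    rw [← Points.map_ofPt, hg]
    exact hx₁)
  obtain ⟨a₂, ha₂⟩ := K610.Factor.exists_lift_open hj₂ (g ≫ pullback.snd g₁ g₂) (by
    rintro _ ⟨t, rfl⟩
    rw [← Points.map_ofPt, hg]
    exact hx₂)
  have hw : a₁ ≫ f₁ = a₂ ≫ f₂ := by
    rw [← h₁, ← h₂, ← Category.assoc, ha₁, ← Category.assoc, ha₂, Category.assoc, Category.assoc, pullback.condition]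
  have e : pullback.lift a₁ a₂ hw ≫ pm h₁ h₂ = g := by
    apply pullback.hom_ext
    · rw [Category.assoc, pm_fst, pullback.lift_fst_assoc, ha₁]
    · rw [Category.assoc, pm_snd, pullback.lift_snd_assoc, ha₂]
  have t : ↥(Over.mk str : Over S).left := IsLocalRing.closedPoint K
  refine ⟨Points.ofPt (pullback.lift a₁ a₂ hw) t, ?_⟩
  rw [Points.map_ofPt, e, hg]

theorem isOpenImmersion_pm (hj₁ : RepWith @IsOpenImmersion j₁) (hj₂ : RepWith @IsOpenImmersion j₂)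
    (h₁ : j₁ ≫ g₁ = f₁) (h₂ : j₂ ≫ g₂ = f₂) : RepWith @IsOpenImmersion (pm h₁ h₂) :=
  MorphismProperty.pullbackMap (P := RepWith @IsOpenImmersion) hj₁ hj₂ h₁.symm h₂.symm

end range

/-- A space over `B` with an open subspace and two families of ideals. -/
structure Pre (B : Sp S) where
  Vb : Sp S
  V₀ : Sp S
  g : Vb ⟶ B
  j : V₀ ⟶ Vb
  f₀ : V₀ ⟶ B
  hf : j ≫ g = f₀
  hVb : IsAlgSpace Vb
  hj : RepWith @IsOpenImmersion j
  D : Fam Vb
  I : Fam Vb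
  hD : V D = (Set.range (Points.map j))ᶜ
  hFT : K647.FamOps.FT D

/-- A dilatation. -/
structure Dil (E : Pre B) (n : ℕ) where
  Y : Sp S
  π : Y ⟶ E.Vb
  gY : Y ⟶ B
  jY : E.V₀ ⟶ Y
  hg : π ≫ E.g = gY
  hY : IsAlgSpace Y
  hjY : RepWith @IsOpenImmersion jY
  w : jY ≫ π = E.j
  hr : Set.range (Points.map jY) = Points.map π ⁻¹' Set.range (Points.map E.j)
  hLP : LP (K594.FamOps.pull π (K594.FamOps.pow E.D n))
  hle : K594.FamOps.pull π E.I ≤ K594.FamOps.pull π (K594.FamOps.pow E.D n)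

variable (E₁ E₂ : Pre B) (hB : IsAlgSpace B)

/-- `Vb₁ ×_B Vb₂` -/
noncomputable abbrev Pb : Sp S := pullback E₁.g E₂.g

/-- `V₁ ×_B V₂` -/
noncomputable abbrev P₀ : Sp S := pullback E₁.f₀ E₂.f₀

/-- the open immersion -/
noncomputable abbrev κ : P₀ E₁ E₂ ⟶ Pb E₁ E₂ := pm E₁.hf E₂.hf

/-- the ideals on the product -/
noncomputable def D₁' : Fam (Pb E₁ E₂) := K594.FamOps.pull (pullback.fst _ _) E₁.D
noncomputable def D₂' : Fam (Pb E₁ E₂) := K594.FamOps.pull (pullback.snd _ _) E₂.D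
noncomputable def I₁' : Fam (Pb E₁ E₂) := K594.FamOps.pull (pullback.fst _ _) E₁.I
noncomputable def I₂' : Fam (Pb E₁ E₂) := K594.FamOps.pull (pullback.snd _ _) E₂.I

variable {M : Sp S} (m : M ⟶ P₀ E₁ E₂)

/-- the points of `M` in the product -/
def M₀ : Set (Points (Pb E₁ E₂)) := Set.range (Points.map (m ≫ κ E₁ E₂))

variable {E₁ E₂}

theorem κ_fst : κ E₁ E₂ ≫ pullback.fst _ _ = pullback.fst _ _ ≫ E₁.j := pullback.lift_fst _ _ _
theorem κ_snd : κ E₁ E₂ ≫ pullback.snd _ _ = pullback.snd _ _ ≫ E₂.j := pullback.lift_snd _ _ _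

theorem V_D₁' : V (D₁' E₁ E₂) = Points.map (pullback.fst E₁.g E₂.g) ⁻¹' (Set.range (Points.map E₁.j))ᶜ := by
  rw [D₁', V_pull, E₁.hD]

theorem V_D₂' : V (D₂' E₁ E₂) = Points.map (pullback.snd E₁.g E₂.g) ⁻¹' (Set.range (Points.map E₂.j))ᶜ := by
  rw [D₂', V_pull, E₂.hD]

include hB in
theorem hPb : IsAlgSpace (Pb E₁ E₂) := K613.Chart.isAlgSpace_pullback E₁.hVb E₂.hVb hB _ _

/-- `M` avoids the ideals `I₁`, `I₂` -/
structure Avoid (m : M ⟶ P₀ E₁ E₂) : Prop where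
  a₁ : ∀ z : Points M, Points.map ((m ≫ pullback.fst _ _) ≫ E₁.j) z ∉ V E₁.I
  a₂ : ∀ z : Points M, Points.map ((m ≫ pullback.snd _ _) ≫ E₂.j) z ∉ V E₂.I

include hB in
theorem closure_subset (hm : IsClosedMap (Points.map m)) :
    closure (M₀ E₁ E₂ m) ⊆ M₀ E₁ E₂ m ∪ (V (D₁' E₁ E₂) ∪ V (D₂' E₁ E₂)) := by
  intro x hx
  by_cases h : x ∈ V (D₁' E₁ E₂) ∪ V (D₂' E₁ E₂)
  · exact Or.inr h
  · left
    rw [Set.mem_union, not_or, V_D₁', V_D₂', Set.mem_preimage, Set.mem_preimage, Set.mem_compl_iff,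
      Set.mem_compl_iff, not_not, not_not] at h
    have hκ := isOpenImmersion_pm (g₁ := E₁.g) (g₂ := E₂.g) E₁.hj E₂.hj E₁.hf E₂.hf
    have he := K610.OpenImm.isOpenEmbedding_points (hPb hB) hκ
    obtain ⟨y, rfl⟩ := mem_range_pm (g₁ := E₁.g) (g₂ := E₂.g) E₁.hj E₂.hj E₁.hf E₂.hf h.1 h.2
    have h1 : y ∈ Points.map (κ E₁ E₂) ⁻¹' closure (M₀ E₁ E₂ m) := hx
    have h2 : M₀ E₁ E₂ m = Points.map (κ E₁ E₂) '' Set.range (Points.map m) := by
      rw [M₀, NagCover.map_comp', Set.range_comp]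
    rw [h2] at h1 ⊢
    rw [he.isOpenMap.preimage_closure_eq_closure_preimage (Points.continuous_map _),
      Set.preimage_image_eq _ he.injective, hm.isClosed_range.closure_eq] at h1
    exact ⟨y, h1, rfl⟩

/-- the exponent -/
theorem exists_N (hB : IsAlgSpace B) (hq : IsQuasiCompactSp (Pb E₁ E₂)) (hm : IsClosedMap (Points.map m))
    (ha : Avoid m) :
    ∃ (K : Fam (Pb E₁ E₂)) (N₀ : ℕ), V K = closure (M₀ E₁ E₂ m) ∧ ∀ N, N₀ ≤ N →
      K594.FamOps.pow (K647.FamOps.mul (D₁' E₁ E₂) (D₂' E₁ E₂)) N ≤ K594.FamOps.sup (I₁' E₁ E₂) K ∧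
      K594.FamOps.pow (K647.FamOps.mul (D₁' E₁ E₂) (D₂' E₁ E₂)) N ≤ K594.FamOps.sup (I₂' E₁ E₂) K := by
  obtain ⟨K, hK⟩ := K598.Red.exists_redFam (hPb (E₁ := E₁) (E₂ := E₂) hB) ⟨closure (M₀ E₁ E₂ m), isClosed_closure⟩
  have hVK : V K = closure (M₀ E₁ E₂ m) := (K598.Red.isRedInduced_of_fam (hPb hB) _ K hK).2.1
  have hD : K647.FamOps.FT (K647.FamOps.mul (D₁' E₁ E₂) (D₂' E₁ E₂)) :=
    (E₁.hFT.pull (pullback.fst _ _)).mul (E₂.hFT.pull (pullback.snd _ _))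
  have key : ∀ (I : Fam (Pb E₁ E₂)), Disjoint (M₀ E₁ E₂ m) (V I) →
      ∃ N : ℕ, ∀ k, N ≤ k → K594.FamOps.pow (K647.FamOps.mul (D₁' E₁ E₂) (D₂' E₁ E₂)) k ≤ K594.FamOps.sup I K := by
    intro I hI
    refine exists_pow_le hq hD ?_
    rw [V_sup, V_mul, hVK]
    rintro x ⟨hx, hx'⟩
    rcases closure_subset hB m hm hx' with h | h
    · exact (Set.disjoint_left.1 hI h hx).elim
    · exact h
  obtain ⟨N₁, h₁⟩ := key (I₁' E₁ E₂) (by
    rw [Set.disjoint_left]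
    rintro _ ⟨z, rfl⟩ hz
    rw [I₁', V_pull, Set.mem_preimage, ← Points.map_comp, Category.assoc, κ_fst, ← Category.assoc] at hz
    exact ha.a₁ z hz)
  obtain ⟨N₂, h₂⟩ := key (I₂' E₁ E₂) (by
    rw [Set.disjoint_left]
    rintro _ ⟨z, rfl⟩ hz
    rw [I₂', V_pull, Set.mem_preimage, ← Points.map_comp, Category.assoc, κ_snd, ← Category.assoc] at hz
    exact ha.a₂ z hz)
  exact ⟨K, max N₁ N₂, hVK, fun N hN => ⟨h₁ N ((le_max_left _ _).trans hN), h₂ N ((le_max_right _ _).trans hN)⟩⟩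

theorem Dil.jg {E : Pre B} {n : ℕ} (Y : Dil E n) : Y.jY ≫ Y.gY = E.f₀ := by
  rw [← Y.hg, ← Category.assoc, Y.w, E.hf]

/-- `M ⟶ Y₁ ×_B Y₂` -/
noncomputable abbrev toP {n : ℕ} (Y₁ : Dil E₁ n) (Y₂ : Dil E₂ n) :
    P₀ E₁ E₂ ⟶ pullback Y₁.gY Y₂.gY :=
  pm Y₁.jg Y₂.jg

/-- The main result on pairs. -/
theorem isClosedImmersion (hB : IsAlgSpace B) (hq : IsQuasiCompactSp (Pb E₁ E₂)) (hm : RepWith @IsClosedImmersion m)
    (ha : Avoid m) : ∃ N₀ : ℕ, ∀ N, N₀ ≤ N → ∀ (Y₁ : Dil E₁ (3 * N)) (Y₂ : Dil E₂ (3 * N)),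
      RepWith @IsClosedImmersion (m ≫ toP Y₁ Y₂) := by
  have hm' : IsClosedMap (Points.map m) := K596.Univ.isClosedMap_of_repWith
      (K597.repWith_mono (fun _ _ f (_ : IsClosedImmersion f) => (inferInstance : UniversallyClosed f)) hm)
  obtain ⟨K, N₀, hVK, hN₀⟩ := exists_N m hB hq hm' ha
  refine ⟨max N₀ 1, fun N hN Y₁ Y₂ => ?_⟩
  obtain ⟨h1, h2⟩ := hN₀ N ((le_max_left _ _).trans hN)
  have hN1 : N ≠ 0 := by
    have := (le_max_right _ _).trans hN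
    omega
  let P : Sp S := pullback Y₁.gY Y₂.gY
  have hP : IsAlgSpace P := K613.Chart.isAlgSpace_pullback Y₁.hY Y₂.hY hB _ _
  let q : P ⟶ Pb E₁ E₂ := pm Y₁.hg Y₂.hg
  have q1 : q ≫ pullback.fst _ _ = pullback.fst _ _ ≫ Y₁.π := pullback.lift_fst _ _ _
  have q2 : q ≫ pullback.snd _ _ = pullback.snd _ _ ≫ Y₂.π := pullback.lift_snd _ _ _
  have r1 : toP Y₁ Y₂ ≫ pullback.fst _ _ = pullback.fst _ _ ≫ Y₁.jY := pullback.lift_fst _ _ _
  have r2 : toP Y₁ Y₂ ≫ pullback.snd _ _ = pullback.snd _ _ ≫ Y₂.jY := pullback.lift_snd _ _ _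
  have hqκ : toP Y₁ Y₂ ≫ q = κ E₁ E₂ := by
    apply pullback.hom_ext
    · rw [Category.assoc, q1, ← Category.assoc, r1, Category.assoc, Y₁.w, κ_fst]
    · rw [Category.assoc, q2, ← Category.assoc, r2, Category.assoc, Y₂.w, κ_snd]
  have hκ := isOpenImmersion_pm (g₁ := Y₁.gY) (g₂ := Y₂.gY) Y₁.hjY Y₂.hjY Y₁.jg Y₂.jg
  refine NagCover.isClosedImmersion_of_closure hP hm hκ ?_
  -- the ideals on `P`
  have e1 : ∀ A : Fam E₁.Vb, K594.FamOps.pull q (K594.FamOps.pull (pullback.fst _ _) A) =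
      K594.FamOps.pull (pullback.fst _ _) (K594.FamOps.pull Y₁.π A) := by
    intro A
    ext T t : 3
    change A.I ((t ≫ q) ≫ pullback.fst _ _) = A.I ((t ≫ pullback.fst _ _) ≫ Y₁.π)
    rw [Category.assoc, q1, Category.assoc]
  have e2 : ∀ A : Fam E₂.Vb, K594.FamOps.pull q (K594.FamOps.pull (pullback.snd _ _) A) =
      K594.FamOps.pull (pullback.snd _ _) (K594.FamOps.pull Y₂.π A) := by
    intro A
    ext T t : 3
    change A.I ((t ≫ q) ≫ pullback.snd _ _) = A.I ((t ≫ pullback.snd _ _) ≫ Y₂.π)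
    rw [Category.assoc, q2, Category.assoc]
  have hd1 : Disjoint (Set.range (Points.map (m ≫ toP Y₁ Y₂))) (V (K594.FamOps.pull q (D₁' E₁ E₂))) := by
    rw [Set.disjoint_left]
    rintro _ ⟨z, rfl⟩ hz
    rw [V_pull, Set.mem_preimage, ← Points.map_comp, Category.assoc, hqκ, V_D₁', Set.mem_preimage,
      ← Points.map_comp, Category.assoc, κ_fst, ← Category.assoc, Points.map_comp] at hz
    exact hz ⟨_, rfl⟩
  have hd2 : Disjoint (Set.range (Points.map (m ≫ toP Y₁ Y₂))) (V (K594.FamOps.pull q (D₂' E₁ E₂))) := by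
    rw [Set.disjoint_left]
    rintro _ ⟨z, rfl⟩ hz
    rw [V_pull, Set.mem_preimage, ← Points.map_comp, Category.assoc, hqκ, V_D₂', Set.mem_preimage,
      ← Points.map_comp, Category.assoc, κ_snd, ← Category.assoc, Points.map_comp] at hz
    exact hz ⟨_, rfl⟩
  have hMK : Set.range (Points.map (m ≫ toP Y₁ Y₂)) ⊆ V (K594.FamOps.pull q K) := by
    rintro _ ⟨z, rfl⟩
    rw [V_pull, Set.mem_preimage, ← Points.map_comp, Category.assoc, hqκ, hVK]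
    exact subset_closure ⟨z, rfl⟩
  have hk := key' hP (D₁ := K594.FamOps.pull q (D₁' E₁ E₂)) (D₂ := K594.FamOps.pull q (D₂' E₁ E₂))
    (I₁ := K594.FamOps.pull q (I₁' E₁ E₂)) (I₂ := K594.FamOps.pull q (I₂' E₁ E₂))
    (K := K594.FamOps.pull q K) (N := N) hN1 (K594.FamOps.pull_mono q h1) (K594.FamOps.pull_mono q h2)
    (by
      have h3 := K594.FamOps.pull_mono (pullback.fst Y₁.gY Y₂.gY) Y₁.hle
      rw [I₁', D₁', e1, e1]
      exact h3)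
    (by
      have h3 := K594.FamOps.pull_mono (pullback.snd Y₁.gY Y₂.gY) Y₂.hle
      rw [I₂', D₂', e2, e2]
      exact h3)
    (by
      rw [D₁', e1]
      exact Y₁.hLP.pull (pullback.fst _ _))
    (by
      rw [D₂', e2]
      exact Y₂.hLP.pull (pullback.snd _ _))
    hMK hd1 hd2
  intro x hx
  have hx' := Set.disjoint_left.1 hk hx
  rw [Set.mem_union, not_or] at hx'
  refine mem_range_pm Y₁.hjY Y₂.hjY _ _ ?_ ?_
  · rw [Y₁.hr, Set.mem_preimage, ← Points.map_comp]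
    have h3 := hx'.1
    rw [V_pull, V_D₁', Set.mem_preimage, Set.mem_preimage, ← Points.map_comp, q1, Set.mem_compl_iff, not_not] at h3
    exact h3
  · rw [Y₂.hr, Set.mem_preimage, ← Points.map_comp]
    have h3 := hx'.2
    rw [V_pull, V_D₂', Set.mem_preimage, Set.mem_preimage, ← Points.map_comp, q2, Set.mem_compl_iff, not_not] at h3
    exact h3

/-- The main result on pairs, for an arbitrary morphism with the right components. -/
theorem isClosedImmersion' (hB : IsAlgSpace B) (hq : IsQuasiCompactSp (Pb E₁ E₂)) (hm : RepWith @IsClosedImmersion m)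
    (ha : Avoid m) : ∃ N₀ : ℕ, ∀ N, N₀ ≤ N → ∀ (Y₁ : Dil E₁ (3 * N)) (Y₂ : Dil E₂ (3 * N))
      (c : M ⟶ pullback Y₁.gY Y₂.gY), c ≫ pullback.fst _ _ = (m ≫ pullback.fst _ _) ≫ Y₁.jY →
      c ≫ pullback.snd _ _ = (m ≫ pullback.snd _ _) ≫ Y₂.jY → RepWith @IsClosedImmersion c := by
  obtain ⟨N₀, h⟩ := isClosedImmersion m hB hq hm ha
  refine ⟨N₀, fun N hN Y₁ Y₂ c h1 h2 => ?_⟩
  have e : c = m ≫ toP Y₁ Y₂ := by
    apply pullback.hom_ext
    · rw [h1, Category.assoc, Category.assoc, pm_fst]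
    · rw [h2, Category.assoc, Category.assoc, pm_snd]
  rw [e]
  exact h N hN Y₁ Y₂

end K637.NagPair
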