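import Mathlib.RingTheory.Spectrum.Prime.Topology
import Mathlib.Tactic.LinearCombination

/-!
# The ring theory of the dilatation argument (Nagata compactification)

* `key₁`, `key`: if `(D₁ D₂)^N ≤ Iᵢ ⊔ K`, `Iᵢ ≤ Dᵢ^(3N)` and `Dᵢ^(3N)` is principal, then the closure of a set of primes
  in `V(K)` which avoids `V(D₁)` and `V(D₂)` avoids `V(D₁)` and `V(D₂)`.
* `exists_notMem`: `I ⊔ D` is generated by a nonzerodivisor `e` and `I` vanishes on a set of primes over which `e` is a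
  unit: then `I ≤ D` near the closure of this set.
-/

set_option autoImplicit false
universe u

namespace K637.NagRing

variable {C : Type u} [CommRing C]

theorem sup_pow_le (A K : Ideal C) (n : ℕ) : (A ⊔ K) ^ n ≤ A ^ n ⊔ K := by
  induction n with
  | zero => simp
  | succ n ih =>
    rw [pow_succ]
    refine (Ideal.mul_mono_left ih).trans ?_
    rw [Ideal.sup_mul, Ideal.mul_sup, pow_succ]
    refine sup_le (sup_le le_sup_left (Ideal.mul_le_right.trans le_sup_right)) (Ideal.mul_le_left.trans le_sup_right)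

/-- The asymmetric half. -/
theorem half {M : Set (PrimeSpectrum C)} {D₁ D₂ I₁ K : Ideal C} {N : ℕ}
    (h1 : (D₁ * D₂) ^ N ≤ I₁ ⊔ K) (hI1 : I₁ ≤ D₁ ^ (3 * N)) {e₁ e₂ : C} (he1 : D₁ ^ (3 * N) = Ideal.span {e₁})
    (he2 : D₂ ^ (3 * N) = Ideal.span {e₂}) (hK : ∀ p ∈ M, K ≤ p.asIdeal) (hM1 : ∀ p ∈ M, ¬ D₁ ≤ p.asIdeal) :
    ∃ a : C, ∀ p ∈ M, e₂ - a * e₁ ^ 2 ∈ p.asIdeal := by
  have h2 : e₁ * e₂ ∈ (D₁ * D₂) ^ (3 * N) := by
    rw [mul_pow, he1, he2]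
    exact Ideal.mul_mem_mul (Ideal.mem_span_singleton_self _) (Ideal.mem_span_singleton_self _)
  have h3 : (D₁ * D₂) ^ (3 * N) ≤ (Ideal.span {e₁} ⊔ K) ^ 3 := by
    rw [mul_comm 3 N, pow_mul]
    refine Ideal.pow_right_mono (h1.trans (sup_le_sup_right ?_ _)) 3
    rw [← he1]
    exact hI1
  have h4 : (Ideal.span {e₁} ⊔ K) ^ 3 ≤ Ideal.span {e₁ ^ 3} ⊔ K := by
    rw [← Ideal.span_singleton_pow]
    exact sup_pow_le _ _ 3
  have h6 := h4 (h3 h2)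
  obtain ⟨x, hx, y, hy, hxy⟩ := Submodule.mem_sup.1 h6
  obtain ⟨a, rfl⟩ := Ideal.mem_span_singleton'.1 hx
  refine ⟨a, fun p hp => ?_⟩
  have h7 : e₁ * (e₂ - a * e₁ ^ 2) ∈ p.asIdeal := by
    have : e₁ * (e₂ - a * e₁ ^ 2) = y := by linear_combination -hxy
    rw [this]
    exact hK p hp hy
  refine (p.2.mem_or_mem h7).resolve_left fun h8 => hM1 p hp ?_
  have h9 : D₁ ^ (3 * N) ≤ p.asIdeal := by
    rw [he1, Ideal.span_singleton_le_iff_mem]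
    exact h8
  exact Ideal.IsPrime.le_of_pow_le h9

/-- The key lemma, one of the two conclusions. -/
theorem key {M : Set (PrimeSpectrum C)} {D₁ D₂ I₁ I₂ K : Ideal C} {N : ℕ} (hN : N ≠ 0)
    (h1 : (D₁ * D₂) ^ N ≤ I₁ ⊔ K) (h2 : (D₁ * D₂) ^ N ≤ I₂ ⊔ K) (hI1 : I₁ ≤ D₁ ^ (3 * N)) (hI2 : I₂ ≤ D₂ ^ (3 * N))
    (he1 : (D₁ ^ (3 * N)).IsPrincipal) (he2 : (D₂ ^ (3 * N)).IsPrincipal) (hK : ∀ p ∈ M, K ≤ p.asIdeal)
    (hM1 : ∀ p ∈ M, ¬ D₁ ≤ p.asIdeal) (hM2 : ∀ p ∈ M, ¬ D₂ ≤ p.asIdeal) {q : PrimeSpectrum C}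
    (hq : q ∈ closure M) : ¬ D₁ ≤ q.asIdeal := by
  obtain ⟨e₁, he1⟩ := he1
  obtain ⟨e₂, he2⟩ := he2
  rw [Ideal.submodule_span_eq] at he1 he2
  obtain ⟨a, ha⟩ := half h1 hI1 he1 he2 hK hM1
  obtain ⟨b, hb⟩ := half (by rwa [mul_comm]) hI2 he2 he1 hK hM2
  have hv : ∀ p ∈ M, 1 - b * a ^ 2 * e₁ ^ 3 ∈ p.asIdeal := by
    intro p hp
    have h3 : e₁ * (1 - b * a ^ 2 * e₁ ^ 3) ∈ p.asIdeal := by
      have h4 : e₁ * (1 - b * a ^ 2 * e₁ ^ 3) = (e₁ - b * e₂ ^ 2) + b * (e₂ + a * e₁ ^ 2) * (e₂ - a * e₁ ^ 2) := by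
        ring
      rw [h4]
      exact add_mem (hb p hp) (Ideal.mul_mem_left _ _ (ha p hp))
    refine (p.2.mem_or_mem h3).resolve_left fun h8 => hM1 p hp ?_
    have h9 : D₁ ^ (3 * N) ≤ p.asIdeal := by
      rw [he1, Ideal.span_singleton_le_iff_mem]
      exact h8
    exact Ideal.IsPrime.le_of_pow_le h9
  have hq' : 1 - b * a ^ 2 * e₁ ^ 3 ∈ q.asIdeal := by
    rw [← PrimeSpectrum.zeroLocus_vanishingIdeal_eq_closure] at hq
    exact hq ((PrimeSpectrum.mem_vanishingIdeal _ _).2 hv)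
  intro hD
  have h5 : e₁ ∈ q.asIdeal := by
    have h6 : D₁ ^ (3 * N) ≤ q.asIdeal := (Ideal.pow_le_self (by omega)).trans hD
    rw [he1, Ideal.span_singleton_le_iff_mem] at h6
    exact h6
  refine q.2.ne_top ((Ideal.eq_top_iff_one _).2 ?_)
  have h7 : (1 : C) = (1 - b * a ^ 2 * e₁ ^ 3) + b * a ^ 2 * e₁ ^ 2 * e₁ := by ring
  rw [h7]
  exact add_mem hq' (Ideal.mul_mem_left _ _ h5)

/-- Near the closure of the centre the new ideal is generated by `D`. -/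
theorem exists_notMem {M : Set (PrimeSpectrum C)} {D I : Ideal C} {e : C} (he : e ∈ nonZeroDivisors C)
    (h : I ⊔ D = Ideal.span {e}) (hI : ∀ p ∈ M, I ≤ p.asIdeal) (hM : ∀ p ∈ M, e ∉ p.asIdeal) {q : PrimeSpectrum C}
    (hq : q ∈ closure M) : ∃ d : C, d ∉ q.asIdeal ∧ ∀ x ∈ I, d * x ∈ D := by
  have h1 : e ∈ I ⊔ D := by rw [h]; exact Ideal.mem_span_singleton_self _
  obtain ⟨i, hi, d', hd', hid⟩ := Submodule.mem_sup.1 h1
  have h2 : I ≤ Ideal.span {e} := h ▸ le_sup_left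
  have h3 : D ≤ Ideal.span {e} := h ▸ le_sup_right
  obtain ⟨k, rfl⟩ := Ideal.mem_span_singleton'.1 (h2 hi)
  obtain ⟨d, rfl⟩ := Ideal.mem_span_singleton'.1 (h3 hd')
  have h4 : k + d = 1 := by
    have h5 : (k + d) * e = 1 * e := by linear_combination hid
    exact (mul_cancel_right_mem_nonZeroDivisors he).1 h5
  have h6 : k ∈ q.asIdeal := by
    rw [← PrimeSpectrum.zeroLocus_vanishingIdeal_eq_closure] at hq
    refine hq ((PrimeSpectrum.mem_vanishingIdeal _ _).2 fun p hp => ?_)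
    exact (p.2.mem_or_mem (hI p hp hi)).resolve_right (hM p hp)
  refine ⟨d, fun h7 => q.2.ne_top ((Ideal.eq_top_iff_one _).2 (h4 ▸ add_mem h6 h7)), fun x hx => ?_⟩
  obtain ⟨y, rfl⟩ := Ideal.mem_span_singleton'.1 (h2 hx)
  have h8 : d * (y * e) = y * (d * e) := by ring
  rw [h8]
  exact Ideal.mul_mem_left _ _ hd'

end K637.NagRing
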