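import Groth.Agent.AlgSp.K637.SeqKind
import Mathlib.AlgebraicGeometry.Morphisms.ClosedImmersion
import Mathlib.AlgebraicGeometry.PullbackCarrier

/-!
# Chart form of regular immersions of schemes
-/

set_option autoImplicit false
universe u
open CategoryTheory CategoryTheory.Limits AlgebraicGeometry

namespace K637.RegChart

open RegImm

theorem isPushout_quot {A B : Type u} [CommRing A] [CommRing B] (φ : A →+* B) (I : Ideal A) :
    IsPushout (CommRingCat.ofHom φ) (CommRingCat.ofHom (Ideal.Quotient.mk I))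
      (CommRingCat.ofHom (Ideal.Quotient.mk (I.map φ)))
      (CommRingCat.ofHom (Ideal.quotientMap (I.map φ) φ Ideal.le_comap_map)) := by
  refine ⟨⟨by ext x; rfl⟩, ⟨PushoutCocone.IsColimit.mk _ (fun s => CommRingCat.ofHom
    (Ideal.Quotient.lift (I.map φ) s.inl.hom ?_)) ?_ ?_ ?_⟩⟩
  · intro b hb
    have : I.map φ ≤ RingHom.ker s.inl.hom := by
      rw [Ideal.map_le_iff_le_comap]
      intro a ha
      have h1 := congrArg (fun f => f.hom a) s.condition
      change s.inl.hom (φ a) = s.inr.hom (Ideal.Quotient.mk I a) at h1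
      rw [Ideal.Quotient.eq_zero_iff_mem.2 ha, map_zero] at h1
      exact h1
    exact this hb
  · intro s
    ext x
    rfl
  · intro s
    ext a
    exact congrArg (fun f => f.hom a) s.condition
  · intro s m h1 h2
    ext b
    exact congrArg (fun f => f.hom b) h1

theorem isPullback_quot {A B : Type u} [CommRing A] [CommRing B] (φ : A →+* B) (I : Ideal A) :
    IsPullback (Spec.map (CommRingCat.ofHom (Ideal.quotientMap (I.map φ) φ Ideal.le_comap_map)))
      (Spec.map (CommRingCat.ofHom (Ideal.Quotient.mk (I.map φ))))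
      (Spec.map (CommRingCat.ofHom (Ideal.Quotient.mk I))) (Spec.map (CommRingCat.ofHom φ)) := by
  have := (isPushout_quot φ I).op.map Scheme.Spec
  exact this.flip.flip

variable {X Z : Scheme.{u}}

/-- `i : Z ⟶ X` is, over the chart `ψ : Spec A ⟶ X`, the closed immersion of the ideal `I`. -/
def IsIdealOver (i : Z ⟶ X) {A : Type u} [CommRing A] (I : Ideal A) (ψ : Spec (.of A) ⟶ X) : Prop :=
  ∃ χ : Spec (.of (A ⧸ I)) ⟶ Z,
    IsPullback χ (Spec.map (CommRingCat.ofHom (Ideal.Quotient.mk I))) i ψ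

/-- Base change of `IsIdealOver` along a map of affine charts. -/
theorem IsIdealOver.comp {i : Z ⟶ X} {A : Type u} [CommRing A] {I : Ideal A} {ψ : Spec (.of A) ⟶ X}
    (h : IsIdealOver i I ψ) {B : Type u} [CommRing B] (φ : A →+* B) :
    IsIdealOver i (I.map φ) (Spec.map (CommRingCat.ofHom φ) ≫ ψ) := by
  obtain ⟨χ, hχ⟩ := h
  exact ⟨_, (isPullback_quot φ I).paste_horiz hχ⟩

/-- Base change of `IsIdealOver` along `X' ⟶ X`: if `ψ' : Spec B ⟶ X'` lies over `ψ ∘ Spec φ`. -/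
theorem IsIdealOver.baseChange {i : Z ⟶ X} {A : Type u} [CommRing A] {I : Ideal A} {ψ : Spec (.of A) ⟶ X}
    (h : IsIdealOver i I ψ) {Z' X' : Scheme.{u}} {i' : Z' ⟶ X'} {g' : Z' ⟶ Z} {g : X' ⟶ X}
    (sq : IsPullback g' i' i g) {B : Type u} [CommRing B] (φ : A →+* B) (ψ' : Spec (.of B) ⟶ X')
    (hψ : ψ' ≫ g = Spec.map (CommRingCat.ofHom φ) ≫ ψ) :
    IsIdealOver i' (I.map φ) ψ' := by
  obtain ⟨χ, hχ⟩ := h.comp φ
  rw [← hψ] at hχ
  refine ⟨sq.lift χ (Spec.map (CommRingCat.ofHom (Ideal.Quotient.mk (I.map φ))) ≫ ψ') ?_, ?_⟩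
  · rw [hχ.w, Category.assoc]
  · refine IsPullback.of_right (h₁₂ := g') (t := sq) ?_ (sq.lift_snd _ _ _)
    rw [sq.lift_fst]
    exact hχ

theorem exists_of_isAffineOpen {i : Z ⟶ X} {U : X.Opens} (hU : IsAffineOpen U) (hi : IsClosedImmersion (i ∣_ U)) :
    ∃ I : Ideal Γ(X, U), IsIdealOver i I hU.fromSpec := by
  have sq : IsPullback ((i ⁻¹ᵁ U).ι) (i ∣_ U) i U.ι := (isPullback_morphismRestrict i U).flip
  have sq2 : IsPullback (pullback.fst i hU.fromSpec) (pullback.snd i hU.fromSpec) i hU.fromSpec :=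
    IsPullback.of_hasPullback _ _
  have hc : IsClosedImmersion (pullback.snd i hU.fromSpec) := by
    have h1 : IsPullback (sq.lift (pullback.fst i hU.fromSpec) (pullback.snd i hU.fromSpec ≫ hU.isoSpec.inv)
        (by rw [sq2.w, Category.assoc]; rfl)) (pullback.snd i hU.fromSpec) (i ∣_ U) hU.isoSpec.inv := by
      refine IsPullback.of_right (h₁₂ := (i ⁻¹ᵁ U).ι) (t := sq) ?_ (sq.lift_snd _ _ _)
      rw [sq.lift_fst]
      exact sq2
    exact MorphismProperty.of_isPullback (P := @IsClosedImmersion) h1 hi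
  obtain ⟨I, e, he⟩ := IsClosedImmersion.Spec_iff.1 hc
  refine ⟨I, e.inv ≫ pullback.fst i hU.fromSpec, ?_⟩
  refine IsPullback.of_iso sq2 e (Iso.refl _) (Iso.refl _) (Iso.refl _) ?_ ?_ ?_ ?_
  · simp
  · simpa using he
  · simp
  · simp

theorem range_of_isPullback {W Y : Scheme.{u}} {i : Z ⟶ X} {ψ : Y ⟶ X} {χ : W ⟶ Z} {w : W ⟶ Y}
    (h : IsPullback χ w i ψ) : Set.range χ = i ⁻¹' (Set.range ψ) := by
  rw [← h.isoPullback_hom_fst]
  have h1 : Set.range (h.isoPullback.hom ≫ pullback.fst i ψ) = Set.range (pullback.fst i ψ) := by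
    ext z
    constructor
    · rintro ⟨w, rfl⟩
      exact ⟨h.isoPullback.hom w, by rw [Scheme.Hom.comp_apply]⟩
    · rintro ⟨w, rfl⟩
      obtain ⟨w', rfl⟩ := (h.isoPullback.hom).surjective w
      exact ⟨w', by rw [Scheme.Hom.comp_apply]⟩
  rw [h1, Scheme.Pullback.range_fst]

theorem ker_app {i : Z ⟶ X} {U : X.Opens} (hU : IsAffineOpen U) {I : Ideal Γ(X, U)}
    (h : IsIdealOver i I hU.fromSpec) : RingHom.ker (i.app U).hom = I := by
  obtain ⟨χ, hχ⟩ := h
  have : IsOpenImmersion χ := MorphismProperty.of_isPullback (P := @IsOpenImmersion) hχ.flip inferInstance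
  have hr : χ.opensRange = i ⁻¹ᵁ U := by
    apply TopologicalSpace.Opens.ext
    change Set.range χ = _
    rw [range_of_isPullback hχ, hU.range_fromSpec]
    rfl
  have hV : IsAffineOpen (i ⁻¹ᵁ U) := by
    rw [← hr]
    exact isAffineOpen_opensRange χ
  let e : Spec (.of (Γ(X, U) ⧸ I)) ≅ Spec Γ(Z, i ⁻¹ᵁ U) :=
    IsOpenImmersion.isoOfRangeEq χ hV.fromSpec (by
      rw [hV.range_fromSpec, ← hr]; rfl)
  have he : e.hom ≫ hV.fromSpec = χ := IsOpenImmersion.isoOfRangeEq_hom_fac _ _ _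
  have h1 : Spec.map (CommRingCat.ofHom (Ideal.Quotient.mk I)) = e.hom ≫ Spec.map (i.appLE U (i ⁻¹ᵁ U) le_rfl) := by
    rw [← cancel_mono hU.fromSpec, Category.assoc, IsAffineOpen.SpecMap_appLE_fromSpec i hU hV le_rfl,
      ← Category.assoc, he]
    exact hχ.w.symm
  obtain ⟨β, hβ⟩ : ∃ β : Γ(Z, i ⁻¹ᵁ U) ⟶ CommRingCat.of (Γ(X, U) ⧸ I), Spec.map β = e.hom :=
    ⟨Spec.preimage e.hom, Spec.map_preimage _⟩
  have hβi : Function.Bijective β.hom := by
    have : IsIso (Spec.map β) := by rw [hβ]; infer_instance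
    exact (isIso_SpecMap_iff).1 this
  rw [← hβ, ← Spec.map_comp] at h1
  have h2 := Spec.map_injective h1
  rw [Scheme.Hom.appLE_eq_app] at h2
  ext a
  have h3 : Ideal.Quotient.mk I a = β.hom ((i.app U).hom a) := congrArg (fun f => f.hom a) h2
  rw [← Ideal.Quotient.eq_zero_iff_mem (I := I), h3, RingHom.mem_ker]
  constructor
  · intro h; rw [h, map_zero]
  · intro h
    exact hβi.1 (by rw [h, map_zero])

/-- The chart form: near `z` there is an affine open chart `Spec A ⟶ X` over which `Z` is `Spec (A/(rs))` with `rs` a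
sequence of kind `k`. -/
def ChartAt (k : Kind) (i : Z ⟶ X) (z : Z) : Prop :=
  ∃ (A : Type u) (_ : CommRing A) (rs : List A) (ψ : Spec (.of A) ⟶ X), IsOpenImmersion ψ ∧ i z ∈ Set.range ψ ∧
    k.Seq A rs ∧ IsIdealOver i (Ideal.ofList rs) ψ

theorem chartAt_of_isRegularImmersionAt {k : Kind} {i : Z ⟶ X} {z : Z} (h : IsRegularImmersionAt k i z) :
    ChartAt k i z := by
  obtain ⟨⟨U, hU⟩, hz, hc, rs, hrs, he⟩ := h
  have hU' : IsAffineOpen U := hU
  obtain ⟨I, hI⟩ := exists_of_isAffineOpen hU' hc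
  have h1 := ker_app hU' hI
  have h2 : I = Ideal.ofList rs := h1.symm.trans he
  subst h2
  exact ⟨Γ(X, U), inferInstance, rs, hU'.fromSpec, inferInstance, by rw [hU'.range_fromSpec]; exact hz, hrs, hI⟩

theorem isRegularImmersionAt_of_chartAt {k : Kind} (hk : k ≠ .regular) {i : Z ⟶ X} {z : Z} (h : ChartAt k i z) :
    IsRegularImmersionAt k i z := by
  obtain ⟨A, _, rs, ψ, hψ, hz, hrs, hI⟩ := h
  let U : X.Opens := ψ.opensRange
  have hU : IsAffineOpen U := isAffineOpen_opensRange ψ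
  let e : Spec Γ(X, U) ≅ Spec (.of A) := IsOpenImmersion.isoOfRangeEq hU.fromSpec ψ (by
    rw [hU.range_fromSpec]; rfl)
  have he : e.hom ≫ ψ = hU.fromSpec := IsOpenImmersion.isoOfRangeEq_hom_fac _ _ _
  obtain ⟨β, hβ⟩ : ∃ β : CommRingCat.of A ⟶ Γ(X, U), Spec.map β = e.hom :=
    ⟨Spec.preimage e.hom, Spec.map_preimage _⟩
  have hβi : Function.Bijective β.hom := by
    have : IsIso (Spec.map β) := by rw [hβ]; infer_instance
    exact (isIso_SpecMap_iff).1 this
  have hI' : IsIdealOver i ((Ideal.ofList rs).map β.hom) hU.fromSpec := by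
    have := hI.comp β.hom
    rwa [CommRingCat.ofHom_hom, hβ, he] at this
  have hflat : β.hom.Flat := RingHom.Flat.of_bijective hβi
  refine ⟨⟨U, hU⟩, hz, ?_, rs.map β.hom, K637.SeqKind.seq_map_flat hk β.hom hflat hrs, ?_⟩
  · obtain ⟨χ, hχ⟩ := hI'
    have sq : IsPullback ((i ⁻¹ᵁ U).ι) (i ∣_ U) i U.ι := (isPullback_morphismRestrict i U).flip
    have sq3 : IsPullback (𝟙 (Z : Scheme.{u})) i i (𝟙 X) := IsPullback.of_horiz_isIso ⟨by simp⟩
    -- base change of the closed immersion along the isomorphism `U ≅ Spec Γ(X, U)`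
    have h1 : IsPullback (hχ.lift (i ⁻¹ᵁ U).ι ((i ∣_ U) ≫ hU.isoSpec.hom) (by
        rw [sq.w, Category.assoc, IsAffineOpen.isoSpec_hom_fromSpec])) (i ∣_ U)
        (Spec.map (CommRingCat.ofHom (Ideal.Quotient.mk ((Ideal.ofList rs).map β.hom)))) hU.isoSpec.hom := by
      refine IsPullback.of_right (h₁₂ := χ) (t := hχ) ?_ (hχ.lift_snd _ _ _)
      rw [hχ.lift_fst, IsAffineOpen.isoSpec_hom_fromSpec]
      exact sq
    exact MorphismProperty.of_isPullback (P := @IsClosedImmersion) h1 inferInstance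
  · rw [ker_app hU hI', K637.SeqKind.map_ofList]

theorem isRegularImmersionAt_iff {k : Kind} (hk : k ≠ .regular) {i : Z ⟶ X} {z : Z} :
    IsRegularImmersionAt k i z ↔ ChartAt k i z :=
  ⟨chartAt_of_isRegularImmersionAt, isRegularImmersionAt_of_chartAt hk⟩

end K637.RegChart
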