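import Groth.Agent.AlgSp.K637.RegOps

/-!
# Composition of regular immersions of schemes (kinds koszul, h1, quasi)
-/

set_option autoImplicit false
universe u
open CategoryTheory CategoryTheory.Limits AlgebraicGeometry

namespace K637.RegComp

open RegImm K637.RegChart K637.RegOps

variable {X Y Z : Scheme.{u}}

/-- Composition of charts, for kinds `k` (of `j`), `k'` (of `i`) with an append rule. -/
theorem chartAt_comp {k k' : Kind} (hk : k ≠ .regular) (hk' : k' ≠ .regular)
    (happ : ∀ {A : Type u} [CommRing A] {l m : List A}, k.Seq A l →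
      k'.Seq (A ⧸ Ideal.ofList l) (m.map (Ideal.Quotient.mk (Ideal.ofList l))) → k.Seq A (l ++ m))
    {i : Z ⟶ Y} {j : Y ⟶ X} (z : Z) (hi : ChartAt k' i z) (hj : ChartAt k j (i z)) :
    ChartAt k (i ≫ j) z := by
  obtain ⟨B, _, ss, ψ', hψ', hz', hss, hI⟩ := hi
  obtain ⟨A, _, rs, ψ, hψ, hz, hrs, χ, hχ⟩ := hj
  have hχo : IsOpenImmersion χ := MorphismProperty.of_isPullback (P := @IsOpenImmersion) hχ.flip hψ
  -- the point `q` of `Spec (A/(rs))` over `i z`
  obtain ⟨q, hq⟩ : i z ∈ Set.range χ := by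
    rw [range_of_isPullback hχ]; exact hz
  have hqo : q ∈ χ ⁻¹ᵁ ψ'.opensRange := by
    change χ q ∈ Set.range ψ'
    rw [hq]; exact hz'
  obtain ⟨_, ⟨_, ⟨a', rfl⟩, rfl⟩, hqa, hle⟩ := PrimeSpectrum.isBasis_basic_opens.exists_subset_of_mem_open
    (show q ∈ ((χ ⁻¹ᵁ ψ'.opensRange : (Spec (.of (A ⧸ Ideal.ofList rs))).Opens) : Set _) from hqo)
    (χ ⁻¹ᵁ ψ'.opensRange).2
  obtain ⟨a, rfl⟩ := Ideal.Quotient.mk_surjective a'
  -- localize at `a`
  let A' := Localization.Away a
  let φ : A →+* A' := algebraMap A A'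
  have hφ : φ.Flat := by
    have : Module.Flat A A' := IsLocalization.flat A' (Submonoid.powers a)
    exact (RingHom.flat_algebraMap_iff).2 this
  let ψ₁ : Spec (.of A') ⟶ X := Spec.map (CommRingCat.ofHom φ) ≫ ψ
  have hφo : IsOpenImmersion (Spec.map (CommRingCat.ofHom φ)) :=
    inferInstanceAs (IsOpenImmersion (Spec.map (CommRingCat.ofHom (algebraMap A (Localization.Away a)))))
  have hψ₁ : IsOpenImmersion ψ₁ := inferInstance
  let J : Ideal A' := (Ideal.ofList rs).map φ
  let β := Spec.map (CommRingCat.ofHom (Ideal.quotientMap J φ Ideal.le_comap_map))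
  let χ₁ : Spec (.of (A' ⧸ J)) ⟶ Y := β ≫ χ
  have hβ : IsPullback β (Spec.map (CommRingCat.ofHom (Ideal.Quotient.mk J)))
      (Spec.map (CommRingCat.ofHom (Ideal.Quotient.mk (Ideal.ofList rs)))) (Spec.map (CommRingCat.ofHom φ)) :=
    isPullback_quot φ _
  have hχ₁ : IsPullback χ₁ (Spec.map (CommRingCat.ofHom (Ideal.Quotient.mk J))) j ψ₁ := hβ.paste_horiz hχ
  have hχ₁o : IsOpenImmersion χ₁ := MorphismProperty.of_isPullback (P := @IsOpenImmersion) hχ₁.flip hψ₁
  have hβr : Set.range β = ((PrimeSpectrum.basicOpen (Ideal.Quotient.mk (Ideal.ofList rs) a) :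
      TopologicalSpace.Opens (PrimeSpectrum (A ⧸ Ideal.ofList rs))) : Set (PrimeSpectrum (A ⧸ Ideal.ofList rs))) := by
    rw [range_of_isPullback hβ]
    have h1 : Set.range (Spec.map (CommRingCat.ofHom φ)) = (PrimeSpectrum.basicOpen a : Set (PrimeSpectrum A)) :=
      PrimeSpectrum.localization_away_comap_range A' a
    rw [h1]
    rfl
  -- factor through `ψ'`
  have hr : Set.range χ₁ ⊆ Set.range ψ' := by
    rintro _ ⟨p, rfl⟩
    have hp : β p ∈ Set.range β := ⟨p, rfl⟩
    rw [hβr] at hp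
    have := hle hp
    change (β ≫ χ) p ∈ _
    rw [Scheme.Hom.comp_apply]
    exact this
  let δ : Spec (.of (A' ⧸ J)) ⟶ Spec (.of B) := IsOpenImmersion.lift ψ' χ₁ hr
  have hδ : δ ≫ ψ' = χ₁ := IsOpenImmersion.lift_fac _ _ _
  let θ : B →+* A' ⧸ J := (Spec.preimage δ).hom
  have hθ : Spec.map (CommRingCat.ofHom θ) = δ := by
    rw [CommRingCat.ofHom_hom, Spec.map_preimage]
  have hθf : θ.Flat := by
    have h1 : Flat (δ ≫ ψ') := by rw [hδ]; infer_instance
    have h2 : Flat δ := MorphismProperty.of_isPullback (P := @Flat) (isPullback_id_of_mono _ ψ') h1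
    rw [← hθ] at h2
    exact (HasRingHomProperty.Spec_iff (P := @Flat)).1 h2
  have hI₁ : IsIdealOver i ((Ideal.ofList ss).map θ) χ₁ := by
    have := hI.comp θ
    rwa [hθ, hδ] at this
  rw [K637.SeqKind.map_ofList] at hI₁
  have hss₁ := K637.SeqKind.seq_map_flat hk' θ hθf hss
  -- lift the sequence
  obtain ⟨tt, htt⟩ : ∃ tt : List A', tt.map (Ideal.Quotient.mk J) = ss.map θ := by
    refine ⟨(ss.map θ).map (Function.surjInv Ideal.Quotient.mk_surjective), ?_⟩
    rw [List.map_map]
    conv_rhs => rw [← List.map_id (ss.map θ)]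
    refine List.map_congr_left fun x _ => ?_
    exact Function.surjInv_eq Ideal.Quotient.mk_surjective x
  have hrs₁ := K637.SeqKind.seq_map_flat hk φ hφ hrs
  have hJ : J = Ideal.ofList (rs.map φ) := K637.SeqKind.map_ofList φ rs
  rw [← htt] at hss₁ hI₁
  have happ' : ∀ {J : Ideal A'} {l m : List A'}, J = Ideal.ofList l → k.Seq A' l →
      k'.Seq (A' ⧸ J) (m.map (Ideal.Quotient.mk J)) → k.Seq A' (l ++ m) := by
    rintro J l m rfl h1 h2
    exact happ h1 h2
  have hseq : k.Seq A' (rs.map φ ++ tt) := happ' hJ hrs₁ hss₁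
  refine ⟨A', inferInstance, rs.map φ ++ tt, ψ₁, hψ₁, ?_, hseq, ?_⟩
  · rw [Scheme.Hom.comp_apply]
    have hq1 : q ∈ Set.range β := by rw [hβr]; exact hqa
    obtain ⟨p, hp⟩ := hq1
    refine ⟨Spec.map (CommRingCat.ofHom (Ideal.Quotient.mk _)) p, ?_⟩
    rw [← Scheme.Hom.comp_apply, ← hχ₁.w, Scheme.Hom.comp_apply]
    congr 1
    change (β ≫ χ) p = _
    rw [Scheme.Hom.comp_apply, hp, hq]
  · obtain ⟨ξ, hξ⟩ := hI₁
    have h1 := hξ.paste_vert hχ₁
    rw [← Spec.map_comp, ← CommRingCat.ofHom_comp] at h1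
    have hsurj : Function.Surjective
        ((Ideal.Quotient.mk (Ideal.ofList (List.map (⇑(Ideal.Quotient.mk J)) tt))).comp (Ideal.Quotient.mk J)) :=
      Ideal.Quotient.mk_surjective.comp Ideal.Quotient.mk_surjective
    have h2 := K637.RegOps.IsIdealOver.of_surjective _ hsurj h1
    convert h2 using 1
    rw [Ideal.ofList_append, ← RingHom.comap_ker, Ideal.mk_ker, ← K637.SeqKind.map_ofList (Ideal.Quotient.mk J) tt,
      Ideal.comap_map_of_surjective _ Ideal.Quotient.mk_surjective, ← RingHom.ker_eq_comap_bot, Ideal.mk_ker,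
      sup_comm, hJ]

/-- Composition of regular immersions: koszul after koszul. -/
theorem isRegularImmersion_comp_koszul {i : Z ⟶ Y} {j : Y ⟶ X} (hi : IsRegularImmersion .koszul i)
    (hj : IsRegularImmersion .koszul j) : IsRegularImmersion .koszul (i ≫ j) :=
  ⟨by have := hi.1; have := hj.1; infer_instance, fun z => (isRegularImmersionAt_iff (by decide)).2
    (chartAt_comp (by decide) (by decide) K637.SeqKind.seq_append_koszul z
      ((isRegularImmersionAt_iff (by decide)).1 (hi.2 z)) ((isRegularImmersionAt_iff (by decide)).1 (hj.2 _)))⟩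

/-- Composition of regular immersions: h1 after h1. -/
theorem isRegularImmersion_comp_h1 {i : Z ⟶ Y} {j : Y ⟶ X} (hi : IsRegularImmersion .h1 i)
    (hj : IsRegularImmersion .h1 j) : IsRegularImmersion .h1 (i ≫ j) :=
  ⟨by have := hi.1; have := hj.1; infer_instance, fun z => (isRegularImmersionAt_iff (by decide)).2
    (chartAt_comp (by decide) (by decide) K637.SeqKind.seq_append_h1 z
      ((isRegularImmersionAt_iff (by decide)).1 (hi.2 z)) ((isRegularImmersionAt_iff (by decide)).1 (hj.2 _)))⟩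

/-- Composition of regular immersions: `i` of kind h1, `j` quasi-regular. -/
theorem isRegularImmersion_comp_quasi {i : Z ⟶ Y} {j : Y ⟶ X} (hi : IsRegularImmersion .h1 i)
    (hj : IsRegularImmersion .quasi j) : IsRegularImmersion .quasi (i ≫ j) :=
  ⟨by have := hi.1; have := hj.1; infer_instance, fun z => (isRegularImmersionAt_iff (by decide)).2
    (chartAt_comp (by decide) (by decide) K637.SeqKind.seq_append_quasi z
      ((isRegularImmersionAt_iff (by decide)).1 (hi.2 z)) ((isRegularImmersionAt_iff (by decide)).1 (hj.2 _)))⟩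

end K637.RegComp
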