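import Groth.Agent.AlgSp.K637.RegOps
import Groth.Agent.AlgSp.K637.EtCover
import Groth.Agent.RegImm.K559.KindsDesc
import Groth.Agent.Desc.ImmersionDescent

/-!
# Descent of regular immersions (kinds koszul, h1, quasi) along flat surjective lfp morphisms of schemes
-/

set_option autoImplicit false
universe u
open CategoryTheory CategoryTheory.Limits AlgebraicGeometry

namespace K637.RegDesc

open RegImm K637.RegChart K637.RegOps

/-- If the base change of `i` along a flat surjective morphism locally of finite presentation is a regular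
immersion of kind koszul, h1 or quasi, so is `i`. -/
theorem of_isPullback {k : Kind} (hk : k ≠ .regular) {Z X Z' X' : Scheme.{u}} {i : Z ⟶ X} {g : X' ⟶ X}
    {i' : Z' ⟶ X'} {g' : Z' ⟶ Z} (sq : IsPullback g' i' i g) [Flat g] [LocallyOfFinitePresentation g]
    [Surjective g] (h : IsRegularImmersion k i') : IsRegularImmersion k i := by
  have hi : IsImmersion i := by
    have := Groth.Agent.Desc.ImmersionDescent.descendsAlong_isImmersion_fppf.{u}
    exact MorphismProperty.of_isPullback_of_descendsAlong (P := @IsImmersion)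
      (Q := @Surjective ⊓ @Flat ⊓ @LocallyOfFinitePresentation) sq.flip ⟨⟨inferInstance, inferInstance⟩, inferInstance⟩ h.1
  refine ⟨hi, fun z => ?_⟩
  rw [isRegularImmersionAt_iff hk]
  obtain ⟨t₀, ht₀⟩ := g.surjective (i z)
  obtain ⟨V₀, T₀, j, t, g₀, hj, ht, hV₀, hT₀, hg₀, -, hv, hc⟩ := K637.EtCover.exists_local g g.isOpenMap t₀
  rw [ht₀] at hv
  have hflat : Flat g₀ := K637.EtCover.of_comp_mono (P := @Flat) (ψ := j) (by rw [← hc]; infer_instance)
  have sqj := IsPullback.of_hasPullback i j
  have sqg := IsPullback.of_hasPullback (pullback.snd i j) g₀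
  have sq3 := sqg.paste_horiz sqj
  rw [← hc] at sq3
  have sq4 : IsPullback (sq.lift (pullback.fst (pullback.snd i j) g₀ ≫ pullback.fst i j)
      (pullback.snd (pullback.snd i j) g₀ ≫ t) (by rw [sq3.w, Category.assoc]))
      (pullback.snd (pullback.snd i j) g₀) i' t := by
    refine IsPullback.of_right (h₁₂ := g') (t := sq) ?_ (sq.lift_snd _ _ _)
    rw [sq.lift_fst]
    exact sq3
  have h₀ : IsRegularImmersion k (pullback.snd (pullback.snd i j) g₀) :=
    isRegularImmersion_baseChange hk sq4 h
  have h1 : IsRegularImmersion k (pullback.snd i j) :=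
    K559.KindsDesc.descent k hk (pullback.snd i j) g₀ _ _ sqg h₀
  obtain ⟨z₀, hz₀⟩ : ∃ z₀, pullback.fst i j z₀ = z := by
    have : z ∈ Set.range (pullback.fst i j) := by
      rw [Scheme.Pullback.range_fst]
      exact hv
    exact this
  obtain ⟨A, _, rs, ψ, hψ, hz, hrs, χ, hχ⟩ := (isRegularImmersionAt_iff hk).1 (h1.2 z₀)
  refine ⟨A, inferInstance, rs, ψ ≫ j, inferInstance, ?_, hrs, _, hχ.paste_horiz sqj⟩
  obtain ⟨x, hx⟩ := hz
  refine ⟨x, ?_⟩
  rw [Scheme.Hom.comp_apply, hx, ← Scheme.Hom.comp_apply, ← sqj.w, Scheme.Hom.comp_apply, hz₀]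

end K637.RegDesc
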