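import Groth.Prelude.Def_RegImm
import Groth.Agent.Sga67.KoszulH1
import Groth.Agent.CalgB.QuasiRegular

/-!
# Implications between the kinds of regular immersions of schemes: koszul ⟹ h1 ⟹ quasi
-/

set_option autoImplicit false
universe u
open CategoryTheory AlgebraicGeometry

namespace K637.RegImmKinds

theorem seq_h1_of_koszul {R : Type u} [CommRing R] {rs : List R}
    (h : RegImm.Kind.Seq RegImm.Kind.koszul R rs) : RegImm.Kind.Seq RegImm.Kind.h1 R rs :=
  Groth.Agent.Sga67.KoszulH1.isH1Regular_of_isKoszulRegularSeq rs h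

theorem seq_quasi_of_h1 {R : Type u} [CommRing R] {rs : List R}
    (h : RegImm.Kind.Seq RegImm.Kind.h1 R rs) : RegImm.Kind.Seq RegImm.Kind.quasi R rs :=
  Groth.Agent.CalgB.QuasiRegular.isQuasiRegular_of_isH1Regular h

theorem isRegularImmersion_of_seq {k k' : RegImm.Kind}
    (hk : ∀ {R : Type u} [CommRing R] {rs : List R}, RegImm.Kind.Seq k R rs → RegImm.Kind.Seq k' R rs)
    {Z X : Scheme.{u}} {i : Z ⟶ X} (h : RegImm.IsRegularImmersion k i) :
    RegImm.IsRegularImmersion k' i := by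
  refine ⟨h.1, fun z => ?_⟩
  obtain ⟨U, hU, hc, rs, hrs, he⟩ := h.2 z
  exact ⟨U, hU, hc, rs, hk hrs, he⟩

end K637.RegImmKinds
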