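import Groth.Agent.AlgSp.K637.RegChart

/-!
# Flat base change and composition of regular immersions of schemes (kinds koszul, h1, quasi)
-/

set_option autoImplicit false
universe u
open CategoryTheory CategoryTheory.Limits AlgebraicGeometry

namespace K637.RegOps

open RegImm K637.RegChart

variable {X Z : Scheme.{u}}

/-- If `Spec C ⟶ Spec A` for a surjection `f : A → C` is the pullback of `i` along `ψ`, then over `ψ` the
ideal is the kernel of `f`. -/
theorem IsIdealOver.of_surjective {i : Z ⟶ X} {A C : Type u} [CommRing A] [CommRing C] {ψ : Spec (.of A) ⟶ X}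
    (f : A →+* C) (hf : Function.Surjective f) {ξ : Spec (.of C) ⟶ Z}
    (h : IsPullback ξ (Spec.map (CommRingCat.ofHom f)) i ψ) : IsIdealOver i (RingHom.ker f) ψ := by
  let e : A ⧸ RingHom.ker f ≃+* C := RingHom.quotientKerEquivOfSurjective hf
  have he : ∀ a, e (Ideal.Quotient.mk _ a) = f a := fun a => RingHom.kerLift_mk f a
  let e' : Spec (.of C) ≅ Spec (.of (A ⧸ RingHom.ker f)) := Scheme.Spec.mapIso e.toCommRingCatIso.op
  refine ⟨e'.inv ≫ ξ, IsPullback.of_iso h e' (Iso.refl _) (Iso.refl _) (Iso.refl _) ?_ ?_ ?_ ?_⟩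
  · simp
  · change Spec.map _ ≫ 𝟙 _ = Spec.map _ ≫ Spec.map _
    rw [Category.comp_id, ← Spec.map_comp]
    congr 1
  · simp
  · simp

theorem isPullback_id_of_mono {W Y : Scheme.{u}} (δ : W ⟶ Y) (ψ : Y ⟶ X) [Mono ψ] :
    IsPullback (𝟙 W) δ (δ ≫ ψ) ψ :=
  ⟨⟨by simp⟩, ⟨PullbackCone.IsLimit.mk _ (fun s => s.fst) (fun s => by simp)
    (fun s => by rw [← cancel_mono ψ, Category.assoc, s.condition])
    (fun s m h1 _ => by simpa using h1)⟩⟩

/-- A chart for the base change: choose an affine open of `X'` mapping into the chart. -/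
theorem exists_lift_chart {X' : Scheme.{u}} (g : X' ⟶ X) {A : Type u} [CommRing A] (ψ : Spec (.of A) ⟶ X)
    [IsOpenImmersion ψ] (x' : X') (hx : g x' ∈ Set.range ψ) :
    ∃ (B : Type u) (_ : CommRing B) (φ : A →+* B) (ψ' : Spec (.of B) ⟶ X'), IsOpenImmersion ψ' ∧
      x' ∈ Set.range ψ' ∧ ψ' ≫ g = Spec.map (CommRingCat.ofHom φ) ≫ ψ := by
  obtain ⟨U', hU', hx', hle⟩ : ∃ U' : X'.Opens, IsAffineOpen U' ∧ x' ∈ U' ∧ U' ≤ g ⁻¹ᵁ ψ.opensRange := by
    obtain ⟨_, ⟨U', hU', rfl⟩, hx', hle⟩ := X'.isBasis_affineOpens.exists_subset_of_mem_open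
      (show x' ∈ ((g ⁻¹ᵁ ψ.opensRange : X'.Opens) : Set X') from hx) (g ⁻¹ᵁ ψ.opensRange).2
    exact ⟨U', hU', hx', hle⟩
  have hr : Set.range (hU'.fromSpec ≫ g) ⊆ Set.range ψ := by
    rintro _ ⟨y, rfl⟩
    rw [Scheme.Hom.comp_apply]
    exact hle (by
      have : hU'.fromSpec y ∈ Set.range hU'.fromSpec := ⟨y, rfl⟩
      rwa [hU'.range_fromSpec] at this)
  let δ : Spec Γ(X', U') ⟶ Spec (.of A) := IsOpenImmersion.lift ψ (hU'.fromSpec ≫ g) hr
  have hδ : δ ≫ ψ = hU'.fromSpec ≫ g := IsOpenImmersion.lift_fac _ _ _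
  refine ⟨Γ(X', U'), inferInstance, (Spec.preimage δ).hom, hU'.fromSpec, inferInstance, ?_, ?_⟩
  · rw [hU'.range_fromSpec]; exact hx'
  · rw [CommRingCat.ofHom_hom, Spec.map_preimage, hδ]

theorem chartAt_baseChange {k : Kind} (hk : k ≠ .regular) {Z' X' : Scheme.{u}} {i : Z ⟶ X} {g : X' ⟶ X}
    {i' : Z' ⟶ X'} {g' : Z' ⟶ Z} (sq : IsPullback g' i' i g) [Flat g] (z' : Z')
    (h : ChartAt k i (g' z')) : ChartAt k i' z' := by
  obtain ⟨A, _, rs, ψ, hψ, hz, hrs, hI⟩ := h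
  have hx : g (i' z') ∈ Set.range ψ := by
    have : g (i' z') = i (g' z') := by
      rw [← Scheme.Hom.comp_apply, ← Scheme.Hom.comp_apply, sq.w]
    rw [this]; exact hz
  obtain ⟨B, _, φ, ψ', hψ', hz', hc⟩ := exists_lift_chart g ψ (i' z') hx
  have hφ : φ.Flat := by
    have h1 : Flat (Spec.map (CommRingCat.ofHom φ) ≫ ψ) := by rw [← hc]; infer_instance
    have h2 : Flat (Spec.map (CommRingCat.ofHom φ)) :=
      MorphismProperty.of_isPullback (P := @Flat) (isPullback_id_of_mono _ ψ) h1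
    exact (HasRingHomProperty.Spec_iff (P := @Flat)).1 h2
  refine ⟨B, inferInstance, rs.map φ, ψ', hψ', hz', K637.SeqKind.seq_map_flat hk φ hφ hrs, ?_⟩
  rw [← K637.SeqKind.map_ofList]
  exact hI.baseChange sq φ ψ' hc

/-- Flat base change of regular immersions of kind koszul, h1, quasi. -/
theorem isRegularImmersion_baseChange {k : Kind} (hk : k ≠ .regular) {Z' X' : Scheme.{u}} {i : Z ⟶ X} {g : X' ⟶ X}
    {i' : Z' ⟶ X'} {g' : Z' ⟶ Z} (sq : IsPullback g' i' i g) [Flat g] (h : IsRegularImmersion k i) :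
    IsRegularImmersion k i' := by
  refine ⟨MorphismProperty.of_isPullback (P := @IsImmersion) sq h.1, fun z' => ?_⟩
  rw [isRegularImmersionAt_iff hk]
  exact chartAt_baseChange hk sq z' ((isRegularImmersionAt_iff hk).1 (h.2 _))

end K637.RegOps
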