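import Groth.Agent.AlgSp.K637.EtTarget

/-!
# Represented pullbacks of composites
-/

set_option autoImplicit false
universe u
open CategoryTheory CategoryTheory.Limits AlgebraicGeometry
open AlgSp

namespace K637.RepComp

variable {S : Scheme.{u}}

/-- A represented pullback of a composite `f ≫ g` with `g` representable factors as two represented pullbacks. -/
theorem exists_factor {F G H : Sp S} {f : F ⟶ G} {g : G ⟶ H} (hg : Representable g) {V W : Over S}
    {b : (yon S).obj V ⟶ H} {fst : (yon S).obj W ⟶ F} {snd : W ⟶ V}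
    (sq : IsPullback fst ((yon S).map snd) (f ≫ g) b) :
    ∃ (V₁ : Over S) (y : (yon S).obj V₁ ⟶ G) (s₂ : V₁ ⟶ V) (s₁ : W ⟶ V₁),
      IsPullback y ((yon S).map s₂) g b ∧ IsPullback fst ((yon S).map s₁) f y ∧ s₁ ≫ s₂ = snd := by
  obtain ⟨V₁, s₂, y, sqg⟩ := hg b
  have hw : (fst ≫ f) ≫ g = (yon S).map snd ≫ b := by rw [Category.assoc]; exact sq.w
  obtain ⟨s₁, hs₁⟩ := (yon S).map_surjective (sqg.lift (fst ≫ f) ((yon S).map snd) hw)
  have h1 : (yon S).map s₁ ≫ y = fst ≫ f := by rw [hs₁]; exact sqg.lift_fst _ _ _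
  have h2 : (yon S).map s₁ ≫ (yon S).map s₂ = (yon S).map snd := by rw [hs₁]; exact sqg.lift_snd _ _ _
  refine ⟨V₁, y, s₂, s₁, sqg, ?_, ?_⟩
  · refine IsPullback.of_bot ?_ h1.symm sqg
    rw [h2]
    exact sq
  · apply (yon S).map_injective
    rw [Functor.map_comp, h2]

/-- The base change of an etale chart of the target along a representable morphism is an etale chart. -/
theorem etale_of_isPullback {F G : Sp S} {f : F ⟶ G} {V V₁ : Over S} {b : (yon S).obj V ⟶ G}
    {y : (yon S).obj V₁ ⟶ F} {s : V₁ ⟶ V} (sq : IsPullback y ((yon S).map s) f b) (hb : RepWith @Etale b) :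
    RepWith @Etale y :=
  MorphismProperty.of_isPullback (P := RepWith @Etale) sq.flip hb

end K637.RepComp
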