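import Groth.Prelude.Def_CAlgX
import Mathlib.RingTheory.Flat.EquationalCriterion
import Mathlib.RingTheory.RingHom.Flat
import Mathlib.RingTheory.Polynomial.Basic

/-!
# Flat base change of `H_1`-regular and quasi-regular sequences
-/

set_option autoImplicit false
universe u v

namespace K637.SeqFlat

open MvPolynomial

variable {A : Type u} {B : Type v} [CommRing A] [CommRing B]

theorem isH1Regular_map {c : ℕ} (φ : A →+* B) (hφ : φ.Flat) (f : Fin c → A) (hf : CAlgX.IsH1Regular f) :
    CAlgX.IsH1Regular (fun i => φ (f i)) := by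
  intro a ha
  let _ := φ.toAlgebra
  have : Module.Flat A B := hφ
  have h0 : ∑ i, f i • a i = 0 := by
    rw [← ha]
    exact Finset.sum_congr rfl fun i _ => by rw [Algebra.smul_def, mul_comm]; rfl
  obtain ⟨k, b, y, hb, hrel⟩ := Module.Flat.isTrivialRelation_of_sum_smul_eq_zero h0
  have hmem : ∀ j, (fun i => b i j) ∈ Submodule.span A {v : Fin c → A | ∃ i j : Fin c,
      v = Pi.single i (f j) - Pi.single j (f i)} := fun j =>
    hf _ (by rw [← hrel j]; exact Finset.sum_congr rfl fun i _ => mul_comm _ _)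
  have himg : ∀ v : Fin c → A, v ∈ Submodule.span A {v : Fin c → A | ∃ i j : Fin c,
      v = Pi.single i (f j) - Pi.single j (f i)} →
      (fun i => φ (v i)) ∈ Submodule.span B {v : Fin c → B | ∃ i j : Fin c,
        v = Pi.single i (φ (f j)) - Pi.single j (φ (f i))} := by
    intro v hv
    induction hv using Submodule.span_induction with
    | mem v hv =>
      obtain ⟨i, j, rfl⟩ := hv
      refine Submodule.subset_span ⟨i, j, ?_⟩
      funext l
      simp only [Pi.sub_apply, map_sub, Pi.single_apply]
      split_ifs <;> simp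
    | zero =>
      have h0 : (fun i => φ ((0 : Fin c → A) i)) = (0 : Fin c → B) := by funext i; simp
      rw [h0]; exact Submodule.zero_mem _
    | add x y _ _ hx hy =>
      have := Submodule.add_mem _ hx hy
      convert this using 1
      funext i
      simp
    | smul r x _ hx =>
      have := Submodule.smul_mem _ (φ r) hx
      convert this using 1
      funext i
      simp
  have ha' : a = ∑ j, y j • (fun i => φ (b i j)) := by
    funext i
    rw [hb i, Finset.sum_apply]
    refine Finset.sum_congr rfl fun j _ => ?_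
    rw [Algebra.smul_def, Pi.smul_apply, smul_eq_mul, mul_comm]
    rfl
  rw [ha']
  exact Submodule.sum_mem _ fun j _ => Submodule.smul_mem _ _ (himg _ (hmem j))

theorem exists_hom_eval {c : ℕ} (f : Fin c → A) (n : ℕ) (r : A)
    (hr : r ∈ Ideal.span (Set.range f) ^ (n + 1)) :
    ∃ Q : MvPolynomial (Fin c) A, Q.IsHomogeneous n ∧ Q ∈ (Ideal.span (Set.range f)).map (C : A →+* MvPolynomial (Fin c) A) ∧
      eval f Q = r := by
  induction n generalizing r with
  | zero =>
    rw [zero_add, pow_one] at hr
    exact ⟨C r, isHomogeneous_C _ _, Ideal.mem_map_of_mem _ hr, by simp⟩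
  | succ n ih =>
    rw [pow_succ] at hr
    induction hr using Submodule.mul_induction_on' with
    | mem_mul_mem a ha b hb =>
      obtain ⟨Q, hQ1, hQ2, hQ3⟩ := ih a ha
      rw [Ideal.mem_span_range_iff_exists_fun] at hb
      obtain ⟨w, hw⟩ := hb
      refine ⟨Q * ∑ i, C (w i) * X i, ?_, Ideal.mul_mem_right _ _ hQ2, ?_⟩
      · refine hQ1.mul (IsHomogeneous.sum _ _ _ fun i _ => ?_)
        have := (isHomogeneous_C (Fin c) (w i)).mul (isHomogeneous_X A i)
        rwa [zero_add] at this
      · rw [map_mul, hQ3, map_sum, ← hw]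
        simp
    | add a _ b _ ha hb =>
      obtain ⟨Q, hQ1, hQ2, hQ3⟩ := ha
      obtain ⟨Q', hQ1', hQ2', hQ3'⟩ := hb
      exact ⟨Q + Q', hQ1.add hQ1', Ideal.add_mem _ hQ2 hQ2', by rw [map_add, hQ3, hQ3']⟩

theorem isQuasiRegular_iff {c : ℕ} (f : Fin c → A) : CAlgX.IsQuasiRegular f ↔
    ∀ (n : ℕ) (P : MvPolynomial (Fin c) A), P.IsHomogeneous n → eval f P = 0 →
      ∀ d : Fin c →₀ ℕ, P.coeff d ∈ Ideal.span (Set.range f) := by
  constructor
  · intro h n P hP h0
    exact h n P hP (by rw [h0]; exact Ideal.zero_mem _)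
  · intro h n P hP h0 d
    obtain ⟨Q, hQ1, hQ2, hQ3⟩ := exists_hom_eval f n _ h0
    have h1 := h n (P - Q) (by
      rw [sub_eq_add_neg]
      exact hP.add (by simpa using hQ1.neg)) (by rw [map_sub, hQ3, sub_self]) d
    rw [coeff_sub] at h1
    have h2 := (mem_map_C_iff.1 hQ2) d
    have := Ideal.add_mem _ h1 h2
    rwa [sub_add_cancel] at this

theorem isQuasiRegular_map {c : ℕ} (φ : A →+* B) (hφ : φ.Flat) (f : Fin c → A) (hf : CAlgX.IsQuasiRegular f) :
    CAlgX.IsQuasiRegular (fun i => φ (f i)) := by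
  rw [isQuasiRegular_iff]
  intro n P hP hev d
  let _ := φ.toAlgebra
  have : Module.Flat A B := hφ
  by_cases hd : d ∈ P.support
  swap
  · rw [mem_support_iff, not_not] at hd
    rw [hd]
    exact Ideal.zero_mem _
  have h0 : ∑ e : P.support, (e.1.prod fun i k => f i ^ k) • P.coeff e.1 = 0 := by
    rw [← hev, eval_eq, ← Finset.sum_coe_sort P.support]
    refine Finset.sum_congr rfl fun e _ => ?_
    rw [Algebra.smul_def, mul_comm]
    congr 1
    change φ _ = _
    rw [Finsupp.prod, map_prod]
    simp only [map_pow]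
  obtain ⟨k, b, y, hb, hrel⟩ := Module.Flat.isTrivialRelation_of_sum_smul_eq_zero h0
  have hJ : ∀ j, b ⟨d, hd⟩ j ∈ Ideal.span (Set.range f) := by
    intro j
    let Q : MvPolynomial (Fin c) A := ∑ e : P.support, monomial e.1 (b e j)
    have hQ : Q.IsHomogeneous n := by
      refine IsHomogeneous.sum _ _ _ fun e _ => ?_
      refine isHomogeneous_monomial _ ?_
      have := hP (mem_support_iff.1 e.2)
      rw [Finsupp.degree_eq_weight_one]
      exact this
    have hQ0 : eval f Q = 0 := by
      rw [map_sum, ← hrel j]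
      refine Finset.sum_congr rfl fun e _ => ?_
      rw [eval_monomial, mul_comm]
    have h1 := (isQuasiRegular_iff f).1 hf n Q hQ hQ0 d
    have h2 : Q.coeff d = b ⟨d, hd⟩ j := by
      rw [coeff_sum]
      simp only [coeff_monomial]
      rw [Finset.sum_eq_single ⟨d, hd⟩]
      · simp
      · rintro ⟨e, he⟩ _ hne
        rw [if_neg]
        rintro rfl
        exact hne rfl
      · intro h
        exact absurd (Finset.mem_univ _) h
    rwa [h2] at h1
  have hmap : (Ideal.span (Set.range f)).map φ = Ideal.span (Set.range fun i => φ (f i)) := by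
    rw [Ideal.map_span, ← Set.range_comp]
    rfl
  have h3 := hb ⟨d, hd⟩
  change P.coeff d = _ at h3
  rw [h3, ← hmap]
  refine Ideal.sum_mem _ fun j _ => ?_
  rw [Algebra.smul_def]
  exact Ideal.mul_mem_right _ _ (Ideal.mem_map_of_mem _ (hJ j))

end K637.SeqFlat
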