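import Groth.Agent.AlgSp.K637.SeqFlat
import Groth.Agent.AlgSp.K637.RegImmKinds
import Groth.Agent.CalgB.QuasiRegularAppend
import Groth.Agent.Flat2H.KoszulBC
import Groth.Agent.S2105

/-!
# Sequences of kind `k` (koszul, h1, quasi): flat base change and concatenation
-/

set_option autoImplicit false
universe u

namespace K637.SeqKind

open RegImm

variable {A B : Type u} [CommRing A] [CommRing B]

theorem h1_cast {n m : ℕ} (e : n = m) (f : Fin n → A) (g : Fin m → A) (h : ∀ i, f i = g (Fin.cast e i)) :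
    CAlgX.IsH1Regular f ↔ CAlgX.IsH1Regular g := by
  subst e
  obtain rfl : f = g := funext h
  rfl

theorem quasi_cast {n m : ℕ} (e : n = m) (f : Fin n → A) (g : Fin m → A) (h : ∀ i, f i = g (Fin.cast e i)) :
    CAlgX.IsQuasiRegular f ↔ CAlgX.IsQuasiRegular g := by
  subst e
  obtain rfl : f = g := funext h
  rfl

theorem h1_get_ofFn {n : ℕ} (f : Fin n → A) : CAlgX.IsH1Regular (List.ofFn f).get ↔ CAlgX.IsH1Regular f :=
  h1_cast (List.length_ofFn) _ _ fun i => by simp; rfl

theorem quasi_get_ofFn {n : ℕ} (f : Fin n → A) :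
    CAlgX.IsQuasiRegular (List.ofFn f).get ↔ CAlgX.IsQuasiRegular f :=
  quasi_cast (List.length_ofFn) _ _ fun i => by simp; rfl

omit [CommRing A] [CommRing B] in
theorem map_ofFn_get (l : List A) (φ : A → B) : l.map φ = List.ofFn (fun i => φ (l.get i)) := by
  conv_lhs => rw [← List.ofFn_get l]
  rw [List.map_ofFn]
  rfl

/-- Flat base change of sequences of kind `k`. -/
theorem seq_map_flat {k : Kind} (hk : k ≠ .regular) (φ : A →+* B) (hφ : φ.Flat) {rs : List A}
    (h : k.Seq A rs) : k.Seq B (rs.map φ) := by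
  cases k with
  | regular => exact absurd rfl hk
  | koszul => exact Groth.Agent.Flat2H.KoszulBC.IsKoszulRegularSeq_map_of_flat h φ hφ
  | h1 =>
    change CAlgX.IsH1Regular _
    rw [map_ofFn_get, h1_get_ofFn]
    exact K637.SeqFlat.isH1Regular_map φ hφ _ h
  | quasi =>
    change CAlgX.IsQuasiRegular _
    rw [map_ofFn_get, quasi_get_ofFn]
    exact K637.SeqFlat.isQuasiRegular_map φ hφ _ h

theorem ofList_eq_span_range (l : List A) : Ideal.ofList l = Ideal.span (Set.range l.get) := by
  rw [Ideal.ofList]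
  congr 1
  ext x
  simp [List.mem_iff_get]

theorem map_ofList (φ : A →+* B) (l : List A) : (Ideal.ofList l).map φ = Ideal.ofList (l.map φ) :=
  Ideal.map_ofList φ l

omit [CommRing A] in
theorem append_eq_ofFn (l m : List A) : l ++ m = List.ofFn (Fin.append l.get m.get) := by
  rw [List.ofFn_fin_append, List.ofFn_get, List.ofFn_get]

theorem seq_append_koszul {l m : List A} (h : Kind.koszul.Seq A l)
    (h' : Kind.koszul.Seq (A ⧸ Ideal.ofList l) (m.map (Ideal.Quotient.mk (Ideal.ofList l)))) :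
    Kind.koszul.Seq A (l ++ m) := by
  have := (Groth.Agent.Flat2H.KoszulBC.isKoszulRegularSeq_append_iff (l := m) (m := l) h).2 h'
  exact (Groth.Agent.Flat2H.KoszulBC.isKoszulRegularSeq_perm_iff List.perm_append_comm).1 this

theorem h1_quot_congr {I J : Ideal A} (e : I = J) {n : ℕ} (g : Fin n → A)
    (h : CAlgX.IsH1Regular (fun j => Ideal.Quotient.mk I (g j))) :
    CAlgX.IsH1Regular (fun j => Ideal.Quotient.mk J (g j)) := by
  subst e; exact h

theorem seq_append_h1 {l m : List A} (h : Kind.h1.Seq A l)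
    (h' : Kind.h1.Seq (A ⧸ Ideal.ofList l) (m.map (Ideal.Quotient.mk (Ideal.ofList l)))) :
    Kind.h1.Seq A (l ++ m) := by
  change CAlgX.IsH1Regular _
  rw [append_eq_ofFn, h1_get_ofFn]
  refine Groth.Agent.S2105.result _ _ h ?_
  change CAlgX.IsH1Regular _ at h'
  rw [map_ofFn_get, h1_get_ofFn] at h'
  exact h1_quot_congr (ofList_eq_span_range l) _ h'

theorem seq_append_quasi {l m : List A} (h : Kind.quasi.Seq A l)
    (h' : Kind.h1.Seq (A ⧸ Ideal.ofList l) (m.map (Ideal.Quotient.mk (Ideal.ofList l)))) :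
    Kind.quasi.Seq A (l ++ m) := by
  change CAlgX.IsQuasiRegular _
  rw [append_eq_ofFn, quasi_get_ofFn]
  refine Groth.Agent.CalgB.QuasiRegularAppend.isQuasiRegular_append _ _ h ?_
  change CAlgX.IsH1Regular _ at h'
  rw [map_ofFn_get, h1_get_ofFn] at h'
  exact h1_quot_congr (ofList_eq_span_range l) _ h'

end K637.SeqKind
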