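import Groth.Agent.AlgSp.K637.UltraSec
import Groth.Agent.AlgSp.K634.Desc
import Groth.Agent.AlgSp.K609.Sep
import Groth.Agent.AlgSp.K610.Base

/-!
# A cover of a quasi-separated algebraic space with finitely many exhausting lifts to an affine chart

* `exists_cover`: let `X` be a quasi-separated algebraic space over `S`, `p : h_W ⟶ X` étale with `W` affine. There
  is a reduced affine scheme `T` with a surjective `t : T ⟶ W` and finitely many `σ_k : T ⟶ W` over `X` such that
  every point of `T ×_X W` lies on the graph of one of the `σ_k`.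
-/

set_option autoImplicit false
universe u
open CategoryTheory CategoryTheory.Limits AlgebraicGeometry Opposite AlgSp

namespace K637.UltraCov

open UltraSec

/-- The fields: algebraic closures of the residue fields. -/
abbrev KK (W : Scheme.{u}) (w : W) : Type u := AlgebraicClosure (W.residueField w)

/-- The geometric point of `w`. -/
noncomputable def geo (W : Scheme.{u}) (w : W) : Spec (CommRingCat.of (KK W w)) ⟶ W :=
  Spec.map (CommRingCat.ofHom (algebraMap (W.residueField w) (KK W w))) ≫ W.fromSpecResidueField w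

theorem geo_apply (W : Scheme.{u}) (w : W) (z) : geo W w z = w := by
  rw [geo, Scheme.Hom.comp_apply]
  exact Scheme.fromSpecResidueField_apply _ _

/-- A reduced affine scheme with a surjective morphism to the affine scheme `W`, whose étale affine schemes have
finitely many jointly surjective sections. -/
theorem exists_scheme (W : Scheme.{u}) [IsAffine W] :
    ∃ (T : Scheme.{u}) (t : T ⟶ W), IsAffine T ∧ IsReduced T ∧ Surjective t ∧
      ∀ {E : Scheme.{u}} [IsAffine E] (f : E ⟶ T) [Etale f] [Surjective f],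
        ∃ (n : ℕ) (σ : Fin n → (T ⟶ E)), (∀ k, σ k ≫ f = 𝟙 _) ∧ ∀ e : E, ∃ k t, σ k t = e := by
  choose τ hτ using fun w => Spec.map_surjective (geo W w ≫ W.isoSpec.hom)
  let t : Spec (A (KK W)) ⟶ W := Spec.map (CommRingCat.ofHom (RingHom.pi fun w => (τ w).hom)) ≫ W.isoSpec.inv
  have ht : ∀ w, ev (KK W) w ≫ t = geo W w := fun w => by
    have h1 : CommRingCat.ofHom (RingHom.pi fun w => (τ w).hom) ≫
      CommRingCat.ofHom (Pi.evalRingHom (KK W) w) = τ w := by
      ext b
      rfl
    rw [← Category.assoc, ← Spec.map_comp, h1, hτ, Category.assoc, Iso.hom_inv_id, Category.comp_id]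
  refine ⟨Spec (A (KK W)), t, inferInstance, inferInstance, ⟨fun w => ?_⟩, fun f => exists_sections _ f⟩
  exact ⟨ev (KK W) w (IsLocalRing.closedPoint _), by
    rw [← Scheme.Hom.comp_apply, ht, geo_apply]⟩

variable {S : Scheme.{u}}

theorem exists_cover [QuasiSeparatedSpace ↥S] {X : Sp S} (hqs : IsQuasiSeparatedSp X)
    {W : Over S} (hW : IsAffine W.left) (p : (yon S).obj W ⟶ X) (hp : RepWith @Etale p) :
    ∃ (T : Over S) (t : T ⟶ W), IsAffine T.left ∧ IsReduced T.left ∧ Surjective t.left ∧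
      ∃ (n : ℕ) (σ : Fin n → (T ⟶ W)), (∀ k, (yon S).map (σ k) ≫ p = (yon S).map t ≫ p) ∧
        ∀ (E : Over S) (a : E ⟶ T) (b : E ⟶ W),
          IsPullback ((yon S).map a) ((yon S).map b) ((yon S).map t ≫ p) p →
            ∀ e : ↥E.left, ∃ (k : Fin n) (s : T ⟶ E) (x : ↥T.left), s ≫ a = 𝟙 _ ∧ s ≫ b = σ k ∧ s.left x = e := by
  obtain ⟨T₀, t₀, hT1, hT2, hT3, hT4⟩ := exists_scheme W.left
  let T : Over S := Over.mk (t₀ ≫ W.hom)
  let t : T ⟶ W := Over.homMk t₀ rfl
  have hTa : IsAffine T.left := hT1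
  -- the base change of the chart
  obtain ⟨E, a, b, sq⟩ : ∃ (E : Over S) (a : E ⟶ T) (b : E ⟶ W),
      IsPullback ((yon S).map a) ((yon S).map b) ((yon S).map t ≫ p) p := by
    obtain ⟨V, v, fst, sq⟩ := hp.1 ((yon S).map t ≫ p)
    obtain ⟨b, rfl⟩ := (yon S).map_surjective fst
    exact ⟨V, v, b, sq.flip⟩
  have hEc : CompactSpace ↥E.left := K609.Sep.compactSpace_pullback hqs sq
  have ha : Etale a.left := hp.2 _ _ _ sq.flip
  -- the diagonal section
  obtain ⟨s₀, hs₀⟩ := (yon S).map_surjective (sq.lift (𝟙 _) ((yon S).map t) (by rw [Category.id_comp]))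
  have hs₀a : s₀ ≫ a = 𝟙 _ := (yon S).map_injective (by
    rw [Functor.map_comp, hs₀, sq.lift_fst, (yon S).map_id])
  have has : Surjective a.left := ⟨fun x => ⟨s₀.left x, by
    rw [← Scheme.Hom.comp_apply, ← Over.comp_left, hs₀a]; rfl⟩⟩
  obtain ⟨E', g, hE'1, hg1, hg2⟩ := K634.Desc.exists_affine_refinement (𝟙 E.left) IsOpenMap.id
  rw [Category.comp_id] at hg2
  have h3 : Etale (g ≫ a.left) := inferInstance
  have h4 : Surjective (g ≫ a.left) := inferInstance
  obtain ⟨n, s, hs1, hs2⟩ := hT4 (g ≫ a.left)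
  let s' : Fin n → (T ⟶ E) := fun k => Over.homMk (s k ≫ g) (by
    rw [Category.assoc, ← Over.w a, ← Category.assoc g, ← Category.assoc, hs1]
    exact Category.id_comp _)
  have hs'a : ∀ k, s' k ≫ a = 𝟙 _ := fun k => Over.OverMorphism.ext (by
    change (s k ≫ g) ≫ a.left = 𝟙 _
    rw [Category.assoc, hs1])
  refine ⟨T, t, hT1, hT2, hT3, n, fun k => s' k ≫ b, fun k => ?_, fun E₁ a₁ b₁ sq₁ e => ?_⟩
  · rw [Functor.map_comp, Category.assoc, ← sq.w, ← Category.assoc, ← Functor.map_comp, hs'a, (yon S).map_id,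
      Category.id_comp]
  · obtain ⟨u, hu⟩ := (yon S).map_surjective (sq.lift _ _ sq₁.w)
    obtain ⟨v, hv⟩ := (yon S).map_surjective (sq₁.lift _ _ sq.w)
    have hua : u ≫ a = a₁ := (yon S).map_injective (by rw [Functor.map_comp, hu, sq.lift_fst])
    have hub : u ≫ b = b₁ := (yon S).map_injective (by rw [Functor.map_comp, hu, sq.lift_snd])
    have hva : v ≫ a₁ = a := (yon S).map_injective (by rw [Functor.map_comp, hv, sq₁.lift_fst])
    have hvb : v ≫ b₁ = b := (yon S).map_injective (by rw [Functor.map_comp, hv, sq₁.lift_snd])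
    have huv : u ≫ v = 𝟙 _ := (yon S).map_injective (sq₁.hom_ext
      (by rw [← Functor.map_comp, Category.assoc, hva, hua]; simp)
      (by rw [← Functor.map_comp, Category.assoc, hvb, hub]; simp))
    obtain ⟨e', he'⟩ := hg2.surj (u.left e)
    obtain ⟨k, x, hx⟩ := hs2 e'
    refine ⟨k, s' k ≫ v, x, by rw [Category.assoc, hva, hs'a], by rw [Category.assoc, hvb], ?_⟩
    change (s' k ≫ v).left x = e
    rw [Over.comp_left, Scheme.Hom.comp_apply]
    change v.left ((s k ≫ g) x) = e
    rw [Scheme.Hom.comp_apply, hx, he', ← Scheme.Hom.comp_apply, ← Over.comp_left, huv]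
    rfl

end K637.UltraCov
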