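import Mathlib.AlgebraicGeometry.AlgClosed.Basic
import Mathlib.AlgebraicGeometry.Morphisms.Etale
import Groth.Agent.S7434
import Groth.Agent.S7441
import Groth.Agent.Unram.K147.LQF

/-!
# Sections of étale morphisms over the spectrum of a product of algebraically closed fields

* `exists_sections`: let `f : E ⟶ Spec (∏ K_i)` be étale and surjective with `E` affine and all `K_i` algebraically
  closed. Then `f` has finitely many jointly surjective sections.
-/

set_option autoImplicit false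
universe u
open CategoryTheory CategoryTheory.Limits AlgebraicGeometry Opposite

namespace K637.UltraSec

theorem exists_point {K : Type u} [Field K] [IsAlgClosed K] {F : Scheme.{u}} (q : F ⟶ Spec (CommRingCat.of K))
    [Etale q] (x : F) : ∃ s : Spec (CommRingCat.of K) ⟶ F, s ≫ q = 𝟙 _ ∧ ∀ z, s z = x := by
  have : LocallyQuasiFinite q := K147.LQF.locallyQuasiFinite_of_etale q
  have : IsLocallyArtinian F := IsLocallyArtinian.of_locallyQuasiFinite q
  have : DiscreteTopology F := inferInstance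
  exact ⟨pointOfClosedPoint q x (isClosed_discrete _), pointOfClosedPoint_comp _ _ _,
    pointOfClosedPoint_apply _ _ _⟩

variable {ι : Type u} (K : ι → Type u) [∀ i, Field (K i)]

/-- The product of the fields. -/
abbrev A : CommRingCat.{u} := CommRingCat.of (∀ i, K i)

/-- The point `Spec K_i ⟶ Spec A`. -/
noncomputable abbrev ev (i : ι) : Spec (CommRingCat.of (K i)) ⟶ Spec (A K) :=
  Spec.map (CommRingCat.ofHom (Pi.evalRingHom K i))

theorem exists_mem_of_ne {U : (Spec (A K)).Opens} {x : Spec (A K)} (hx : x ∈ U) :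
    ∃ (i : ι), ∀ z, ev K i z ∈ U := by
  obtain ⟨_, ⟨a, rfl⟩, hxa, hle⟩ :=
    (PrimeSpectrum.isTopologicalBasis_basic_opens (R := ∀ i, K i)).exists_subset_of_mem_open (a := x)
      (u := U.1) hx U.2
  have ha : a ≠ 0 := by
    rintro rfl
    exact hxa (Ideal.zero_mem _)
  obtain ⟨i, hi⟩ := Function.ne_iff.1 ha
  refine ⟨i, fun z => hle ?_⟩
  change a ∉ (PrimeSpectrum.comap (Pi.evalRingHom K i) z).asIdeal
  rw [PrimeSpectrum.comap_asIdeal, Ideal.mem_comap]
  intro h
  exact z.2.ne_top (Ideal.eq_top_of_isUnit_mem _ h (isUnit_iff_ne_zero.2 hi))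

/-- Finitely many lifts of `Spec K_i ⟶ Spec A`, with a bound independent of `i`, through which all points of the
fibre pass. -/
theorem exists_lifts [∀ i, IsAlgClosed (K i)] {E : Scheme.{u}} (f : E ⟶ Spec (A K)) [Etale f] [Surjective f]
    (n : ℕ) (hf : BddFib.FibreDegLE f n) (i : ι) :
    ∃ s : Fin n → (Spec (CommRingCat.of (K i)) ⟶ E), (∀ k, s k ≫ f = ev K i) ∧
      ∀ (e : E) (z), f e = ev K i z → ∃ k, ∀ z, s k z = e := by
  obtain ⟨h1, h2⟩ := Groth.Agent.S7434.result f n hf (K i) (ev K i)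
  have h3 : Nonempty ↥(pullback f (ev K i)) := by
    have : Surjective (pullback.snd f (ev K i)) := inferInstance
    obtain ⟨x, -⟩ := this.surj (IsLocalRing.closedPoint (K i))
    exact ⟨x⟩
  have h4 : ∃ g : Fin n → ↥(pullback f (ev K i)), Function.Surjective g := by
    have e := Finite.equivFin ↥(pullback f (ev K i))
    refine ⟨fun k => if h : (k : ℕ) < Nat.card ↥(pullback f (ev K i)) then e.symm ⟨k, h⟩ else h3.some, fun x => ?_⟩
    refine ⟨⟨e x, lt_of_lt_of_le (e x).2 h2⟩, ?_⟩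
    simp
  obtain ⟨g, hg⟩ := h4
  choose s hs1 hs2 using fun x => exists_point (pullback.snd f (ev K i)) x
  refine ⟨fun k => s (g k) ≫ pullback.fst f (ev K i), fun k => ?_, fun e z hez => ?_⟩
  · rw [Category.assoc, pullback.condition, ← Category.assoc, hs1, Category.id_comp]
  · obtain ⟨x, hx1, -⟩ := Scheme.Pullback.exists_preimage_pullback (f := f) (g := ev K i) e z hez
    obtain ⟨k, hk⟩ := hg x
    refine ⟨k, fun z => ?_⟩
    rw [Scheme.Hom.comp_apply, hs2, hk, hx1]

theorem exists_sections' [∀ i, IsAlgClosed (K i)] {B : CommRingCat.{u}} (φ : A K ⟶ B) [Etale (Spec.map φ)]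
    [Surjective (Spec.map φ)] :
    ∃ (n : ℕ) (σ : Fin n → (Spec (A K) ⟶ Spec B)), (∀ k, σ k ≫ Spec.map φ = 𝟙 _) ∧
      ∀ e : Spec B, ∃ k t, σ k t = e := by
  have : LocallyQuasiFinite (Spec.map φ) := K147.LQF.locallyQuasiFinite_of_etale _
  obtain ⟨n, hn⟩ := Groth.Agent.S7441.result (Spec.map φ)
  choose s hs1 hs2 using fun i => exists_lifts K (Spec.map φ) n hn i
  choose ψ hψ using fun i k => Spec.map_surjective (s i k)
  let Ψ : Fin n → (B ⟶ A K) := fun k => CommRingCat.ofHom (RingHom.pi fun i => (ψ i k).hom)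
  have hΨ : ∀ i k, Ψ k ≫ CommRingCat.ofHom (Pi.evalRingHom K i) = ψ i k := fun i k => by
    ext b
    rfl
  have h1 : ∀ i k, φ ≫ ψ i k = CommRingCat.ofHom (Pi.evalRingHom K i) := fun i k => by
    apply Spec.map_injective
    rw [Spec.map_comp, hψ, hs1]
  have h2 : ∀ k, φ ≫ Ψ k = 𝟙 _ := fun k => by
    ext a i
    exact congrArg (fun g => g.hom a) (h1 i k)
  have h3 : ∀ k, Spec.map (Ψ k) ≫ Spec.map φ = 𝟙 _ := fun k => by
    rw [← Spec.map_comp, h2, Spec.map_id]
  refine ⟨n, fun k => Spec.map (Ψ k), h3, ?_⟩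
  by_contra hcon
  push Not at hcon
  obtain ⟨e, he⟩ := hcon
  -- the complement of the union of the images
  have hcl : ∀ k, IsClosed (Set.range (Spec.map (Ψ k))) := fun k => by
    have : IsClosedImmersion (Spec.map (Ψ k) ≫ Spec.map φ) := by rw [h3]; infer_instance
    have := IsClosedImmersion.of_comp (Spec.map (Ψ k)) (Spec.map φ)
    exact (Spec.map (Ψ k)).isClosedEmbedding.isClosed_range
  have hcl' : IsClosed (⋃ k, Set.range (Spec.map (Ψ k))) := isClosed_iUnion_of_finite hcl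
  have hop : IsOpen (Spec.map φ '' (⋃ k, Set.range (Spec.map (Ψ k)))ᶜ) :=
    (Spec.map φ).isOpenMap _ hcl'.isOpen_compl
  have hmem : e ∈ (⋃ k, Set.range (Spec.map (Ψ k)))ᶜ := by
    intro h
    obtain ⟨k, t, ht⟩ := Set.mem_iUnion.1 h
    exact he k t ht
  obtain ⟨i, hi⟩ := exists_mem_of_ne K (U := ⟨_, hop⟩) (x := Spec.map φ e) ⟨e, hmem, rfl⟩
  obtain ⟨e', he', h4⟩ := hi (IsLocalRing.closedPoint (K i))
  obtain ⟨k, hk⟩ := hs2 i e' _ h4
  refine he' (Set.mem_iUnion.2 ⟨k, ev K i (IsLocalRing.closedPoint (K i)), ?_⟩)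
  rw [← hk (IsLocalRing.closedPoint (K i)), ← hψ i k, ← hΨ i k, Spec.map_comp, Scheme.Hom.comp_apply]

/-- **Theorem.** An étale surjective affine scheme over the spectrum of a product of algebraically closed fields has
finitely many jointly surjective sections. -/
theorem exists_sections [∀ i, IsAlgClosed (K i)] {E : Scheme.{u}} [IsAffine E] (f : E ⟶ Spec (A K)) [Etale f]
    [Surjective f] :
    ∃ (n : ℕ) (σ : Fin n → (Spec (A K) ⟶ E)), (∀ k, σ k ≫ f = 𝟙 _) ∧ ∀ e : E, ∃ k t, σ k t = e := by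
  obtain ⟨φ, hφ⟩ := Spec.map_surjective (E.isoSpec.inv ≫ f)
  have h1 : Etale (Spec.map φ) := by rw [hφ]; infer_instance
  have h2 : Surjective (Spec.map φ) := by rw [hφ]; infer_instance
  obtain ⟨n, σ, h3, h4⟩ := exists_sections' K φ
  refine ⟨n, fun k => σ k ≫ E.isoSpec.inv, fun k => ?_, fun e => ?_⟩
  · rw [Category.assoc, ← hφ, h3]
  · obtain ⟨k, t, ht⟩ := h4 (E.isoSpec.hom e)
    refine ⟨k, t, ?_⟩
    rw [Scheme.Hom.comp_apply, ht]
    simp

end K637.UltraSec
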